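import Mathlib

/-!
Avoiding a few subspaces over a finite field.
-/

set_option autoImplicit false
set_option linter.unusedSectionVars false

namespace Cfsg.Agent.Lib.SLCommutator

open Module

universe u

variable {F : Type u} [Field F] [Fintype F] {D X : Type u} [AddCommGroup D] [Module F D] [Fintype D] [AddCommGroup X]
  [Module F X]

open Classical in
theorem card_fibre_mul_le (g : D →ₗ[F] X) (c : X) (h : ∃ d, g d ≠ c) :
    (Finset.univ.filter fun d => g d = c).card * Fintype.card F ≤ Fintype.card D := by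
  rcases (Finset.univ.filter fun d => g d = c).eq_empty_or_nonempty with he | ⟨d₀, hd₀⟩
  · simp [he]
  obtain ⟨d₁, hd₁⟩ := h
  have h0 : g d₀ = c := (Finset.mem_filter.1 hd₀).2
  rw [← Finset.card_univ (α := F), ← Finset.card_product, ← Finset.card_univ (α := D)]
  refine Finset.card_le_card_of_injOn (fun x => x.1 + x.2 • (d₁ - d₀)) (fun _ _ => Finset.mem_univ _) ?_
  rintro ⟨a, t⟩ hx ⟨b, s⟩ hy hxy
  simp only [Finset.coe_product, Set.mem_prod, Finset.mem_coe, Finset.mem_filter] at hx hy
  have hg := congrArg g hxy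
  simp only [map_add, map_smul, map_sub, h0, hx.1.2, hy.1.2, add_right_inj] at hg
  have hts : t = s := smul_left_injective F (sub_ne_zero.2 hd₁) hg
  subst hts
  simpa using hxy

/-- A space over a field with `q` elements is not covered by `q` proper subspaces. -/
theorem exists_avoid [Nontrivial D] {ι : Type*} [Fintype ι] (hι : Fintype.card ι ≤ Fintype.card F) (S : ι → Submodule F D)
    (hS : ∀ i, S i ≠ ⊤) : ∃ d : D, d ≠ 0 ∧ ∀ i, d ∉ S i := by
  classical
  by_contra hne
  push Not at hne
  have hnt : ∀ i, ∃ d, (S i).mkQ d ≠ (0 : D ⧸ S i) := fun i => by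
    obtain ⟨d, -, hd⟩ := SetLike.exists_of_lt (lt_top_iff_ne_top.2 (hS i))
    exact ⟨d, fun h => hd ((Submodule.Quotient.mk_eq_zero _).1 h)⟩
  have hle : ∀ i, ((Finset.univ.filter fun d => d ∈ S i).erase 0).card * Fintype.card F + Fintype.card F ≤ Fintype.card D := by
    intro i
    have h := card_fibre_mul_le (S i).mkQ 0 (hnt i)
    simp only [Submodule.mkQ_apply, Submodule.Quotient.mk_eq_zero] at h
    rw [← Finset.card_erase_add_one (Finset.mem_filter.2 ⟨Finset.mem_univ _, (S i).zero_mem⟩), add_mul, one_mul] at h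
    exact h
  have hcov : (Finset.univ.erase (0 : D)) ⊆ Finset.univ.biUnion fun i => (Finset.univ.filter fun d => d ∈ S i).erase 0 := by
    intro d hd
    obtain ⟨i, hi⟩ := hne d (Finset.ne_of_mem_erase hd)
    exact Finset.mem_biUnion.2 ⟨i, Finset.mem_univ _, Finset.mem_erase.2 ⟨Finset.ne_of_mem_erase hd, by simp [hi]⟩⟩
  have h1 := (Finset.card_le_card hcov).trans Finset.card_biUnion_le
  have h2 := Finset.sum_le_sum fun i (_ : i ∈ Finset.univ) => hle i
  rw [Finset.sum_add_distrib, Finset.sum_const, Finset.sum_const, smul_eq_mul, smul_eq_mul, ← Finset.sum_mul,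
    Finset.card_univ] at h2
  rw [Finset.card_erase_of_mem (Finset.mem_univ _), Finset.card_univ] at h1
  have hD : 1 ≤ Fintype.card D := Fintype.card_pos
  have h3 := Nat.mul_le_mul_right (Fintype.card F) h1
  have hq : 2 ≤ Fintype.card F := Fintype.one_lt_card
  have hD2 : 2 ≤ Fintype.card D := Fintype.one_lt_card
  rw [Nat.sub_mul, one_mul] at h3
  have hDF : 2 * Fintype.card F ≤ Fintype.card D * Fintype.card F := Nat.mul_le_mul_right _ hD2
  rcases Nat.lt_or_ge (Fintype.card ι) 2 with h0 | h0
  · rcases (show Fintype.card ι = 0 ∨ Fintype.card ι = 1 by omega) with h | h <;> rw [h] at h2 <;>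
      simp only [zero_mul, one_mul, add_zero] at h2
    · omega
    · have : 2 * Fintype.card D ≤ Fintype.card D * Fintype.card F := by
        rw [mul_comm 2]; exact Nat.mul_le_mul_left _ hq
      omega
  · have h4 : Fintype.card ι * Fintype.card D ≤ Fintype.card F * Fintype.card D := Nat.mul_le_mul_right _ hι
    have h5 : 2 * Fintype.card F ≤ Fintype.card ι * Fintype.card F := Nat.mul_le_mul_right _ h0
    rw [Nat.mul_comm (Fintype.card F) (Fintype.card D)] at h4
    omega

end Cfsg.Agent.Lib.SLCommutator
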