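import Cfsg.Agent.Lib.SLCommutator.Core

/-!
Adding one row and column to a product of two classes.
-/

set_option autoImplicit false
set_option linter.unusedSectionVars false

namespace Cfsg.Agent.Lib.SLCommutator

open Polynomial Module

universe u

variable {F : Type u} [Field F]

/-- The scalar on a line. -/
noncomputable def line (β : F) : End F F := β • LinearMap.id

theorem det_line (β : F) : LinearMap.det (line β) = β := by simp [line]

theorem iso_line (β : F) : Iso (line β) (mroot (X - C β)) := by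
  have hm : (X - C β : F[X]).Monic := monic_X_sub_C β
  let b := AdjoinRoot.powerBasis hm.ne_zero
  have := b.finite
  have hroot : AdjoinRoot.root (X - C β) = algebraMap F _ β := by
    have h : AdjoinRoot.mk (X - C β) (X - C β) = 0 := AdjoinRoot.mk_self
    rw [map_sub, AdjoinRoot.mk_X, AdjoinRoot.mk_C, sub_eq_zero] at h
    exact h
  obtain ⟨e⟩ : Nonempty (F ≃ₗ[F] AdjoinRoot (X - C β)) := FiniteDimensional.nonempty_linearEquiv_of_finrank_eq (by
    rw [finrank_self, b.finrank, AdjoinRoot.powerBasis_dim hm.ne_zero, natDegree_X_sub_C])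
  refine ⟨e, fun v => ?_⟩
  simp only [line, mroot, hroot, LinearMap.smul_apply, LinearMap.id_apply, map_smul, LinearMap.mulLeft_apply]
  rw [Algebra.smul_def]

variable {U : Type u} [AddCommGroup U] [Module F U] [Module.Finite F U]

/-- The endomorphism with a zero upper right corner. -/
noncomputable def lower (B : End F U) (ψ : U →ₗ[F] F) (γ : F) : End F (U × F) :=
  LinearMap.prod (B ∘ₗ LinearMap.fst F U F) (ψ ∘ₗ LinearMap.fst F U F + γ • LinearMap.snd F U F)

/-- The endomorphism with a zero lower left corner. -/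
noncomputable def upper (C : End F U) (y : U) (γ : F) : End F (U × F) :=
  LinearMap.prod (C ∘ₗ LinearMap.fst F U F + (LinearMap.toSpanSingleton F U y) ∘ₗ LinearMap.snd F U F) (γ • LinearMap.snd F U F)

theorem lower_apply (B : End F U) (ψ : U →ₗ[F] F) (γ : F) (u : U) (s : F) :
    lower B ψ γ (u, s) = (B u, ψ u + γ * s) := rfl

theorem upper_apply (C : End F U) (y : U) (γ : F) (u : U) (s : F) :
    upper C y γ (u, s) = (C u + s • y, γ * s) := rfl

theorem det_lower (B : End F U) (ψ : U →ₗ[F] F) (γ : F) : LinearMap.det (lower B ψ γ) = LinearMap.det B * γ := by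
  classical
  let b := Module.finBasis F U
  let c := Basis.singleton Unit F
  rw [← LinearMap.det_toMatrix (b.prod c),
    ← Matrix.fromBlocks_toBlocks (LinearMap.toMatrix (b.prod c) (b.prod c) (lower B ψ γ))]
  have h12 : (LinearMap.toMatrix (b.prod c) (b.prod c) (lower B ψ γ)).toBlocks₁₂ = 0 := by
    ext i j
    simp [Matrix.toBlocks₁₂, LinearMap.toMatrix_apply, lower]
  have h11 : (LinearMap.toMatrix (b.prod c) (b.prod c) (lower B ψ γ)).toBlocks₁₁ = LinearMap.toMatrix b b B := by
    ext i j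
    simp [Matrix.toBlocks₁₁, LinearMap.toMatrix_apply, lower]
  rw [h12, h11, Matrix.det_fromBlocks_zero₁₂, LinearMap.det_toMatrix, Matrix.det_unique]
  simp [Matrix.toBlocks₂₂, LinearMap.toMatrix_apply, lower, c]

theorem det_upper (C : End F U) (y : U) (γ : F) : LinearMap.det (upper C y γ) = LinearMap.det C * γ := by
  classical
  let b := Module.finBasis F U
  let c := Basis.singleton Unit F
  rw [← LinearMap.det_toMatrix (b.prod c),
    ← Matrix.fromBlocks_toBlocks (LinearMap.toMatrix (b.prod c) (b.prod c) (upper C y γ))]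
  have h21 : (LinearMap.toMatrix (b.prod c) (b.prod c) (upper C y γ)).toBlocks₂₁ = 0 := by
    ext i j
    simp [Matrix.toBlocks₂₁, LinearMap.toMatrix_apply, upper]
  have h11 : (LinearMap.toMatrix (b.prod c) (b.prod c) (upper C y γ)).toBlocks₁₁ = LinearMap.toMatrix b b C := by
    ext i j
    simp [Matrix.toBlocks₁₁, LinearMap.toMatrix_apply, upper]
  rw [h21, h11, Matrix.det_fromBlocks_zero₂₁, LinearMap.det_toMatrix, Matrix.det_unique]
  simp [Matrix.toBlocks₂₂, LinearMap.toMatrix_apply, upper, c]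

theorem iso_lower {B : End F U} (ψ : U →ₗ[F] F) {γ : F} (hB : IsUnit (B - γ • 1)) :
    Iso (lower B ψ γ) (B.prodMap (line γ)) := by
  obtain ⟨D, hD⟩ := hB
  let χ : U →ₗ[F] F := -(ψ ∘ₗ ((D⁻¹ : (End F U)ˣ) : End F U))
  have hχ : ∀ u, χ (B u - γ • u) = -ψ u := fun u => by
    have h : ((D⁻¹ : (End F U)ˣ) : End F U) ((D : End F U) u) = u := by
      rw [← Module.End.mul_apply, Units.inv_mul, Module.End.one_apply]
    rw [show B u - γ • u = (D : End F U) u by rw [hD]; simp]
    simp [χ, h]
  let e : (U × F) ≃ₗ[F] (U × F) :=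
    { toFun := fun x => (x.1, x.2 + χ x.1)
      map_add' := fun x y => Prod.ext rfl (by simp only [Prod.fst_add, Prod.snd_add, map_add]; ring)
      map_smul' := fun a x => Prod.ext rfl (by simp only [Prod.smul_fst, Prod.smul_snd, map_smul, smul_eq_mul, RingHom.id_apply]; ring)
      invFun := fun x => (x.1, x.2 - χ x.1)
      left_inv := fun x => Prod.ext rfl (by simp)
      right_inv := fun x => Prod.ext rfl (by simp) }
  refine ⟨e, fun ⟨u, s⟩ => Prod.ext rfl ?_⟩
  show ψ u + γ * s + χ (B u) = γ • (s + χ u)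
  have := hχ u
  rw [map_sub, map_smul] at this
  simp only [smul_eq_mul] at this ⊢
  linear_combination this

theorem iso_upper {C : End F U} (y : U) {γ : F} (hC : IsUnit (C - γ • 1)) :
    Iso (upper C y γ) (C.prodMap (line γ)) := by
  obtain ⟨D, hD⟩ := hC
  let z : U := ((D⁻¹ : (End F U)ˣ) : End F U) y
  have hz : C z - γ • z = y := by
    rw [show C z - γ • z = (D : End F U) z by rw [hD]; simp]
    rw [← Module.End.mul_apply, Units.mul_inv, Module.End.one_apply]
  let e : (U × F) ≃ₗ[F] (U × F) :=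
    { toFun := fun x => (x.1 + x.2 • z, x.2)
      map_add' := fun x y => Prod.ext (by simp only [Prod.fst_add, Prod.snd_add, add_smul]; abel) rfl
      map_smul' := fun a x => Prod.ext (by simp only [Prod.smul_fst, Prod.smul_snd, smul_add, smul_smul, smul_eq_mul, RingHom.id_apply]) rfl
      invFun := fun x => (x.1 - x.2 • z, x.2)
      left_inv := fun x => Prod.ext (by simp) rfl
      right_inv := fun x => Prod.ext (by simp) rfl }
  refine ⟨e, fun ⟨u, s⟩ => Prod.ext ?_ rfl⟩
  show C u + s • y + (γ * s) • z = C (u + s • z)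
  rw [map_add, map_smul, ← hz, smul_sub, smul_smul, mul_comm γ s]
  abel

/-- A cyclic map contains every cyclic map of one size less as a leading block. -/
theorem exists_leading {p b : F[X]} (hp : p.Monic) (hb : b.Monic) (hdeg : p.natDegree = b.natDegree + 1) :
    ∃ (φ : AdjoinRoot b →ₗ[F] F) (u₀ : AdjoinRoot b) (α : F) (A : End F (AdjoinRoot b × F)),
      Iso A (mroot p) ∧ ∀ u s, A (u, s) = (mroot b u + s • u₀, φ u + α * s) := by
  have hpn : p ≠ 0 := hp.ne_zero
  have := finite_adjoinRoot hp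
  have := finite_adjoinRoot hb
  let lift : AdjoinRoot b →ₗ[F] F[X] := AdjoinRoot.modByMonicHom hb
  have hliftdeg : ∀ u, (lift u).degree < b.degree := by
    intro u
    obtain ⟨g, rfl⟩ := AdjoinRoot.mk_surjective u
    simp only [lift, AdjoinRoot.modByMonicHom_mk]
    exact degree_modByMonic_lt _ hb
  let poly : AdjoinRoot b × F →ₗ[F] F[X] :=
    lift ∘ₗ LinearMap.fst F _ F + (LinearMap.toSpanSingleton F F[X] b) ∘ₗ LinearMap.snd F _ F
  have hpoly : ∀ u s, poly (u, s) = lift u + s • b := fun u s => rfl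
  have hsmall : ∀ x, (poly x).degree < p.degree := by
    rintro ⟨u, s⟩
    rw [hpoly]
    have h1 : b.degree < p.degree := by
      rw [degree_eq_natDegree hb.ne_zero, degree_eq_natDegree hpn, Nat.cast_lt]; omega
    exact (degree_add_le _ _).trans_lt (max_lt ((hliftdeg u).trans h1) ((degree_smul_le s b).trans_lt h1))
  let ι : AdjoinRoot b × F →ₗ[F] AdjoinRoot p := (Ideal.Quotient.mkₐ F (Ideal.span {p})).toLinearMap ∘ₗ poly
  have hι : ∀ x, ι x = AdjoinRoot.mk p (poly x) := fun x => rfl
  have hinj : Function.Injective ι := by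
    rw [injective_iff_map_eq_zero]
    rintro ⟨u, s⟩ h
    rw [hι, AdjoinRoot.mk_eq_zero] at h
    have h0 := eq_zero_of_dvd_of_degree_lt h (hsmall _)
    rw [hpoly] at h0
    have hs : s = 0 := by
      have := congrArg (fun g : F[X] => g.coeff b.natDegree) h0
      have hl : (lift u).coeff b.natDegree = 0 :=
        coeff_eq_zero_of_degree_lt (by rw [← degree_eq_natDegree hb.ne_zero]; exact hliftdeg u)
      simpa [hl, hb.coeff_natDegree] using this
    rw [hs, zero_smul, add_zero] at h0
    have := congrArg (AdjoinRoot.mk b) h0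
    rw [map_zero, show AdjoinRoot.mk b (lift u) = u from AdjoinRoot.mk_leftInverse hb u] at this
    rw [this, hs]; rfl
  let e := LinearMap.linearEquivOfInjective ι hinj (by
    rw [Module.finrank_prod, finrank_self, (AdjoinRoot.powerBasis' hb).finrank, (AdjoinRoot.powerBasis' hp).finrank]
    simp [hdeg])
  let A : End F (AdjoinRoot b × F) := e.symm.conj (mroot p)
  have hfirst : ∀ u, (A (u, 0)).1 = mroot b u := by
    intro u
    have hAe : e (A (u, 0)) = AdjoinRoot.root p * e (u, 0) := by simp [A, mroot]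
    have h : ι (A (u, 0)) = AdjoinRoot.root p * ι (u, 0) := hAe
    rw [hι, hι, ← AdjoinRoot.mk_X, ← map_mul, AdjoinRoot.mk_eq_mk] at h
    rcases hxy : A (u, 0) with ⟨u', s'⟩
    rw [hxy, hpoly, hpoly, zero_smul, add_zero] at h
    have hdlt : (lift u' + s' • b - X * lift u).degree < p.degree := by
      refine (degree_sub_le _ _).trans_lt (max_lt (by rw [← hpoly]; exact hsmall _) ?_)
      rcases eq_or_ne (lift u) 0 with h0 | h0
      · rw [h0, mul_zero, degree_zero]; exact bot_lt_iff_ne_bot.2 (by simp [hpn])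
      · have := hliftdeg u
        rw [degree_eq_natDegree h0, degree_eq_natDegree hb.ne_zero, Nat.cast_lt] at this
        rw [degree_eq_natDegree (mul_ne_zero X_ne_zero h0), degree_eq_natDegree hpn, natDegree_mul X_ne_zero h0,
          natDegree_X, Nat.cast_lt]
        omega
    have h2 := congrArg (AdjoinRoot.mk b) (eq_zero_of_dvd_of_degree_lt h hdlt)
    rw [map_sub, map_add, map_mul, AdjoinRoot.mk_X, map_zero, sub_eq_zero,
      show AdjoinRoot.mk b (s' • b) = 0 by rw [Polynomial.smul_eq_C_mul, map_mul, AdjoinRoot.mk_self, mul_zero],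
      add_zero, show AdjoinRoot.mk b (lift u') = u' from AdjoinRoot.mk_leftInverse hb u',
      show AdjoinRoot.mk b (lift u) = u from AdjoinRoot.mk_leftInverse hb u] at h2
    exact h2
  refine ⟨(LinearMap.snd F _ F) ∘ₗ A ∘ₗ (LinearMap.inl F _ F), (A (0, 1)).1, (A (0, 1)).2, A,
    ⟨e, fun v => by simp [A]⟩, fun u s => ?_⟩
  have hsplit : A (u, s) = A (u, 0) + s • A (0, 1) := by
    rw [← map_smul, ← map_add]
    simp
  rw [hsplit]
  refine Prod.ext ?_ ?_
  · show (A (u, 0)).1 + s • (A (0, 1)).1 = _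
    rw [hfirst]
  · show (A (u, 0)).2 + s * (A (0, 1)).2 = _
    simp [mul_comm]

/-- The bordering lemma. -/
theorem border {p b : F[X]} (hp : p.Monic) (hb : b.Monic) (hdeg : p.natDegree = b.natDegree + 1) (hb0 : b.coeff 0 ≠ 0)
    {B₁ C₁ : End F (AdjoinRoot b)} (h : mroot b * C₁ = B₁) (hC₁ : LinearMap.det C₁ ≠ 0) {β β' : F}
    (hβ : IsUnit (B₁ - β • 1)) (hβ' : IsUnit (C₁ - β' • 1))
    (hdet : LinearMap.det (mroot p) * β' = LinearMap.det (mroot b) * β) :
    ∃ B C : End F (AdjoinRoot p), mroot p * C = B ∧ LinearMap.det B = LinearMap.det B₁ * β ∧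
      Iso B (B₁.prodMap (line β)) ∧ Iso C (C₁.prodMap (line β')) := by
  have := finite_adjoinRoot hb
  have hM : LinearMap.det (mroot b) ≠ 0 := by rw [det_mroot hb]; simp [hb0]
  obtain ⟨M', hM'⟩ : IsUnit (mroot b) := LinearMap.isUnit_iff_ker_eq_bot _ |>.2 (LinearMap.ker_eq_bot.2
    (LinearMap.equivOfDetNeZero _ hM).injective)
  obtain ⟨φ, u₀, α, A, ⟨e, he⟩, hA⟩ := exists_leading hp hb hdeg
  let y : AdjoinRoot b := -(β' • ((M'⁻¹ : (End F (AdjoinRoot b))ˣ) : End F (AdjoinRoot b)) u₀)
  have hy : mroot b y = -(β' • u₀) := by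
    rw [show mroot b y = (M' : End F (AdjoinRoot b)) y by rw [hM']]
    simp only [y, map_neg, map_smul, ← Module.End.mul_apply, Units.mul_inv, Module.End.one_apply]
  set γ := φ y + α * β'
  have hprod : A * upper C₁ y β' = lower B₁ (φ ∘ₗ C₁) γ := by
    refine LinearMap.ext fun ⟨u, s⟩ => ?_
    rw [Module.End.mul_apply, upper_apply, hA, lower_apply, ← h]
    refine Prod.ext ?_ ?_
    · show mroot b (C₁ u + s • y) + (β' * s) • u₀ = mroot b (C₁ u)
      rw [map_add, map_smul, hy, smul_neg, smul_smul, mul_comm β' s]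
      abel
    · show φ (C₁ u + s • y) + α * (β' * s) = φ (C₁ u) + γ * s
      rw [map_add, map_smul, smul_eq_mul]
      ring
  have hγ : γ = β := by
    have h1 := congrArg LinearMap.det hprod
    rw [map_mul, det_upper, det_lower, Iso.det_eq ⟨e, he⟩, ← h, map_mul] at h1
    have h2 : LinearMap.det (mroot b) * LinearMap.det C₁ * γ = LinearMap.det (mroot b) * LinearMap.det C₁ * β := by
      linear_combination -h1 + LinearMap.det C₁ * hdet
    exact mul_left_cancel₀ (mul_ne_zero hM hC₁) h2
  rw [hγ] at hprod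
  refine ⟨e.conj (lower B₁ (φ ∘ₗ C₁) β), e.conj (upper C₁ y β'), ?_, by rw [det_conj_eq, det_lower],
    Iso.trans (Iso.symm ⟨e, fun v => (by simp : e (lower B₁ (φ ∘ₗ C₁) β v) = e.conj (lower B₁ (φ ∘ₗ C₁) β) (e v))⟩) (iso_lower _ hβ),
    Iso.trans (Iso.symm ⟨e, fun v => (by simp : e (upper C₁ y β' v) = e.conj (upper C₁ y β') (e v))⟩) (iso_upper _ hβ')⟩
  rw [← hprod, show mroot p = e.conj A from LinearMap.ext fun w => by simp [he]]
  exact (e.conj_comp (upper C₁ y β') A).symm

end Cfsg.Agent.Lib.SLCommutator
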