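import Cfsg.Agent.Lib.SLCommutator.Extension

/-!
Companion matrices and matrix witnesses.
-/

set_option autoImplicit false
set_option linter.unusedSectionVars false

namespace Cfsg.Agent.Lib.SLCommutator

open Polynomial Module

universe u

/-- The companion matrix with the given lower coefficients. -/
def companion {R : Type*} [Ring R] {d : ℕ} (c : Fin d → R) : Matrix (Fin d) (Fin d) R :=
  Matrix.of fun i j => if (j : ℕ) + 1 = d then -c i else if (i : ℕ) = j + 1 then 1 else 0

/-- A block diagonal matrix on `Fin (a + b)`. -/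
def blocks {R : Type*} [Zero R] {a b : ℕ} (M : Matrix (Fin a) (Fin a) R) (N : Matrix (Fin b) (Fin b) R) :
    Matrix (Fin (a + b)) (Fin (a + b)) R :=
  Matrix.reindex finSumFinEquiv finSumFinEquiv (Matrix.fromBlocks M 0 0 N)

variable {F : Type u} [Field F]

theorem map_companion {R : Type*} [Ring R] (φ : R →+* F) {d : ℕ} (c : Fin d → R) :
    (companion c).map φ = companion (fun i => φ (c i)) := by
  ext i j
  simp only [companion, Matrix.map_apply, Matrix.of_apply]
  split_ifs <;> simp

theorem map_blocks {R : Type*} [Ring R] (φ : R →+* F) {a b : ℕ} (M : Matrix (Fin a) (Fin a) R) (N : Matrix (Fin b) (Fin b) R) :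
    (blocks M N).map φ = blocks (M.map φ) (N.map φ) := by
  ext i j
  simp only [blocks, Matrix.map_apply, Matrix.reindex_apply, Matrix.submatrix_apply]
  rcases finSumFinEquiv.symm i with x | x <;> rcases finSumFinEquiv.symm j with y | y <;> simp

theorem iso_companion {P : F[X]} (hm : P.Monic) {d : ℕ} (hd : P.natDegree = d) (c : Fin d → F)
    (hc : ∀ i : Fin d, P.coeff i = c i) : Iso (mroot P) (Matrix.toLin' (companion c)) := by
  have := finite_adjoinRoot hm
  set pb := AdjoinRoot.powerBasis hm.ne_zero with hpb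
  have hdim : pb.dim = d := by rw [hpb, AdjoinRoot.powerBasis_dim hm.ne_zero]; exact hd
  let bas := pb.basis.reindex (finCongr hdim)
  refine ⟨bas.equivFun, fun v => ?_⟩
  have hM : LinearMap.toMatrix bas bas (mroot P) = companion c := by
    ext i j
    have h := congrFun (congrFun pb.leftMulMatrix ((finCongr hdim).symm i)) ((finCongr hdim).symm j)
    rw [Algebra.leftMulMatrix_eq_repr_mul] at h
    rw [LinearMap.toMatrix_apply]
    simp only [bas, Basis.repr_reindex_apply, Basis.reindex_apply]
    have hgen : pb.gen = AdjoinRoot.root P := AdjoinRoot.powerBasis_gen hm.ne_zero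
    rw [show mroot P (pb.basis ((finCongr hdim).symm j)) = pb.gen * pb.basis ((finCongr hdim).symm j) from by
      rw [hgen]; rfl, h]
    have hmin : minpoly F pb.gen = P := by
      rw [hgen, AdjoinRoot.minpoly_root hm.ne_zero, hm.leadingCoeff, inv_one, Polynomial.C_1, mul_one]
    simp [companion, hmin, hdim, ← hc]
  rw [← hM, Matrix.toLin'_apply]
  exact (LinearMap.toMatrix_mulVec_repr bas bas (mroot P) v).symm

theorem iso_blocks {U U' : Type u} [AddCommGroup U] [Module F U] [AddCommGroup U'] [Module F U'] {f : End F U} {g : End F U'}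
    {a b : ℕ} {M : Matrix (Fin a) (Fin a) F} {N : Matrix (Fin b) (Fin b) F} (hf : Iso f (Matrix.toLin' M))
    (hg : Iso g (Matrix.toLin' N)) : Iso (f.prodMap g) (Matrix.toLin' (blocks M N)) := by
  refine (hf.prod hg).trans ?_
  refine ⟨(LinearEquiv.sumArrowLequivProdArrow (Fin a) (Fin b) F F).symm.trans
    (LinearEquiv.funCongrLeft F F finSumFinEquiv.symm), fun ⟨x, y⟩ => ?_⟩
  ext i
  obtain ⟨i, rfl⟩ := finSumFinEquiv.surjective i
  have key : ∀ (z : (Fin a → F) × (Fin b → F)) (k : Fin a ⊕ Fin b),
      ((LinearEquiv.sumArrowLequivProdArrow (Fin a) (Fin b) F F).symm.trans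
        (LinearEquiv.funCongrLeft F F finSumFinEquiv.symm)) z (finSumFinEquiv k) = Sum.elim z.1 z.2 k := by
    intro z k
    simp [LinearEquiv.funCongrLeft_apply, LinearMap.funLeft_apply]
    rcases k with k | k <;> rfl
  rw [key, Matrix.toLin'_apply]
  simp only [blocks, Matrix.reindex_apply, Matrix.mulVec, dotProduct, Matrix.submatrix_apply, Equiv.symm_apply_apply]
  rw [← finSumFinEquiv.sum_comp]
  simp only [Equiv.symm_apply_apply, key, Fintype.sum_sum_type]
  rcases i with i | i <;> simp [Matrix.mulVec, dotProduct]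

variable {R : Type} [CommRing R] {n : ℕ} (φ : R →+* F)

theorem commW_of_witness {M B X : Matrix (Fin n) (Fin n) R} (h : M * X * B = B * X) (hB : (B.map φ).det = 1)
    (hX : (X.map φ).det = 1) {W : F[X]} (hW : aeval (B.map φ) W = 0) : CommW (Matrix.toLin' (M.map φ)) W := by
  refine ⟨Matrix.toLin' (B.map φ), Matrix.toLin' (X.map φ), by rw [LinearMap.det_toLin', hB],
    by rw [LinearMap.det_toLin', hX], ?_, ?_⟩
  · have := congrArg (fun N : Matrix (Fin n) (Fin n) R => Matrix.toLin' (N.map φ)) h
    simpa [Matrix.map_mul, Matrix.toLin'_mul, Module.End.mul_eq_comp] using this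
  · show aeval (Matrix.toLinAlgEquiv' (B.map φ)) W = 0
    rw [aeval_algHom_apply (Matrix.toLinAlgEquiv' : Matrix (Fin n) (Fin n) F ≃ₐ[F] _), hW, map_zero]

theorem comm_of_witness {M B X : Matrix (Fin n) (Fin n) R} (h : M * X * B = B * X) (hB : (B.map φ).det = 1)
    (hX : (X.map φ).det = 1) : Comm (Matrix.toLin' (M.map φ)) :=
  (commW_of_witness φ h hB hX (W := (B.map φ).charpoly) (Matrix.aeval_self_charpoly _)).comm

theorem map_eval4 {B : Matrix (Fin n) (Fin n) R} {c0 c1 c2 : R}
    (h : B * B * B * B + c2 • (B * B) + c1 • B + c0 • 1 = 0) :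
    aeval (B.map φ) (X ^ 4 + C (φ c2) * X ^ 2 + C (φ c1) * X + C (φ c0)) = 0 := by
  have h' := congrArg φ.mapMatrix h
  have hs : ∀ (c : R) (N : Matrix (Fin n) (Fin n) R), φ.mapMatrix (c • N) = φ c • φ.mapMatrix N := fun c N => by
    ext i j; simp
  simp only [map_add, map_mul, map_zero, map_one, hs] at h'
  rw [RingHom.mapMatrix_apply] at h'
  simp only [map_add, map_mul, map_pow, aeval_X, aeval_C, Algebra.algebraMap_eq_smul_one, smul_mul_assoc, one_mul]
  rw [← h']
  simp [pow_succ, mul_assoc]

theorem det_one_of_card_two [Fintype F] (h2 : Fintype.card F = 2) {B B' : Matrix (Fin n) (Fin n) R} (h : B * B' = 1) :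
    (B.map φ).det = 1 := by
  have h' := congrArg φ.mapMatrix h
  rw [map_mul, map_one] at h'
  have hne : (B.map φ).det ≠ 0 := fun h0 => by
    have := congrArg Matrix.det h'
    rw [Matrix.det_mul, Matrix.det_one, RingHom.mapMatrix_apply, h0, zero_mul] at this
    exact zero_ne_one this
  simpa [h2] using FiniteField.pow_card_sub_one_eq_one _ hne

theorem det_sq_one_of_card_three [Fintype F] (h3 : Fintype.card F = 3) {Y Y' : Matrix (Fin n) (Fin n) R} (h : Y * Y' = 1) :
    ((Y * Y).map φ).det = 1 := by
  have h' := congrArg φ.mapMatrix h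
  rw [map_mul, map_one] at h'
  have hne : (Y.map φ).det ≠ 0 := fun h0 => by
    have := congrArg Matrix.det h'
    rw [Matrix.det_mul, Matrix.det_one, RingHom.mapMatrix_apply, h0, zero_mul] at this
    exact zero_ne_one this
  rw [Matrix.map_mul, Matrix.det_mul, ← pow_two]
  simpa [h3] using FiniteField.pow_card_sub_one_eq_one _ hne

end Cfsg.Agent.Lib.SLCommutator
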