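import Mathlib

/-!
Products of two conjugacy classes with common part, the bookkeeping used to write matrices as commutators.
-/

set_option autoImplicit false
set_option linter.unusedSectionVars false

namespace Cfsg.Agent.Lib.SLCommutator

open Polynomial Module

universe u

variable {F : Type u} [Field F]

/-- Two endomorphisms are similar. -/
def Iso {V W : Type u} [AddCommGroup V] [Module F V] [AddCommGroup W] [Module F W] (f : End F V) (g : End F W) : Prop :=
  ∃ e : V ≃ₗ[F] W, ∀ v, e (f v) = g (e v)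

section iso

variable {V W X Y : Type u} [AddCommGroup V] [Module F V] [AddCommGroup W] [Module F W] [AddCommGroup X] [Module F X]
  [AddCommGroup Y] [Module F Y]

theorem Iso.refl (f : End F V) : Iso f f := ⟨LinearEquiv.refl F V, fun _ => rfl⟩

theorem Iso.symm {f : End F V} {g : End F W} (h : Iso f g) : Iso g f := by
  obtain ⟨e, he⟩ := h
  exact ⟨e.symm, fun w => e.injective (by rw [he, e.apply_symm_apply, e.apply_symm_apply])⟩

theorem Iso.trans {f : End F V} {g : End F W} {h : End F X} (h1 : Iso f g) (h2 : Iso g h) : Iso f h := by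
  obtain ⟨e, he⟩ := h1
  obtain ⟨e', he'⟩ := h2
  exact ⟨e.trans e', fun v => by simp [he, he']⟩

theorem Iso.prod {f : End F V} {g : End F W} {f' : End F X} {g' : End F Y} (h : Iso f g) (h' : Iso f' g') :
    Iso (f.prodMap f') (g.prodMap g') := by
  obtain ⟨e, he⟩ := h
  obtain ⟨e', he'⟩ := h'
  exact ⟨e.prodCongr e', fun v => Prod.ext (he v.1) (he' v.2)⟩

theorem iso_comm (f : End F V) (g : End F W) : Iso (f.prodMap g) (g.prodMap f) :=
  ⟨LinearEquiv.prodComm F V W, fun _ => rfl⟩

theorem iso_assoc (f : End F V) (g : End F W) (h : End F X) :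
    Iso ((f.prodMap g).prodMap h) (f.prodMap (g.prodMap h)) :=
  ⟨LinearEquiv.prodAssoc F V W X, fun _ => rfl⟩

theorem Iso.det_eq {f : End F V} {g : End F W} (h : Iso f g) : LinearMap.det f = LinearMap.det g := by
  obtain ⟨e, he⟩ := h
  rw [← LinearMap.det_conj f e]
  congr 1
  exact LinearMap.ext fun w => by simp [he]

theorem Iso.smul {f : End F V} {g : End F W} (h : Iso f g) (c : F) : Iso (c • f) (c • g) := by
  obtain ⟨e, he⟩ := h
  exact ⟨e, fun v => by simp [he]⟩

theorem det_conj_eq (e : V ≃ₗ[F] W) (f : End F V) : LinearMap.det (e.conj f) = LinearMap.det f :=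
  (Iso.det_eq ⟨e, fun v => by simp⟩).symm

end iso

/-- Multiplication by the root. -/
noncomputable def mroot (p : F[X]) : End F (AdjoinRoot p) := LinearMap.mulLeft F (AdjoinRoot.root p)

theorem det_mroot {p : F[X]} (hp : p.Monic) : LinearMap.det (mroot p) = (-1) ^ p.natDegree * p.coeff 0 := by
  classical
  let b := AdjoinRoot.powerBasis hp.ne_zero
  have h : LinearMap.toMatrix b.basis b.basis (mroot p) = Algebra.leftMulMatrix b.basis b.gen := by
    rw [AdjoinRoot.powerBasis_gen hp.ne_zero]; rfl
  rw [← LinearMap.det_toMatrix b.basis, h, Matrix.det_eq_sign_charpoly_coeff, charpoly_leftMulMatrix, Fintype.card_fin,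
    AdjoinRoot.powerBasis_dim hp.ne_zero, AdjoinRoot.powerBasis_gen, AdjoinRoot.minpoly_root hp.ne_zero, hp.leadingCoeff,
    inv_one, C_1, mul_one]

/-- A commutator of two maps of determinant one. -/
def Comm {V : Type u} [AddCommGroup V] [Module F V] (A : End F V) : Prop :=
  ∃ B X : End F V, LinearMap.det B = 1 ∧ LinearMap.det X = 1 ∧ A * X * B = B * X

/-- `A` is a quotient of elements whose similarity types differ only in the tails `p` and `p'`. -/
def Rel {V : Type u} [AddCommGroup V] [Module F V] (A : End F V) (p p' : F[X]) (ν : F) : Prop :=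
  ∃ (B C : End F V) (U : Type u) (_ : AddCommGroup U) (_ : Module F U) (_ : Module.Finite F U) (R : End F U),
    A * C = B ∧ LinearMap.det B = ν ∧ Iso B (R.prodMap (mroot p)) ∧ Iso C (R.prodMap (mroot p'))

/-- The centralizer of the tail has surjective determinant. -/
def Sur (p : F[X]) : Prop :=
  ∀ c : F, c ≠ 0 → ∃ Z : End F (AdjoinRoot p), Commute Z (mroot p) ∧ LinearMap.det Z = c

section rel

variable {V W : Type u} [AddCommGroup V] [Module F V] [Module.Finite F V] [AddCommGroup W] [Module F W] [Module.Finite F W]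

theorem finite_adjoinRoot {p : F[X]} (hp : p.Monic) : Module.Finite F (AdjoinRoot p) :=
  (AdjoinRoot.powerBasis' hp).finite

/-- Composition of two links. -/
theorem Rel.comp {A : End F V} {A' : End F W} {p p' p'' : F[X]} (hp' : p'.Monic) {ν ν' : F} (h : Rel A p p' ν)
    (h' : Rel A' p' p'' ν') : Rel (A.prodMap A') p p'' (ν * ν') := by
  obtain ⟨B, C, U, _, _, _, R, h1, h2, h3, h4⟩ := h
  obtain ⟨B', C', U', _, _, _, R', h1', h2', h3', h4'⟩ := h'
  have := finite_adjoinRoot hp'
  refine ⟨B.prodMap B', C.prodMap C', U × U' × AdjoinRoot p', inferInstance, inferInstance, inferInstance,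
    R.prodMap (R'.prodMap (mroot p')), ?_, by rw [LinearMap.det_prodMap, h2, h2'], ?_, ?_⟩
  · rw [← h1, ← h1']
    rfl
  · refine (h3.prod h3').trans ?_
    exact Iso.trans (iso_assoc R (mroot p) (R'.prodMap (mroot p')))
      (Iso.trans ((Iso.refl R).prod (iso_comm (mroot p) (R'.prodMap (mroot p'))))
        (iso_assoc R (R'.prodMap (mroot p')) (mroot p)).symm)
  · refine (h4.prod h4').trans ?_
    exact Iso.trans (iso_assoc R (mroot p') (R'.prodMap (mroot p'')))
      (Iso.trans ((Iso.refl R).prod (Iso.trans (iso_assoc (mroot p') R' (mroot p'')).symm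
        ((iso_comm (mroot p') R').prod (Iso.refl (mroot p'')))))
        (iso_assoc R (R'.prodMap (mroot p')) (mroot p'')).symm)

theorem Iso.comm {f : End F V} {g : End F W} (h : Iso f g) (hc : Comm f) : Comm g := by
  obtain ⟨e, he⟩ := h
  obtain ⟨B, X, hB, hX, hA⟩ := hc
  have hg : g = e.conj f := LinearMap.ext fun w => by simp [he]
  refine ⟨e.conj B, e.conj X, by rw [det_conj_eq, hB],
    by rw [det_conj_eq, hX], ?_⟩
  have hmul : ∀ a b : End F V, e.conj (a * b) = e.conj a * e.conj b := fun a b => e.conj_comp b a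
  rw [hg, ← hmul, ← hmul, hA, hmul]

theorem Comm.prod {f : End F V} {g : End F W} (hf : Comm f) (hg : Comm g) : Comm (f.prodMap g) := by
  obtain ⟨B, X, hB, hX, hA⟩ := hf
  obtain ⟨B', X', hB', hX', hA'⟩ := hg
  refine ⟨B.prodMap B', X.prodMap X', by rw [LinearMap.det_prodMap, hB, hB', one_mul],
    by rw [LinearMap.det_prodMap, hX, hX', one_mul], ?_⟩
  simp only [LinearMap.prodMap_mul, hA, hA']

theorem comm_one : Comm (1 : End F V) := ⟨1, 1, map_one _, map_one _, by simp⟩

theorem Iso.rel {f : End F V} {g : End F W} (h : Iso f g) {p p' : F[X]} {ν : F} (hr : Rel f p p' ν) : Rel g p p' ν := by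
  obtain ⟨e, he⟩ := h
  obtain ⟨B, C, U, _, _, _, R, h1, h2, h3, h4⟩ := hr
  have hg : g = e.conj f := LinearMap.ext fun w => by simp [he]
  have hcj : ∀ a : End F V, Iso (e.conj a) a := fun a => (Iso.symm ⟨e, fun v => by simp⟩)
  refine ⟨e.conj B, e.conj C, U, inferInstance, inferInstance, inferInstance, R, ?_,
    by rw [det_conj_eq, h2], (hcj B).trans h3, (hcj C).trans h4⟩
  rw [hg, ← h1]
  exact (e.conj_comp C f).symm

/-- Similar endomorphisms with a good common tail are conjugate by an element of determinant one. -/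
theorem exists_conjugator {A B C : End F V} {U : Type u} [AddCommGroup U] [Module F U] [Module.Finite F U] {R : End F U}
    {p : F[X]} (hp : p.Monic) (hS : Sur p) (h1 : A * C = B) (h3 : Iso B (R.prodMap (mroot p)))
    (h4 : Iso C (R.prodMap (mroot p))) : ∃ X : End F V, LinearMap.det X = 1 ∧ A * X * B = B * X := by
  have := finite_adjoinRoot hp
  obtain ⟨e, he⟩ := (h4.trans h3.symm)
  obtain ⟨eB, heB⟩ := h3
  obtain ⟨Z, hZ, hZd⟩ := hS (LinearMap.det (e : V →ₗ[F] V)) (e.isUnit_det'.ne_zero)
  let Z' : End F V := eB.symm.conj ((LinearMap.id : End F U).prodMap Z)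
  have hZB : Commute Z' B := LinearMap.ext fun v => eB.injective (by
    simp [Z', Module.End.mul_apply, heB]
    exact LinearMap.congr_fun hZ.eq _)
  refine ⟨(e.symm : V →ₗ[F] V) * Z', ?_, ?_⟩
  · rw [map_mul, det_conj_eq, LinearMap.det_prodMap, LinearMap.det_id, one_mul, hZd,
      LinearEquiv.det_symm_mul_det]
  · have hC : (e.symm : V →ₗ[F] V) * B = C * (e.symm : V →ₗ[F] V) := LinearMap.ext fun v => e.injective (by
      simp [Module.End.mul_apply, he])
    calc A * ((e.symm : V →ₗ[F] V) * Z') * B = A * (((e.symm : V →ₗ[F] V) * B) * Z') := by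
          simp only [mul_assoc, hZB.eq]
      _ = A * C * ((e.symm : V →ₗ[F] V) * Z') := by rw [hC]; simp only [mul_assoc]
      _ = _ := by rw [h1]

/-- A closed chain gives a commutator. -/
theorem Rel.comm {A : End F V} {p : F[X]} (hp : p.Monic) (hS : Sur p) {c : F} (hc : c ≠ 0)
    (h : Rel A p p (c ^ finrank F V)) : Comm A := by
  obtain ⟨B, C, U, _, _, _, R, h1, h2, h3, h4⟩ := h
  obtain ⟨X, hX, hAX⟩ := exists_conjugator hp hS h1 h3 h4
  refine ⟨c⁻¹ • B, X, ?_, hX, ?_⟩
  · rw [LinearMap.det_smul, h2, inv_pow, inv_mul_cancel₀ (pow_ne_zero _ hc)]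
  · rw [mul_smul_comm, smul_mul_assoc, hAX]

end rel

end Cfsg.Agent.Lib.SLCommutator
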