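import Cfsg.Agent.Lib.SLCommutator.Border

/-!
Bordering a cyclic map by an eigenvalue it already has.
-/

set_option autoImplicit false
set_option linter.unusedSectionVars false

namespace Cfsg.Agent.Lib.SLCommutator

open Polynomial Module

universe u

variable {F : Type u} [Field F]

theorem aeval_mroot (P g : F[X]) (x : AdjoinRoot P) : aeval (mroot P) g x = AdjoinRoot.mk P g * x := by
  have h : aeval (mroot P) g = Algebra.lmul F (AdjoinRoot P) (aeval (AdjoinRoot.root P) g) := by
    rw [← aeval_algHom_apply]; rfl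
  rw [h, AdjoinRoot.aeval_eq]
  rfl

/-- A map with a cyclic vector. -/
theorem iso_mroot_of_vector {P : F[X]} (hm : P.Monic) {V : Type u} [AddCommGroup V] [Module F V] [Module.Finite F V]
    (f : End F V) (v : V) (hf : aeval f P v = 0) (hd : finrank F V = P.natDegree)
    (hinj : ∀ g : F[X], g.degree < P.degree → aeval f g v = 0 → g = 0) : Iso (mroot P) f := by
  have := finite_adjoinRoot hm
  have hred : ∀ g : F[X], aeval f (g %ₘ P) v = aeval f g v := fun g => by
    conv_rhs => rw [← modByMonic_add_div g P]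
    rw [map_add, LinearMap.add_apply, mul_comm P, map_mul, Module.End.mul_apply, hf, map_zero, add_zero]
  let e₀ : AdjoinRoot P →ₗ[F] V := (LinearMap.applyₗ v ∘ₗ (aeval f).toLinearMap) ∘ₗ AdjoinRoot.modByMonicHom hm
  have he₀ : ∀ g, e₀ (AdjoinRoot.mk P g) = aeval f g v := fun g => by
    show aeval f (AdjoinRoot.modByMonicHom hm (AdjoinRoot.mk P g)) v = _
    rw [AdjoinRoot.modByMonicHom_mk, hred]
  have hinj' : Function.Injective e₀ := by
    rw [injective_iff_map_eq_zero]
    intro x hx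
    obtain ⟨g, rfl⟩ := AdjoinRoot.mk_surjective x
    rw [he₀, ← hred] at hx
    rw [← AdjoinRoot.mk_leftInverse hm (AdjoinRoot.mk P g), AdjoinRoot.modByMonicHom_mk,
      hinj _ (degree_modByMonic_lt g hm) hx, map_zero]
  refine ⟨LinearMap.linearEquivOfInjective e₀ hinj' (by rw [hd, (AdjoinRoot.powerBasis' hm).finrank]; rfl), fun x => ?_⟩
  obtain ⟨g, rfl⟩ := AdjoinRoot.mk_surjective x
  show e₀ (AdjoinRoot.mk P X * AdjoinRoot.mk P g) = f (e₀ (AdjoinRoot.mk P g))
  rw [← map_mul, he₀, he₀, map_mul, Module.End.mul_apply, aeval_X]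

variable {U U' : Type u} [AddCommGroup U] [Module F U] [Module.Finite F U] [AddCommGroup U'] [Module F U'] [Module.Finite F U']

theorem iso_upper_congr {B : End F U} {N : End F U'} (e : U ≃ₗ[F] U') (he : ∀ v, e (B v) = N (e v)) (y : U) (γ : F) :
    Iso (upper B y γ) (upper N (e y) γ) :=
  ⟨e.prodCongr (LinearEquiv.refl F F), fun ⟨u, s⟩ => Prod.ext
    (show e (B u + s • y) = N (e u) + s • e y by rw [map_add, map_smul, he]) rfl⟩

theorem iso_lower_congr {B : End F U} {N : End F U'} (e : U ≃ₗ[F] U') (he : ∀ v, e (B v) = N (e v)) (ψ : U →ₗ[F] F) (γ : F) :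
    Iso (lower B ψ γ) (lower N (ψ ∘ₗ (e.symm : U' →ₗ[F] U)) γ) :=
  ⟨e.prodCongr (LinearEquiv.refl F F), fun ⟨u, s⟩ => Prod.ext (he u)
    (show ψ u + γ * s = ψ (e.symm (e u)) + γ * s by rw [e.symm_apply_apply])⟩

theorem aeval_upper (N : End F U) (y : U) (γ : F) (g : F[X]) :
    (∀ x s, (aeval (upper N y γ) g (x, s)).2 = g.eval γ * s) ∧ ∀ x, (aeval (upper N y γ) g (x, 0)).1 = aeval N g x := by
  induction g using Polynomial.induction_on' with
  | add p q hp hq =>
    refine ⟨fun x s => ?_, fun x => ?_⟩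
    · rw [map_add, LinearMap.add_apply, Prod.snd_add, hp.1, hq.1, eval_add]; ring
    · rw [map_add, map_add, LinearMap.add_apply, Prod.fst_add, hp.2, hq.2, LinearMap.add_apply]
  | monomial n a =>
    have hpow : ∀ (k : ℕ) x s, ((upper N y γ ^ k) (x, s)).2 = γ ^ k * s ∧ ((upper N y γ ^ k) (x, (0 : F))).1 = (N ^ k) x := by
      intro k
      induction k with
      | zero => intro x s; simp
      | succ k ih =>
        intro x s
        rw [pow_succ' (upper N y γ), pow_succ' N, pow_succ' γ]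
        simp only [Module.End.mul_apply]
        constructor
        · show γ * ((upper N y γ ^ k) (x, s)).2 = _
          rw [(ih x s).1]; ring
        · show N ((upper N y γ ^ k) (x, (0 : F))).1 + ((upper N y γ ^ k) (x, (0 : F))).2 • y = _
          rw [(ih x s).2, (ih x 0).1, mul_zero, zero_smul, add_zero]
    refine ⟨fun x s => ?_, fun x => ?_⟩
    · rw [aeval_monomial, eval_monomial]
      simp [Module.algebraMap_end_apply, (hpow n x s).1, mul_assoc]
    · rw [aeval_monomial, aeval_monomial]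
      simp [Module.algebraMap_end_apply, (hpow n x 0).2]

theorem aeval_lower (N : End F U) (ψ : U →ₗ[F] F) (γ : F) (g : F[X]) :
    ∀ x s, (aeval (lower N ψ γ) g (x, s)).1 = aeval N g x := by
  induction g using Polynomial.induction_on' with
  | add p q hp hq => intro x s; rw [map_add, map_add, LinearMap.add_apply, Prod.fst_add, hp, hq, LinearMap.add_apply]
  | monomial n a =>
    intro x s
    have hpow : ∀ k : ℕ, ((lower N ψ γ ^ k) (x, s)).1 = (N ^ k) x := by
      intro k
      induction k with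
      | zero => simp
      | succ k ih =>
        rw [pow_succ', pow_succ']
        simp only [Module.End.mul_apply]
        exact congrArg N ih
    simp [aeval_monomial, Module.algebraMap_end_apply, hpow]

theorem eval_one_eq_mk (P g : F[X]) (k : AdjoinRoot P) (hk : AdjoinRoot.root P * k = k) :
    AdjoinRoot.mk P g * k = g.eval 1 • k := by
  obtain ⟨h, hh⟩ := X_sub_C_dvd_sub_C_eval (a := (1 : F)) (p := g)
  rw [show g = h * (X - C 1) + C (g.eval 1) by linear_combination hh]
  rw [map_add, add_mul, map_mul, mul_assoc, map_sub, AdjoinRoot.mk_X, sub_mul, AdjoinRoot.mk_C, map_one, one_mul, hk,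
    sub_self, mul_zero, zero_add, AdjoinRoot.mk_C, eval_add, eval_mul, eval_sub, eval_X, eval_C, sub_self, mul_zero, zero_add,
    eval_C, Algebra.smul_def]
  rfl

variable {Q : F[X]}

/-- Bordering from above at the eigenvalue one. -/
theorem iso_upper_cyclic (hQ : Irreducible Q) (hQm : Q.Monic) (hQd : 2 ≤ Q.natDegree) (j : ℕ)
    {P : F[X]} (hP : P = (X - C 1) ^ j * Q) (y : AdjoinRoot P) (hy : y ∉ LinearMap.range (mroot P - 1)) :
    Iso (upper (mroot P) y 1) (mroot ((X - C 1) ^ (j + 1) * Q)) := by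
  have hPm : P.Monic := hP ▸ ((monic_X_sub_C 1).pow j).mul hQm
  have := finite_adjoinRoot hPm
  obtain ⟨ŷ, rfl⟩ := AdjoinRoot.mk_surjective y
  have hy1 : ŷ.eval 1 ≠ 0 := fun h => hy (by
    obtain ⟨g, hg⟩ := dvd_iff_isRoot.2 h
    refine ⟨AdjoinRoot.mk P g, ?_⟩
    rw [hg]
    simp [mroot, sub_mul])
  obtain ⟨g, hgQ⟩ : ∃ g : F[X], ¬ Q ∣ (X - C 1) * g + ŷ := by
    by_cases h : Q ∣ ŷ
    · refine ⟨1, fun h' => ?_⟩
      rw [mul_one] at h'
      have := natDegree_le_of_dvd ((dvd_add_left h).1 h') (X_sub_C_ne_zero 1)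
      rw [natDegree_X_sub_C] at this
      omega
    · exact ⟨0, by rwa [mul_zero, zero_add]⟩
  set h := (X - C 1) * g + ŷ
  have hcop : IsCoprime P h := hP ▸
    (((irreducible_X_sub_C (1 : F)).coprime_iff_not_dvd.2 fun hd => hy1 (by
      have := dvd_iff_isRoot.1 hd
      simpa [h, IsRoot] using this)).pow_left).mul_left (hQ.coprime_iff_not_dvd.2 hgQ)
  have hfirst : (upper (mroot P) (AdjoinRoot.mk P ŷ) 1) (AdjoinRoot.mk P g, 1) - (AdjoinRoot.mk P g, 1) =
      (AdjoinRoot.mk P h, (0 : F)) := by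
    rw [upper_apply]
    refine Prod.ext ?_ (by simp)
    simp [mroot, h, map_add, map_mul, map_sub, sub_mul]
    abel
  have hpow : (X - C 1) ^ (j + 1) * Q = P * (X - C 1) := by rw [hP, pow_succ]; ring
  have key : ∀ G : F[X], aeval (upper (mroot P) (AdjoinRoot.mk P ŷ) 1) (G * (X - C 1)) (AdjoinRoot.mk P g, 1) =
      aeval (upper (mroot P) (AdjoinRoot.mk P ŷ) 1) G (AdjoinRoot.mk P h, 0) := by
    intro G
    rw [map_mul, Module.End.mul_apply, ← hfirst]
    simp
  rw [hpow]
  refine (iso_mroot_of_vector (hPm.mul (monic_X_sub_C 1)) _ (AdjoinRoot.mk P g, (1 : F)) ?_ ?_ fun G hG h0 => ?_).symm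
  · rw [key]
    refine Prod.ext ?_ ?_
    · rw [(aeval_upper _ _ _ _).2, aeval_mroot, AdjoinRoot.mk_self, zero_mul]; rfl
    · rw [(aeval_upper _ _ _ _).1, mul_zero]; rfl
  · rw [Module.finrank_prod, finrank_self, (AdjoinRoot.powerBasis' hPm).finrank,
      hPm.natDegree_mul (monic_X_sub_C 1), natDegree_X_sub_C]
    rfl
  · have h1 : G.eval 1 = 0 := by
      have := congrArg Prod.snd h0
      rwa [(aeval_upper _ _ _ _).1, mul_one] at this
    obtain ⟨G', rfl⟩ := dvd_iff_isRoot.2 h1
    rw [mul_comm (X - C 1) G'] at hG h0 ⊢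
    rw [key] at h0
    have h2 := congrArg Prod.fst h0
    rw [(aeval_upper _ _ _ _).2, aeval_mroot, ← map_mul] at h2
    have hd := hcop.dvd_of_dvd_mul_right (AdjoinRoot.mk_eq_zero.1 h2)
    rw [eq_zero_of_dvd_of_degree_lt hd, zero_mul]
    rw [degree_mul, degree_mul, degree_X_sub_C] at hG
    exact lt_of_add_lt_add_right hG

/-- Bordering from below at the eigenvalue one. -/
theorem iso_lower_cyclic (hQm : Q.Monic) (j : ℕ) {P : F[X]} (hP : P = (X - C 1) ^ (j + 1) * Q)
    (ψ : AdjoinRoot P →ₗ[F] F) (hψ : ∃ k, mroot P k = k ∧ ψ k ≠ 0) :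
    Iso (lower (mroot P) ψ 1) (mroot ((X - C 1) ^ (j + 2) * Q)) := by
  obtain ⟨P', hPm', hPP⟩ : ∃ P' : F[X], P'.Monic ∧ P = (X - C 1) * P' :=
    ⟨(X - C 1) ^ j * Q, ((monic_X_sub_C 1).pow _).mul hQm, by rw [hP, pow_succ']; ring⟩
  have hPm : P.Monic := hPP ▸ (monic_X_sub_C 1).mul hPm'
  have := finite_adjoinRoot hPm
  set k₀ := AdjoinRoot.mk P P' with hk0
  have hk₀ : AdjoinRoot.root P * k₀ = k₀ := by
    have h0 : AdjoinRoot.mk P ((X - C 1) * P') = 0 := AdjoinRoot.mk_eq_zero.2 (dvd_of_eq hPP)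
    rw [map_mul, map_sub, AdjoinRoot.mk_X, map_one, map_one, sub_mul, one_mul, sub_eq_zero] at h0
    exact h0
  have hψ₀ : ψ k₀ ≠ 0 := by
    obtain ⟨k, hk, hk'⟩ := hψ
    obtain ⟨g, rfl⟩ := AdjoinRoot.mk_surjective k
    have hd : P ∣ (X - C 1) * g := AdjoinRoot.mk_eq_zero.1 (by
      rw [map_mul, map_sub, sub_mul, AdjoinRoot.mk_X, map_one, map_one, one_mul, sub_eq_zero]
      exact hk)
    replace hd : (X - C 1) * P' ∣ (X - C 1) * g := (dvd_of_eq hPP.symm).trans hd
    obtain ⟨g', rfl⟩ := (mul_dvd_mul_iff_left (X_sub_C_ne_zero (1 : F))).1 hd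
    intro h0
    apply hk'
    rw [mul_comm, map_mul, ← hk0, eval_one_eq_mk P g' k₀ hk₀, map_smul, h0, smul_zero]
  set L := lower (mroot P) ψ 1
  have hstep : ∀ a b, L (a, b) - (a, b) = (mroot P a - a, ψ a) := fun a b => by
    rw [lower_apply]; exact Prod.ext rfl (by simp)
  have hP1 : aeval L P (1, 0) = (0, ψ k₀) := by
    rw [(congrArg (aeval L) hPP).trans (map_mul _ _ _), Module.End.mul_apply]
    rcases hx : aeval L P' ((1 : AdjoinRoot P), (0 : F)) with ⟨a, b⟩
    have ha : a = k₀ := by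
      have := congrArg Prod.fst hx
      rw [aeval_lower, aeval_mroot, mul_one] at this
      exact this.symm
    simp only [map_sub, aeval_X, map_one, LinearMap.sub_apply, Module.End.one_apply, hstep, ha]
    refine Prod.ext ?_ rfl
    simp [mroot, hk₀]
  have hpow : (X - C 1) ^ (j + 2) * Q = (X - C 1) * P := by rw [hP, pow_succ' _ (j + 1)]; ring
  rw [hpow]
  refine (iso_mroot_of_vector ((monic_X_sub_C 1).mul hPm) _ ((1 : AdjoinRoot P), (0 : F)) ?_ ?_ fun G hG h0 => ?_).symm
  · rw [map_mul, Module.End.mul_apply, hP1]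
    simp only [map_sub, aeval_X, map_one, LinearMap.sub_apply, Module.End.one_apply]
    exact (hstep _ _).trans (Prod.ext (by simp) (map_zero ψ))
  · rw [Module.finrank_prod, finrank_self, (AdjoinRoot.powerBasis' hPm).finrank,
      (monic_X_sub_C (1 : F)).natDegree_mul hPm, natDegree_X_sub_C, add_comm]
    rfl
  · have h1 := congrArg Prod.fst h0
    rw [aeval_lower, aeval_mroot, mul_one] at h1
    obtain ⟨c, rfl⟩ := AdjoinRoot.mk_eq_zero.1 h1
    rcases eq_or_ne c 0 with rfl | hc
    · rw [mul_zero]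
    exfalso
    have hcd : c.natDegree = 0 := by
      rw [degree_eq_natDegree (mul_ne_zero hPm.ne_zero hc), degree_eq_natDegree ((monic_X_sub_C (1:F)).mul hPm).ne_zero,
        Nat.cast_lt, natDegree_mul hPm.ne_zero hc, natDegree_mul (X_sub_C_ne_zero _) hPm.ne_zero, natDegree_X_sub_C] at hG
      omega
    obtain ⟨a, rfl⟩ := natDegree_eq_zero.1 hcd
    rw [mul_comm, map_mul, aeval_C, Module.End.mul_apply, hP1, Module.algebraMap_end_apply] at h0
    have := congrArg Prod.snd h0
    simp at this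
    rcases this with h | h
    · exact hc (by simp [h])
    · exact hψ₀ h

end Cfsg.Agent.Lib.SLCommutator
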