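import Cfsg.Agent.Lib.SLCommutator.Core
import Cfsg.Agent.Lib.Similarity.KerDim

/-!
Decompositions into cyclic pieces.
-/

set_option autoImplicit false
set_option linter.unusedSectionVars false

namespace Cfsg.Agent.Lib.SLCommutator

open Polynomial Module

universe u

variable {F : Type u} [Field F]

/-- A monic polynomial with non-zero constant term. -/
def Good (p : F[X]) : Prop := p.Monic ∧ p.coeff 0 ≠ 0

theorem Good.mul {p q : F[X]} (hp : Good p) (hq : Good q) : Good (p * q) :=
  ⟨hp.1.mul hq.1, by rw [mul_coeff_zero]; exact mul_ne_zero hp.2 hq.2⟩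

/-- A decomposition into cyclic pieces. -/
inductive Pieces : ∀ {V : Type u} [AddCommGroup V] [Module F V], End F V → List F[X] → Prop
  | nil {V : Type u} [AddCommGroup V] [Module F V] (A : End F V) (h : Subsingleton V) : Pieces A []
  | cons {V : Type u} [AddCommGroup V] [Module F V] (A : End F V) {W : Type u} [AddCommGroup W] [Module F W]
      (A' : End F W) {p : F[X]} {l : List F[X]} (hp : Good p) (h : Iso A ((mroot p).prodMap A'))
      (hf : Module.Finite F W) (h' : Pieces A' l) : Pieces A (p :: l)

variable {V W : Type u} [AddCommGroup V] [Module F V] [AddCommGroup W] [Module F W]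

theorem Pieces.of_iso {A : End F V} {A' : End F W} {l : List F[X]} (h : Pieces A l) (e : Iso A A') : Pieces A' l := by
  cases h with
  | nil _ hs =>
    obtain ⟨e, -⟩ := e
    exact Pieces.nil A' e.symm.toEquiv.subsingleton
  | cons _ B hp h hf h' => exact Pieces.cons A' B hp (e.symm.trans h) hf h'

theorem Pieces.finite {A : End F V} {l : List F[X]} (h : Pieces A l) : Module.Finite F V := by
  cases h with
  | nil _ hs => exact Module.Finite.of_finite
  | cons _ B hp h hf h' =>
    obtain ⟨e, -⟩ := h
    have := finite_adjoinRoot hp.1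
    exact Module.Finite.equiv e.symm

theorem Pieces.good {A : End F V} {l : List F[X]} (h : Pieces A l) : ∀ p ∈ l, Good p := by
  induction h with
  | nil => simp
  | cons A A' hp h hf h' ih =>
    intro x hx
    rcases List.mem_cons.1 hx with rfl | hx
    · exact hp
    · exact ih x hx

theorem Pieces.perm {A : End F V} {l l' : List F[X]} (h : Pieces A l) (hl : l.Perm l') : Pieces A l' := by
  induction hl generalizing V with
  | nil => exact h
  | cons x _ ih =>
    cases h with
    | cons _ A' hp h hf h' => exact Pieces.cons A A' hp h hf (ih h')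
  | swap x y l =>
    cases h with
    | cons _ A₁ hy h1 hf1 h1' =>
      cases h1' with
      | cons _ A₂ hx h2 hf2 h2' =>
        have := finite_adjoinRoot hy.1
        exact Pieces.cons A ((mroot y).prodMap A₂) hx
          (h1.trans (((Iso.refl (mroot y)).prod h2).trans ((iso_assoc _ _ _).symm.trans
            (((iso_comm (mroot y) (mroot x)).prod (Iso.refl A₂)).trans (iso_assoc _ _ _)))))
          inferInstance (Pieces.cons _ A₂ hy (Iso.refl _) hf2 h2')
  | trans _ _ ih1 ih2 => exact ih2 (ih1 h)

/-- Splitting a decomposition. -/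
theorem Pieces.split {A : End F V} {l₁ l₂ : List F[X]} (h : Pieces A (l₁ ++ l₂)) :
    ∃ (V₁ V₂ : Type u) (_ : AddCommGroup V₁) (_ : Module F V₁) (_ : AddCommGroup V₂) (_ : Module F V₂)
      (A₁ : End F V₁) (A₂ : End F V₂), Iso A (A₁.prodMap A₂) ∧ Pieces A₁ l₁ ∧ Pieces A₂ l₂ := by
  induction l₁ generalizing V with
  | nil =>
    refine ⟨ULift.{u} (Fin 0 → F), V, inferInstance, inferInstance, inferInstance, inferInstance, 0, A, ?_,
      Pieces.nil _ inferInstance, h⟩
    exact ⟨LinearEquiv.symm
      { toFun := fun x => x.2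
        map_add' := fun _ _ => rfl
        map_smul' := fun _ _ => rfl
        invFun := fun v => (0, v)
        left_inv := fun x => Prod.ext (Subsingleton.elim _ _) rfl
        right_inv := fun _ => rfl }, fun v => Prod.ext (Subsingleton.elim _ _) rfl⟩
  | cons p t ih =>
    cases h with
    | cons _ A' hp h hf h' =>
      obtain ⟨V₁, V₂, _, _, _, _, A₁, A₂, hi, h1, h2⟩ := ih h'
      have := h1.finite
      exact ⟨AdjoinRoot p × V₁, V₂, inferInstance, inferInstance, inferInstance, inferInstance, (mroot p).prodMap A₁, A₂,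
        h.trans (((Iso.refl _).prod hi).trans (iso_assoc _ _ _).symm), Pieces.cons _ A₁ hp (Iso.refl _) this h1, h2⟩

theorem Pieces.single {A : End F V} {p : F[X]} (h : Pieces A [p]) : Iso A (mroot p) := by
  cases h with
  | cons _ A' hp h hf h' =>
    cases h' with
    | nil _ hs =>
      refine h.trans ⟨{ toFun := fun x => x.1
                        map_add' := fun _ _ => rfl
                        map_smul' := fun _ _ => rfl
                        invFun := fun v => (v, 0)
                        left_inv := fun x => Prod.ext rfl (Subsingleton.elim _ _)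
                        right_inv := fun _ => rfl }, fun v => rfl⟩

/-- The Chinese remainder theorem for pieces. -/
theorem iso_mroot_mul {p q : F[X]} (hp : p.Monic) (hq : q.Monic) (h : IsCoprime p q) :
    Iso (mroot (p * q)) ((mroot p).prodMap (mroot q)) := by
  have := finite_adjoinRoot hp
  have := finite_adjoinRoot hq
  have := finite_adjoinRoot (hp.mul hq)
  let φ : AdjoinRoot (p * q) →ₐ[F] AdjoinRoot p × AdjoinRoot q :=
    Ideal.Quotient.liftₐ (Ideal.span {p * q}) (AlgHom.prod (Ideal.Quotient.mkₐ F (Ideal.span {p})) (Ideal.Quotient.mkₐ F (Ideal.span {q})))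
      fun x hx => by
        obtain ⟨c, rfl⟩ := Ideal.mem_span_singleton.1 hx
        exact Prod.ext (AdjoinRoot.mk_eq_zero.2 ⟨q * c, by ring⟩) (AdjoinRoot.mk_eq_zero.2 ⟨p * c, by ring⟩)
  have hφ : ∀ g, φ (AdjoinRoot.mk (p * q) g) = (AdjoinRoot.mk p g, AdjoinRoot.mk q g) := fun g => rfl
  have hinj : Function.Injective φ.toLinearMap := by
    rw [injective_iff_map_eq_zero]
    intro x hx
    obtain ⟨g, rfl⟩ := AdjoinRoot.mk_surjective x
    rw [show φ.toLinearMap (AdjoinRoot.mk (p * q) g) = _ from hφ g, Prod.mk_eq_zero, AdjoinRoot.mk_eq_zero,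
      AdjoinRoot.mk_eq_zero] at hx
    exact AdjoinRoot.mk_eq_zero.2 (h.mul_dvd hx.1 hx.2)
  refine ⟨LinearMap.linearEquivOfInjective φ.toLinearMap hinj ?_, fun x => ?_⟩
  · rw [Module.finrank_prod, (AdjoinRoot.powerBasis' hp).finrank, (AdjoinRoot.powerBasis' hq).finrank,
      (AdjoinRoot.powerBasis' (hp.mul hq)).finrank]
    exact hp.natDegree_mul hq
  · obtain ⟨g, rfl⟩ := AdjoinRoot.mk_surjective x
    show φ (AdjoinRoot.mk (p * q) X * AdjoinRoot.mk (p * q) g) = _
    rw [← map_mul, hφ, map_mul, map_mul]
    rfl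

theorem Pieces.merge {A : End F V} {p q : F[X]} {l : List F[X]} (h : Pieces A (p :: q :: l)) (hc : IsCoprime p q) :
    Pieces A (p * q :: l) := by
  cases h with
  | cons _ A₁ hp h1 hf1 h1' =>
    cases h1' with
    | cons _ A₂ hq h2 hf2 h2' =>
      exact Pieces.cons A A₂ (hp.mul hq) (h1.trans (((Iso.refl _).prod h2).trans ((iso_assoc _ _ _).symm.trans
        ((iso_mroot_mul hp.1 hq.1 hc).symm.prod (Iso.refl _))))) hf2 h2'

theorem Pieces.finrank_eq {A : End F V} {l : List F[X]} (h : Pieces A l) :
    finrank F V = (l.map natDegree).sum := by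
  induction h with
  | nil A hs => simp [finrank_zero_of_subsingleton]
  | @cons V _ _ A W _ _ A' p l hp h hf h' ih =>
    obtain ⟨e, -⟩ := h
    have := finite_adjoinRoot hp.1
    rw [e.finrank_eq, Module.finrank_prod, (AdjoinRoot.powerBasis' hp.1).finrank, ih]
    rfl

theorem Pieces.det_eq {A : End F V} {l : List F[X]} (h : Pieces A l) :
    LinearMap.det A = (l.map fun p => (-1) ^ p.natDegree * p.coeff 0).prod := by
  induction h with
  | nil A hs =>
    rw [show A = 1 from LinearMap.ext fun v => Subsingleton.elim _ _, map_one]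
    rfl
  | @cons V _ _ A W _ _ A' p l hp h hf h' ih =>
    have := finite_adjoinRoot hp.1
    rw [h.det_eq, LinearMap.det_prodMap, det_mroot hp.1, ih]
    rfl

/-- Every automorphism decomposes into pieces which are prime powers. -/
theorem exists_pieces [FiniteDimensional F V] (A : End F V) (hA : LinearMap.det A ≠ 0) :
    ∃ l : List F[X], Pieces A l ∧ ∀ p ∈ l, ∃ (π : F[X]) (e : ℕ), Irreducible π ∧ π.Monic ∧ 1 ≤ e ∧ p = π ^ e := by
  classical
  obtain ⟨ι, _, p, hp, e, ⟨E⟩⟩ := Module.equiv_directSum_of_isTorsion (Similarity.isTorsion_aeval A)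
  let q : ι → F[X] := fun i => normalize (p i)
  have hq : ∀ i, Irreducible (q i) ∧ (q i).Monic := fun i =>
    ⟨(normalize_associated (p i)).symm.irreducible (hp i), Polynomial.monic_normalize (hp i).ne_zero⟩
  have hspan : ∀ (a : F[X]) (m : ℕ),
      (Submodule.span F[X] {a ^ m} : Submodule F[X] F[X]) = Ideal.span {normalize a ^ m} := fun a m =>
    (Ideal.span_singleton_eq_span_singleton.2 ((normalize_associated a).symm.pow_pow))
  let M := fun i : ι => F[X] ⧸ Ideal.span {q i ^ e i}
  let E1 : Module.AEval' A ≃ₗ[F[X]] (∀ i, M i) :=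
    E ≪≫ₗ DirectSum.linearEquivFunOnFintype F[X] ι _ ≪≫ₗ
      LinearEquiv.piCongrRight (fun i => Submodule.quotEquivOfEq _ _ (hspan (p i) (e i)))
  let φ : V ≃ₗ[F] ∀ i, M i := (Module.AEval'.of A).trans (E1.restrictScalars F)
  have hφ : ∀ v i, φ (A v) i = (X : F[X]) • φ v i := by
    intro v i
    show E1 (Module.AEval'.of A (A v)) i = _
    rw [← Module.AEval'.X_smul_of, map_smul]
    rfl
  let AM : ∀ i, End F (AdjoinRoot (q i ^ e i)) := fun i => mroot (q i ^ e i)
  let T : End F (∀ i, AdjoinRoot (q i ^ e i)) := LinearMap.pi fun i => (AM i) ∘ₗ LinearMap.proj i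
  have hAT : Iso A T := ⟨φ, fun v => funext fun i => by
    show φ (A v) i = (AdjoinRoot.mk (q i ^ e i) X * (show AdjoinRoot (q i ^ e i) from φ v i) : AdjoinRoot (q i ^ e i))
    rw [hφ]
    obtain ⟨g, hg⟩ := AdjoinRoot.mk_surjective (φ v i : AdjoinRoot (q i ^ e i))
    rw [← hg]
    rfl⟩
  have hgood : ∀ i, e i ≠ 0 → Good (q i ^ e i) := by
    intro i hi
    refine ⟨(hq i).2.pow _, fun h0 => hA ?_⟩
    have := finite_adjoinRoot ((hq i).2.pow (e i))
    have hker := LinearMap.bot_lt_ker_of_det_eq_zero (f := AM i) (by rw [det_mroot ((hq i).2.pow _), h0, mul_zero])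
    obtain ⟨v, hv, hv0⟩ := (Submodule.ne_bot_iff _).1 hker.ne'
    by_contra hdet
    obtain ⟨e', he'⟩ := hAT
    have hTinj : Function.Injective T := fun x y h => by
      obtain ⟨x, rfl⟩ := e'.surjective x
      obtain ⟨y, rfl⟩ := e'.surjective y
      rw [← he', ← he'] at h
      exact congrArg e' ((LinearMap.equivOfDetNeZero A hdet).injective (e'.injective h))
    apply hv0
    have h0 : T (Pi.single i v) = T 0 := by
      rw [map_zero]
      funext j
      rcases eq_or_ne j i with rfl | hj
      · simpa [T] using hv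
      · simp [T, Pi.single_eq_of_ne hj]
    simpa using congrFun (hTinj h0) i
  have key : ∀ (k : ℕ) (f : Fin k → ι), ∃ l : List F[X],
      Pieces (LinearMap.pi fun j : Fin k => (AM (f j)) ∘ₗ LinearMap.proj j) l ∧
      ∀ p ∈ l, ∃ (π : F[X]) (m : ℕ), Irreducible π ∧ π.Monic ∧ 1 ≤ m ∧ p = π ^ m := by
    intro k
    induction k with
    | zero => exact fun f => ⟨[], Pieces.nil _ inferInstance, by simp⟩
    | succ k ih =>
      intro f
      obtain ⟨l, hl, hlp⟩ := ih fun j => f j.succ
      let T' := LinearMap.pi fun j : Fin k => (AM (f j.succ)) ∘ₗ LinearMap.proj (R := F) (φ := fun j => AdjoinRoot (q (f j.succ) ^ e (f j.succ))) j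
      let eqv : (∀ j : Fin (k + 1), AdjoinRoot (q (f j) ^ e (f j))) ≃ₗ[F]
          AdjoinRoot (q (f 0) ^ e (f 0)) × ∀ j : Fin k, AdjoinRoot (q (f j.succ) ^ e (f j.succ)) :=
        { toFun := fun x => (x 0, fun j => x j.succ)
          map_add' := fun _ _ => rfl
          map_smul' := fun _ _ => rfl
          invFun := fun y => Fin.cons y.1 y.2
          left_inv := fun x => Fin.cons_self_tail x
          right_inv := fun y => by simp }
      have hiso : Iso (LinearMap.pi fun j : Fin (k + 1) => (AM (f j)) ∘ₗ LinearMap.proj j) ((AM (f 0)).prodMap T') :=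
        ⟨eqv, fun x => rfl⟩
      by_cases he : e (f 0) = 0
      · refine ⟨l, hl.of_iso (Iso.symm (hiso.trans ?_)), hlp⟩
        have : Subsingleton (AdjoinRoot (q (f 0) ^ e (f 0))) := by
          rw [he, pow_zero]
          exact Ideal.Quotient.subsingleton_iff.2 (by simp)
        exact ⟨{ toFun := fun x => x.2
                 map_add' := fun _ _ => rfl
                 map_smul' := fun _ _ => rfl
                 invFun := fun v => (0, v)
                 left_inv := fun x => Prod.ext (Subsingleton.elim _ _) rfl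
                 right_inv := fun _ => rfl }, fun v => rfl⟩
      · refine ⟨q (f 0) ^ e (f 0) :: l, Pieces.cons _ T' (hgood _ he) hiso hl.finite hl, fun x hx => ?_⟩
        rcases List.mem_cons.1 hx with rfl | hx
        · exact ⟨q (f 0), e (f 0), (hq _).1, (hq _).2, Nat.one_le_iff_ne_zero.2 he, rfl⟩
        · exact hlp x hx
  let σ := (Fintype.equivFin ι).symm
  obtain ⟨l, hl, hlp⟩ := key (Fintype.card ι) σ
  refine ⟨l, hl.of_iso (Iso.symm (hAT.trans ?_)), hlp⟩
  exact ⟨(LinearEquiv.piCongrLeft F (fun i => AdjoinRoot (q i ^ e i)) σ).symm, fun _ => rfl⟩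

end Cfsg.Agent.Lib.SLCommutator
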