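import Cfsg.Agent.Lib.SLCommutator.Pieces
import Cfsg.Agent.Lib.SLCommutator.Decomp

/-!
Commutators of block triangular maps with diagonal blocks of coprime spectra.
-/

set_option autoImplicit false
set_option linter.unusedSectionVars false

namespace Cfsg.Agent.Lib.SLCommutator

open Polynomial Module

universe u

variable {F : Type u} [Field F]

/-- A commutator whose first entry is killed by `W`. -/
def CommW {V : Type u} [AddCommGroup V] [Module F V] (A : End F V) (W : F[X]) : Prop :=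
  ∃ B X : End F V, LinearMap.det B = 1 ∧ LinearMap.det X = 1 ∧ A * X * B = B * X ∧ aeval B W = 0

theorem CommW.comm {V : Type u} [AddCommGroup V] [Module F V] {A : End F V} {W : F[X]} (h : CommW A W) : Comm A := by
  obtain ⟨B, X, hB, hX, h, -⟩ := h
  exact ⟨B, X, hB, hX, h⟩

theorem Iso.commW {V V' : Type u} [AddCommGroup V] [Module F V] [Module.Finite F V] [AddCommGroup V'] [Module F V']
    [Module.Finite F V'] {f : End F V} {g : End F V'} (h : Iso f g) {W : F[X]} (hc : CommW f W) : CommW g W := by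
  obtain ⟨e, he⟩ := h
  obtain ⟨B, X, hB, hX, hA, hW⟩ := hc
  have hg : g = e.conj f := LinearMap.ext fun w => by simp [he]
  have hmul : ∀ a b : End F V, e.conj (a * b) = e.conj a * e.conj b := fun a b => e.conj_comp b a
  refine ⟨e.conj B, e.conj X, by rw [det_conj_eq, hB], by rw [det_conj_eq, hX],
    by rw [hg, ← hmul, ← hmul, hA, hmul], ?_⟩
  show aeval ((LinearEquiv.conjAlgEquiv F e) B) W = 0
  rw [aeval_algHom_apply, hW, map_zero]

variable {U U' : Type u} [AddCommGroup U] [Module F U] [Module.Finite F U] [AddCommGroup U'] [Module F U'] [Module.Finite F U']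

/-- A block triangular map. -/
noncomputable def triang (A₁ : End F U) (Y : U' →ₗ[F] U) (A₂ : End F U') : End F (U × U') :=
  LinearMap.prod (A₁ ∘ₗ LinearMap.fst F U U' + Y ∘ₗ LinearMap.snd F U U') (A₂ ∘ₗ LinearMap.snd F U U')

theorem triang_apply (A₁ : End F U) (Y : U' →ₗ[F] U) (A₂ : End F U') (u : U) (w : U') :
    triang A₁ Y A₂ (u, w) = (A₁ u + Y w, A₂ w) := rfl

theorem det_triang (A₁ : End F U) (Y : U' →ₗ[F] U) (A₂ : End F U') :
    LinearMap.det (triang A₁ Y A₂) = LinearMap.det A₁ * LinearMap.det A₂ := by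
  classical
  let b := Module.finBasis F U
  let c := Module.finBasis F U'
  rw [← LinearMap.det_toMatrix (b.prod c)]
  set T := LinearMap.toMatrix (b.prod c) (b.prod c) (triang A₁ Y A₂)
  rw [← Matrix.fromBlocks_toBlocks T]
  have h21 : T.toBlocks₂₁ = 0 := by
    ext i j
    simp [T, Matrix.toBlocks₂₁, LinearMap.toMatrix_apply, triang]
  have h11 : T.toBlocks₁₁ = LinearMap.toMatrix b b A₁ := by
    ext i j
    simp [T, Matrix.toBlocks₁₁, LinearMap.toMatrix_apply, triang]
  have h22 : T.toBlocks₂₂ = LinearMap.toMatrix c c A₂ := by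
    ext i j
    simp [T, Matrix.toBlocks₂₂, LinearMap.toMatrix_apply, triang]
  rw [h21, h11, h22, Matrix.det_fromBlocks_zero₂₁, LinearMap.det_toMatrix, LinearMap.det_toMatrix]

theorem aeval_intertwine {B : End F U} {C : End F U'} {y : U →ₗ[F] U'} (h : ∀ u, y (B u) = C (y u)) (g : F[X]) :
    ∀ u, y (aeval B g u) = aeval C g (y u) := by
  induction g using Polynomial.induction_on' with
  | add p q hp hq => intro u; simp [map_add, hp, hq]
  | monomial n a =>
    intro u
    have hpow : ∀ k : ℕ, y ((B ^ k) u) = (C ^ k) (y u) := by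
      intro k
      induction k with
      | zero => simp
      | succ k ih => rw [pow_succ', pow_succ']; simp only [Module.End.mul_apply]; rw [h, ih]
    simp [aeval_monomial, Module.algebraMap_end_apply, hpow]

theorem isUnit_of_coprime {B : End F U} {W W' : F[X]} (h : IsCoprime W W') (hB : aeval B W' = 0) :
    IsUnit (aeval B W) := by
  obtain ⟨a, b, hab⟩ := h
  have h1 := congrArg (aeval B) hab
  rw [map_add, map_mul, map_mul, hB, mul_zero, add_zero, map_one] at h1
  refine ⟨⟨aeval B W, aeval B a, ?_, h1⟩, rfl⟩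
  rw [← map_mul, mul_comm, map_mul, h1]

/-- Extensions of commutators with coprime spectra. -/
theorem comm_triang {A₁ : End F U} {A₂ : End F U'} {W₁ W₂ : F[X]} (h₁ : CommW A₁ W₁) (h₂ : CommW A₂ W₂)
    (hA₁ : LinearMap.det A₁ ≠ 0) (hc : IsCoprime W₁ W₂) (Y : U' →ₗ[F] U) : Comm (triang A₁ Y A₂) := by
  obtain ⟨B₁, X₁, hB₁, hX₁, h1, hW₁⟩ := h₁
  obtain ⟨B₂, X₂, hB₂, hX₂, h2, hW₂⟩ := h₂
  let T : (U' →ₗ[F] U) →ₗ[F] (U' →ₗ[F] U) :=
    { toFun := fun y => A₁ ∘ₗ y ∘ₗ B₂ - B₁ ∘ₗ y
      map_add' := fun y y' => LinearMap.ext fun z => by simp; abel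
      map_smul' := fun c y => LinearMap.ext fun z => by simp [smul_sub] }
  have hinj : Function.Injective T := by
    rw [injective_iff_map_eq_zero]
    intro y hy
    obtain ⟨eA, heA⟩ : IsUnit A₁ := LinearMap.isUnit_iff_ker_eq_bot _ |>.2
      (LinearMap.ker_eq_bot.2 (LinearMap.equivOfDetNeZero _ hA₁).injective)
    obtain ⟨eX, heX⟩ : IsUnit X₁ := LinearMap.isUnit_iff_ker_eq_bot _ |>.2
      (LinearMap.ker_eq_bot.2 (LinearMap.equivOfDetNeZero _ (by rw [hX₁]; exact one_ne_zero)).injective)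
    set Ai := ((eA⁻¹ : (End F U)ˣ) : End F U)
    have hAi : ∀ u, Ai (A₁ u) = u := fun u => by
      rw [← heA, ← Module.End.mul_apply, Units.inv_mul, Module.End.one_apply]
    set C := Ai * B₁ with hC
    have hXC : ∀ u, X₁ (B₁ u) = C (X₁ u) := fun u => by
      have := LinearMap.congr_fun h1 u
      simp only [Module.End.mul_apply] at this
      rw [hC, Module.End.mul_apply, ← this, hAi]
    have hCW : ∀ u, aeval C W₁ u = 0 := fun u => by
      obtain ⟨u', rfl⟩ : ∃ u', X₁ u' = u := ⟨((eX⁻¹ : (End F U)ˣ) : End F U) u, by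
        rw [← heX, ← Module.End.mul_apply, Units.mul_inv, Module.End.one_apply]⟩
      rw [← aeval_intertwine hXC, hW₁]
      simp
    have hyC : ∀ z, y (B₂ z) = C (y z) := fun z => by
      have := LinearMap.congr_fun hy z
      simp only [T, LinearMap.coe_mk, AddHom.coe_mk, LinearMap.sub_apply, LinearMap.comp_apply, LinearMap.zero_apply,
        sub_eq_zero] at this
      rw [hC, Module.End.mul_apply, ← this, hAi]
    obtain ⟨e, he⟩ := isUnit_of_coprime hc hW₂
    refine LinearMap.ext fun z => ?_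
    obtain ⟨z', rfl⟩ : ∃ z', aeval B₂ W₁ z' = z := ⟨((e⁻¹ : (End F U')ˣ) : End F U') z, by
      rw [← he, ← Module.End.mul_apply, Units.mul_inv, Module.End.one_apply]⟩
    rw [aeval_intertwine hyC, hCW]
    rfl
  obtain ⟨y, hy⟩ := LinearMap.injective_iff_surjective.1 hinj (-(Y ∘ₗ X₂ ∘ₗ B₂))
  refine ⟨triang B₁ 0 B₂, triang X₁ y X₂, by rw [det_triang, hB₁, hB₂, one_mul],
    by rw [det_triang, hX₁, hX₂, one_mul], LinearMap.ext fun ⟨u, w⟩ => ?_⟩
  have e1 := LinearMap.congr_fun h1 u
  have e2 := LinearMap.congr_fun h2 w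
  have e3 := LinearMap.congr_fun hy w
  simp only [T, LinearMap.coe_mk, AddHom.coe_mk, LinearMap.sub_apply, LinearMap.comp_apply, LinearMap.neg_apply] at e3
  simp only [Module.End.mul_apply] at e1 e2
  simp only [Module.End.mul_apply, triang_apply, LinearMap.zero_apply, add_zero, map_add, e1, e2]
  refine Prod.ext ?_ rfl
  show B₁ (X₁ u) + A₁ (y (B₂ w)) + Y (X₂ (B₂ w)) = B₁ (X₁ u) + B₁ (y w)
  rw [sub_eq_iff_eq_add] at e3
  rw [e3]; abel

/-- A product of moduli gives an extension. -/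
theorem exists_iso_triang {f g : F[X]} (hf : f.Monic) (hg : g.Monic) :
    ∃ Y : AdjoinRoot g →ₗ[F] AdjoinRoot f, Iso (triang (mroot f) Y (mroot g)) (mroot (f * g)) := by
  have := finite_adjoinRoot hf
  have := finite_adjoinRoot hg
  have := finite_adjoinRoot (hf.mul hg)
  let m := AdjoinRoot.modByMonicHom hg
  let mg : AdjoinRoot f →ₗ[F] AdjoinRoot (f * g) :=
    { toFun := fun u => AdjoinRoot.mk (f * g) (g * AdjoinRoot.modByMonicHom hf u)
      map_add' := fun a b => by rw [map_add, mul_add, map_add]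
      map_smul' := fun c a => by
        rw [map_smul, Polynomial.smul_eq_C_mul, ← mul_assoc, mul_comm g, mul_assoc, map_mul, AdjoinRoot.mk_C, RingHom.id_apply,
          Algebra.smul_def]
        rfl }
  let mw : AdjoinRoot g →ₗ[F] AdjoinRoot (f * g) :=
    { toFun := fun w => AdjoinRoot.mk (f * g) (m w)
      map_add' := fun a b => by rw [map_add, map_add]
      map_smul' := fun c a => by
        rw [map_smul, Polynomial.smul_eq_C_mul, map_mul, AdjoinRoot.mk_C, RingHom.id_apply, Algebra.smul_def]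
        rfl }
  let ι := mg.coprod mw
  have hmg : ∀ G : F[X], mg (AdjoinRoot.mk f G) = AdjoinRoot.mk (f * g) (g * G) := fun G => by
    show AdjoinRoot.mk (f * g) (g * AdjoinRoot.modByMonicHom hf (AdjoinRoot.mk f G)) = _
    rw [AdjoinRoot.modByMonicHom_mk, AdjoinRoot.mk_eq_mk]
    refine ⟨-(G /ₘ f), ?_⟩
    linear_combination g * modByMonic_add_div G f
  have hinj : Function.Injective ι := by
    rw [injective_iff_map_eq_zero]
    rintro ⟨u, w⟩ h
    obtain ⟨G, rfl⟩ := AdjoinRoot.mk_surjective u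
    obtain ⟨H, rfl⟩ := AdjoinRoot.mk_surjective w
    simp only [ι, LinearMap.coprod_apply, hmg] at h
    have h' : f * g ∣ g * G + m (AdjoinRoot.mk g H) := AdjoinRoot.mk_eq_zero.1 (by rw [map_add]; exact h)
    have hgm : g ∣ m (AdjoinRoot.mk g H) := (dvd_add_right (dvd_mul_right g G)).1 ((dvd_mul_left g f).trans h')
    have hm0 : m (AdjoinRoot.mk g H) = 0 := eq_zero_of_dvd_of_degree_lt hgm (by
      simp only [m, AdjoinRoot.modByMonicHom_mk]; exact degree_modByMonic_lt H hg)
    rw [hm0, add_zero, mul_comm f g] at h'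
    have hG := (mul_dvd_mul_iff_left hg.ne_zero).1 h'
    refine Prod.ext (AdjoinRoot.mk_eq_zero.2 hG) ?_
    rw [← AdjoinRoot.mk_leftInverse hg (AdjoinRoot.mk g H), hm0, map_zero]
    rfl
  let e := LinearMap.linearEquivOfInjective ι hinj (by
    rw [Module.finrank_prod, (AdjoinRoot.powerBasis' hf).finrank, (AdjoinRoot.powerBasis' hg).finrank,
      (AdjoinRoot.powerBasis' (hf.mul hg)).finrank]
    exact (hf.natDegree_mul hg).symm)
  let A := e.symm.conj (mroot (f * g))
  have hA : ∀ x, ι (A x) = AdjoinRoot.root (f * g) * ι x := fun x => by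
    show e (A x) = AdjoinRoot.root (f * g) * e x
    simp [A, mroot]
  have hAu : ∀ u, A (u, 0) = (mroot f u, 0) := fun u => hinj (by
    rw [hA]
    obtain ⟨G, rfl⟩ := AdjoinRoot.mk_surjective u
    simp only [ι, LinearMap.coprod_apply, map_zero, add_zero, mroot, LinearMap.mulLeft_apply, hmg]
    rw [← AdjoinRoot.mk_X, ← AdjoinRoot.mk_X, ← map_mul, ← map_mul, hmg]
    congr 1
    ring)
  refine ⟨(LinearMap.fst F _ _) ∘ₗ A ∘ₗ LinearMap.inr F _ _, e, fun ⟨u, w⟩ => ?_⟩
  show e (triang _ _ _ (u, w)) = mroot (f * g) (e (u, w))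
  have hsplit : A (u, w) = A (u, 0) + A (0, w) := by rw [← map_add]; simp
  have hsnd : (A (0, w)).2 = mroot g w := by
    obtain ⟨H, rfl⟩ := AdjoinRoot.mk_surjective w
    rcases hx : A ((0 : AdjoinRoot f), AdjoinRoot.mk g H) with ⟨a, b⟩
    obtain ⟨G, rfl⟩ := AdjoinRoot.mk_surjective a
    have h := hA ((0 : AdjoinRoot f), AdjoinRoot.mk g H)
    rw [hx] at h
    simp only [ι, LinearMap.coprod_apply, map_zero, zero_add, hmg] at h
    have h' : f * g ∣ g * G + m b - X * m (AdjoinRoot.mk g H) := AdjoinRoot.mk_eq_mk.1 (by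
      rw [map_add, map_mul (AdjoinRoot.mk (f * g)) X, AdjoinRoot.mk_X]
      exact h)
    have h2 : AdjoinRoot.mk g (g * G + m b - X * m (AdjoinRoot.mk g H)) = 0 :=
      AdjoinRoot.mk_eq_zero.2 ((dvd_mul_left g f).trans h')
    rw [map_sub, map_add, map_mul, AdjoinRoot.mk_self, zero_mul, zero_add, map_mul, AdjoinRoot.mk_X, sub_eq_zero,
      show AdjoinRoot.mk g (m b) = b from AdjoinRoot.mk_leftInverse hg b,
      show AdjoinRoot.mk g (m (AdjoinRoot.mk g H)) = AdjoinRoot.mk g H from AdjoinRoot.mk_leftInverse hg _] at h2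
    exact h2
  have : triang (mroot f) ((LinearMap.fst F _ _) ∘ₗ A ∘ₗ LinearMap.inr F _ _) (mroot g) (u, w) = A (u, w) := by
    rw [hsplit, hAu, triang_apply]
    exact Prod.ext rfl (by simp [hsnd])
  rw [this]
  exact hA (u, w)

variable [Fintype F]

/-- A cyclic piece of determinant one and size at least three. -/
theorem commW_piece {p : F[X]} (hp : p.Monic) (hd : 3 ≤ p.natDegree)
    (hdet : LinearMap.det (mroot p) = 1) :
    ∃ W : F[X], Irreducible W ∧ W.natDegree = p.natDegree - 1 ∧ CommW (mroot p) (W * (X - C 1)) := by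
  obtain ⟨b, B₁, C₁, hb, hbd, hb0, hbC, hiso, hdet₁, hu, W, hW, hWd, hBW⟩ :=
    hasPair (p.natDegree - 1) (by omega) (one_ne_zero : (1 : F) ≠ 0)
  have := finite_adjoinRoot hb
  have := finite_adjoinRoot hp
  have hdC : LinearMap.det C₁ ≠ 0 := by rw [← hiso.det_eq, hdet₁]; exact one_ne_zero
  have hdM : LinearMap.det (mroot b) = 1 := by
    have h := congrArg LinearMap.det hbC
    rw [map_mul, hiso.det_eq] at h
    exact (mul_eq_right₀ hdC).1 h
  obtain ⟨B, C', hAC, hdB, hB, hC⟩ := border hp hb (by omega) hb0 hbC hdC (β := 1) (β' := 1)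
    (hu 1).1 (hu 1).2 (by rw [hdet, hdM])
  obtain ⟨X', hX', hAX⟩ := exists_conjugator (monic_X_sub_C (1 : F))
    (p := X - Polynomial.C 1) (fun c hc => by
      have := finite_adjoinRoot (monic_X_sub_C (1 : F))
      refine ⟨c • 1, Commute.smul_left (Commute.one_left _) c, ?_⟩
      rw [LinearMap.det_smul, (AdjoinRoot.powerBasis' (monic_X_sub_C (1 : F))).finrank, AdjoinRoot.powerBasis'_dim,
        natDegree_X_sub_C, pow_one, map_one LinearMap.det, mul_one]) hAC
    (hB.trans ((Iso.refl B₁).prod (iso_line 1)))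
    ((hC.trans (hiso.symm.prod (Iso.refl _))).trans ((Iso.refl B₁).prod (iso_line 1)))
  refine ⟨W, hW, hWd, B, X', by rw [hdB, hdet₁, mul_one], hX', hAX, ?_⟩
  obtain ⟨e, he⟩ := hB
  refine LinearMap.ext fun v => e.injective ?_
  have := aeval_intertwine (B := B) (C := B₁.prodMap (line 1)) (y := (e : _ →ₗ[F] _)) he (W * (X - Polynomial.C 1)) v
  rw [LinearEquiv.coe_coe] at this
  rw [this, LinearMap.zero_apply, map_zero]
  rcases e v with ⟨a, s⟩
  have hpm : ∀ G : F[X], aeval (B₁.prodMap (line 1)) G (a, s) = (aeval B₁ G a, aeval (line 1) G s) := fun G => by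
    refine Prod.ext ?_ ?_
    · exact aeval_intertwine (U := AdjoinRoot b × F) (U' := AdjoinRoot b) (C := B₁) (y := LinearMap.fst F (AdjoinRoot b) F) (fun _ => rfl) G (a, s)
    · exact aeval_intertwine (U := AdjoinRoot b × F) (U' := F) (C := line 1) (y := LinearMap.snd F (AdjoinRoot b) F) (fun _ => rfl) G (a, s)
  rw [hpm]
  refine Prod.ext ?_ ?_
  · show aeval B₁ (W * (X - Polynomial.C 1)) a = 0
    rw [map_mul, hBW, zero_mul]; rfl
  · show aeval (line 1) (W * (X - Polynomial.C 1)) s = 0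
    rw [map_mul, Module.End.mul_apply]
    simp [line]

end Cfsg.Agent.Lib.SLCommutator
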