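import Cfsg.Agent.Lib.SLCommutator.FieldTwo

/-!
The field with three elements.
-/

set_option autoImplicit false
set_option linter.unusedSectionVars false

namespace Cfsg.Agent.Lib.SLCommutator

open Polynomial Module

universe u

variable {F : Type u} [Field F] [Fintype F]

theorem three_eq_zero (h3 : Fintype.card F = 3) : (3 : F) = 0 := by
  have := FiniteField.cast_card_eq_zero F
  rwa [h3, Nat.cast_ofNat] at this

theorem two_ne_zero_three (h3 : Fintype.card F = 3) : (2 : F) ≠ 0 := fun h =>
  one_ne_zero (show (1 : F) = 0 by linear_combination three_eq_zero h3 - h)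

theorem eq_or_of_ne_zero (h3 : Fintype.card F = 3) {x : F} (hx : x ≠ 0) : x = 1 ∨ x = -1 :=
  sq_eq_one_iff.1 (by simpa [h3] using FiniteField.pow_card_sub_one_eq_one x hx)

theorem pieceDet_mul {p q : F[X]} (hp : p.Monic) (hq : q.Monic) : pieceDet (p * q) = pieceDet p * pieceDet q := by
  rw [pieceDet, pieceDet, pieceDet, hp.natDegree_mul hq, mul_coeff_zero, pow_add]; ring

theorem pieceDet_pow {p : F[X]} (hp : p.Monic) (e : ℕ) : pieceDet (p ^ e) = pieceDet p ^ e := by
  induction e with
  | zero => simp [pieceDet]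
  | succ e ih => rw [pow_succ, pieceDet_mul (hp.pow e) hp, ih, pow_succ]

/-- A piece which a chain can pass. -/
def Fine (p : F[X]) : Prop := Good p ∧ (p.natDegree = 1 ∨ 3 ≤ p.natDegree ∨ (p.natDegree = 2 ∧ p.coeff 0 = 1))

theorem rel_fine (h3 : Fintype.card F = 3) {p : F[X]} (hp : Fine p) {β : F} (hβ : β ≠ 0) :
    ∃ ν : F, ν ≠ 0 ∧ Rel (mroot p) (X - C β) (X - C (β / pieceDet p)) ν := by
  obtain ⟨⟨hm, h0⟩, h | h | ⟨h, hc⟩⟩ := hp <;> rw [pieceDet, ← det_mroot hm]
  · exact ⟨β, hβ, piece_one hm h h0 β⟩
  · exact ⟨1, one_ne_zero, piece_big hm h h0 hβ one_ne_zero⟩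
  · have hne : -β ≠ β := fun e => by
      have : (2 : F) * β = 0 := by linear_combination -e
      exact mul_ne_zero (two_ne_zero_three h3) hβ this
    refine ⟨-β * β, mul_ne_zero (neg_ne_zero.2 hβ) hβ, ?_⟩
    have := piece_two hm h h0 (β := β) (ω := -β) (neg_ne_zero.2 hβ) hne (by rw [hc, div_one]; exact hne)
    rw [det_mroot hm, h, hc]
    rw [hc] at this
    simpa using this

theorem chain_fine (h3 : Fintype.card F = 3) : ∀ (l : List F[X]), l ≠ [] → (∀ p ∈ l, Fine p) → ∀ {β : F}, β ≠ 0 →
    ∀ ⦃V : Type u⦄ [AddCommGroup V] [Module F V] (A : End F V), Pieces A l →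
      ∃ ν : F, ν ≠ 0 ∧ Rel A (X - C β) (X - C (β / listDet l)) ν := by
  intro l
  induction l with
  | nil => intro h; exact absurd rfl h
  | cons p t ih =>
    intro _ hl β hβ V _ _ A hA
    have hp := hl p (by simp)
    obtain ⟨ν, hν, hr⟩ := rel_fine h3 hp hβ
    have := hA.finite
    have := finite_adjoinRoot hp.1.1
    rcases eq_or_ne t [] with rfl | ht
    · exact ⟨ν, hν, by simpa [listDet] using hA.single.symm.rel hr⟩
    obtain ⟨V₁, V₂, _, _, _, _, A₁, A₂, hi, h1, h2⟩ := hA.split (l₁ := [p]) (l₂ := t)
    have := h1.finite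
    have := h2.finite
    have hd : pieceDet p ≠ 0 := mul_ne_zero (pow_ne_zero _ (neg_ne_zero.2 one_ne_zero)) hp.1.2
    obtain ⟨ν', hν', hr'⟩ := ih ht (fun q hq => hl q (by simp [hq])) (div_ne_zero hβ hd) A₂ h2
    refine ⟨ν * ν', mul_ne_zero hν hν', hi.symm.rel ?_⟩
    rw [listDet_cons, ← div_div]
    exact (h1.single.symm.rel hr).comp (monic_X_sub_C _) hr'

theorem commList_big (h3 : Fintype.card F = 3) {g : F[X]} {r : List F[X]} (hg : Good g) (hgd : 3 ≤ g.natDegree)
    (hr : ∀ p ∈ r, Fine p) (hd : listDet (g :: r) = 1) : CommList (g :: r) := by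
  rw [listDet_cons] at hd
  rcases eq_or_ne r [] with rfl | hne
  · exact commList_single (comm_big hg.1 hgd (by simpa [listDet] using hd))
  intro V _ _ A hA
  have := hA.finite
  have := finite_adjoinRoot hg.1
  obtain ⟨V₁, V₂, _, _, _, _, A₁, A₂, hi, h1, h2⟩ := hA.split (l₁ := [g]) (l₂ := r)
  have := h1.finite
  have := h2.finite
  have hd0 : pieceDet g ≠ 0 := fun h => by rw [h, zero_mul] at hd; exact zero_ne_one hd
  obtain ⟨ν, hν, hr'⟩ := chain_fine h3 r hne hr (β := 1 / pieceDet g) (div_ne_zero one_ne_zero hd0) A₂ h2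
  rw [div_div, hd, div_one] at hr'
  have hb := piece_big hg.1 hgd hg.2 (one_ne_zero : (1 : F) ≠ 0) (inv_ne_zero hν)
  rw [det_mroot hg.1] at hb
  have hcomp := (h1.single.symm.rel hb).comp (monic_X_sub_C _) hr'
  rw [inv_mul_cancel₀ hν] at hcomp
  refine Rel.comm (monic_X_sub_C _) (sur_linear 1) (one_ne_zero : (1 : F) ≠ 0) ?_
  rw [one_pow]
  exact hi.symm.rel hcomp

theorem quad_forms (h3 : Fintype.card F = 3) {p : F[X]} (hp : p.Monic) (hd : p.natDegree = 2) :
    (p.coeff 0 = 1 → p = X ^ 2 + 1 ∨ p = (X - C 1) ^ 2 ∨ p = (X - C (-1)) ^ 2) ∧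
    (p.coeff 0 = -1 → p = X ^ 2 + X - 1 ∨ p = X ^ 2 - X - 1 ∨ p.eval 1 = 0) := by
  have hp2 : p = C (p.coeff 0) + C (p.coeff 1) * X + X ^ 2 := by
    conv_lhs => rw [hp.as_sum, hd, Finset.sum_range_succ, Finset.sum_range_one]
    simp
    ring
  have h30 : (3 : F[X]) = 0 := by rw [← map_ofNat Polynomial.C, three_eq_zero h3, map_zero]
  have key : p.coeff 1 = 0 ∨ p.coeff 1 = 1 ∨ p.coeff 1 = -1 := by
    rcases eq_or_ne (p.coeff 1) 0 with h | h
    · exact Or.inl h
    · exact Or.inr (eq_or_of_ne_zero h3 h)
  constructor <;> intro h0 <;> rcases key with h1 | h1 | h1 <;> rw [h0, h1] at hp2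
  · left; rw [hp2]; simp; ring
  · right; left; rw [hp2]; simp; linear_combination X * h30
  · right; right; rw [hp2]; simp; linear_combination -X * h30
  · right; right; rw [hp2]; simp
  · left; rw [hp2]; simp; ring
  · right; left; rw [hp2]; simp; ring

theorem primePiece_three (h3 : Fintype.card F = 3) {p : F[X]} (hp : PrimePiece p) :
    Fine p ∨ ((p = X ^ 2 + X - 1 ∨ p = X ^ 2 - X - 1) ∧ Irreducible p ∧ p.natDegree = 2 ∧ pieceDet p = -1) := by
  obtain ⟨hg, π, e, hπ, hπm, he, rfl⟩ := hp
  by_cases hf : Fine (π ^ e)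
  · exact Or.inl hf
  right
  simp only [Fine, not_and_or, not_or, hg, not_true_eq_false, false_or] at hf
  obtain ⟨h1, h3', h2⟩ := hf
  have hdpos : 1 ≤ (π ^ e).natDegree := by
    rw [hπm.natDegree_pow]; exact Nat.mul_pos he hπ.natDegree_pos
  have hd : (π ^ e).natDegree = 2 := by omega
  have hc : (π ^ e).coeff 0 = -1 :=
    (eq_or_of_ne_zero h3 hg.2).resolve_left (h2.resolve_left (fun h => h hd))
  have he1 : e = 1 := by
    by_contra hne
    rw [hπm.natDegree_pow] at hd
    have := hπ.natDegree_pos
    obtain rfl : e = 2 := by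
      have : e ≤ 2 := by nlinarith
      omega
    rw [coeff_zero_eq_eval_zero, eval_pow] at hc
    rcases eq_or_ne (π.eval 0) 0 with h | h
    · rw [h, zero_pow (by norm_num)] at hc; exact one_ne_zero (neg_eq_zero.1 hc.symm)
    · rw [sq_eq_one_iff.2 (eq_or_of_ne_zero h3 h)] at hc
      exact two_ne_zero_three h3 (by linear_combination hc)
  subst he1
  rw [pow_one] at hg hd hc ⊢
  refine ⟨?_, hπ, hd, by rw [pieceDet, hd, hc]; ring⟩
  rcases (quad_forms h3 hπm hd).2 hc with h | h | h
  · exact Or.inl h
  · exact Or.inr h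
  · exfalso
    have := Polynomial.degree_eq_one_of_irreducible_of_root hπ h
    rw [degree_eq_natDegree hπm.ne_zero, hd] at this
    exact absurd this (by norm_num)

/-- The lists which are not commutators. -/
def Exceptional (l : List F[X]) : Prop := l = [(X - C 1) ^ 2] ∨ l = [(X - C (-1)) ^ 2]

theorem coprime_prime_powers {π ρ : F[X]} (hπ : Irreducible π) (hπm : π.Monic) (hρ : Irreducible ρ) (hρm : ρ.Monic)
    (hne : π ≠ ρ) (a b : ℕ) : IsCoprime (π ^ a) (ρ ^ b) :=
  (hπ.coprime_iff_not_dvd.2 fun hd => hne (eq_of_monic_of_associated hπm hρm (hπ.associated_of_dvd hρ hd))).pow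

theorem commList_replicate {p : F[X]} (h : Comm (mroot p)) : ∀ l : List F[X], (∀ q ∈ l, q = p) → CommList l := by
  intro l
  induction l with
  | nil => exact fun _ => commList_nil
  | cons a t ih =>
    intro hl
    obtain rfl := hl a (by simp)
    exact (commList_single h).append (ih fun q hq => hl q (by simp [hq]))

theorem commList_bad_special (h3 : Fintype.card F = 3) {z : F[X]} (hz : z = X ^ 2 + X - 1 ∨ z = X ^ 2 - X - 1)
    (hzm : z.Monic) (hzd : z.natDegree = 2) (hzdet : pieceDet z = -1) {e : ℕ} (he : Odd e) (he3 : 3 ≤ e) :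
    CommList [z, z ^ e] := by
  obtain ⟨j, rfl⟩ : ∃ j, e = 1 + j := ⟨e - 1, by omega⟩
  have hj : Even j := by rcases he with ⟨k, hk⟩; exact ⟨k, by omega⟩
  have hgd : (z ^ j).natDegree = 2 * j := by rw [hzm.natDegree_pow, hzd, mul_comm]
  obtain ⟨W, hW, hWd, hcW⟩ := commW_piece (hzm.pow j) (by omega)
    (by rw [det_mroot (hzm.pow j)]; exact (pieceDet_pow hzm j).trans (by rw [hzdet, hj.neg_one_pow]))
  rw [pow_add, pow_one]
  have h30 : (3 : F[X]) = 0 := by rw [← map_ofNat Polynomial.C, three_eq_zero h3, map_zero]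
  refine commList_pair (comm_line_triang hzm (hzm.pow j) (W₁ := X ^ 4 - X ^ 2 + 1) ?_ hcW (by rw [hzdet]; simp) ?_)
  · rcases hz with rfl | rfl
    · exact three_Zp h3
    · exact three_Zm h3
  refine IsCoprime.mul_right ?_ ?_
  · rw [show (X ^ 4 - X ^ 2 + 1 : F[X]) = (X ^ 2 + 1) ^ 2 by linear_combination (-X ^ 2) * h30]
    refine (hW.coprime_iff_not_dvd.2 fun hd => ?_).symm
    have hdd := natDegree_le_of_dvd (hW.prime.dvd_of_dvd_pow hd) (Monic.ne_zero (by monicity!))
    have hQd : (X ^ 2 + 1 : F[X]).natDegree = 2 := by compute_degree!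
    omega
  · exact ((irreducible_X_sub_C (1 : F)).coprime_iff_not_dvd.2 fun hd => one_ne_zero (show (1 : F) = 0 by
      have := dvd_iff_isRoot.1 hd
      simp at this)).symm

open Classical in
theorem commList_bad (h3 : Fintype.card F = 3) {l : List F[X]} (hl : ∀ p ∈ l, PrimePiece p) (hd : listDet l = 1) {z : F[X]}
    (hz : z ∈ l) (hzf : ¬ Fine z) (hnd : ∀ p ∈ l, ¬ Fine p → p ∉ l.erase p) : CommList l := by
  classical
  obtain ⟨hzf', hzirr, hzd, hzdet⟩ := (primePiece_three h3 (hl z hz)).resolve_left hzf
  have hzg := (hl z hz).1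
  refine CommList.perm ?_ (List.perm_cons_erase hz).symm
  rw [listDet_perm (List.perm_cons_erase hz), listDet_cons, hzdet] at hd
  have hr : ∀ p ∈ l.erase z, p ≠ z := fun p hp hpz => hnd z hz hzf (hpz ▸ hp)
  set r := l.erase z with hrdef
  have hrl : ∀ p ∈ r, p ∈ l := fun p hp => List.mem_of_mem_erase hp
  by_cases hco : ∃ p ∈ r, IsCoprime z p ∧ ∀ q ∈ r.erase p, Fine q
  · obtain ⟨p, hp, hzp, hrest⟩ := hco
    refine CommList.perm (CommList.merge hzp ?_) ((List.perm_cons_erase hp).symm.cons z)
    have hpg := (hl p (hrl p hp)).1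
    refine commList_big h3 (hzg.mul hpg) ?_ hrest ?_
    · obtain ⟨π, e, hπ, hπm, he, rfl⟩ := (hl p (hrl p hp)).2
      rw [hzg.1.natDegree_mul hpg.1, hzd, hπm.natDegree_pow]
      have := Nat.mul_pos he hπ.natDegree_pos
      omega
    · rw [listDet_cons, pieceDet_mul hzg.1 hpg.1, hzdet, mul_assoc, ← listDet_cons,
        ← listDet_perm (List.perm_cons_erase hp), hd]
  push Not at hco
  have hfine : ∀ p ∈ r, Fine p := by
    intro p hp
    by_contra hpf
    obtain ⟨hpf', hpirr, hpd, -⟩ := (primePiece_three h3 (hl p (hrl p hp))).resolve_left hpf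
    obtain ⟨q, hq, hqf⟩ := hco p hp (by
      simpa using coprime_prime_powers hzirr hzg.1 hpirr (hl p (hrl p hp)).1.1 (hr p hp).symm 1 1)
    obtain ⟨hqf', -, -, -⟩ := (primePiece_three h3 (hl q (hrl q (List.mem_of_mem_erase hq)))).resolve_left hqf
    have hqz := hr q (List.mem_of_mem_erase hq)
    have hpz := hr p hp
    have hqp : q ≠ p := fun e => hnd p (hrl p hp) hpf (by
      subst e
      exact ((List.erase_sublist (a := z) (l := l)).erase q).subset hq)
    rcases hzf' with h | h <;> rcases hpf' with h' | h' <;> rcases hqf' with h'' | h'' <;>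
      first | exact hpz (h'.trans h.symm) | exact hqz (h''.trans h.symm) | exact hqp (h''.trans h'.symm)
  have hpow : ∀ p ∈ r, ∃ e, 2 ≤ e ∧ p = z ^ e := by
    intro p hp
    obtain ⟨π, e, hπ, hπm, he, rfl⟩ := (hl p (hrl p hp)).2
    by_cases hπz : π = z
    · subst hπz
      refine ⟨e, ?_, rfl⟩
      by_contra h
      obtain rfl : e = 1 := by omega
      exact hr _ hp (pow_one π)
    · obtain ⟨q, hq, hqf⟩ := hco _ hp (by simpa using coprime_prime_powers hzirr hzg.1 hπ hπm (Ne.symm hπz) 1 e)
      exact absurd (hfine q (List.mem_of_mem_erase hq)) hqf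
  obtain ⟨p, hp, hpd⟩ : ∃ p ∈ r, pieceDet p ≠ 1 := by
    by_contra hall
    push Not at hall
    rw [listDet, List.prod_eq_one (by simpa using hall), mul_one] at hd
    exact two_ne_zero_three h3 (by linear_combination -hd)
  obtain ⟨e, he2, rfl⟩ := hpow p hp
  have he : Odd e := by
    rcases Nat.even_or_odd e with he | he
    · exact absurd (by rw [pieceDet_pow hzg.1, hzdet, he.neg_one_pow]) hpd
    · exact he
  refine CommList.perm ((commList_bad_special h3 hzf' hzg.1 hzd hzdet he (by rcases he with ⟨k, rfl⟩; omega)).append ?_)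
    ((List.perm_cons_erase hp).symm.cons z)
  have hdr : listDet (r.erase (z ^ e)) = 1 := by
    rw [listDet_perm (List.perm_cons_erase hp), listDet_cons, pieceDet_pow hzg.1, hzdet, he.neg_one_pow, ← mul_assoc,
      neg_one_mul, neg_neg, one_mul] at hd
    exact hd
  rcases hrr : r.erase (z ^ e) with _ | ⟨g, t⟩
  · exact commList_nil
  have hgr : ∀ q ∈ g :: t, q ∈ r := fun q hq => List.mem_of_mem_erase (hrr ▸ hq)
  obtain ⟨e', he', rfl⟩ := hpow g (hgr g (by simp))
  refine commList_big h3 (hfine _ (hgr _ (by simp))).1 ?_ (fun q hq => hfine q (hgr q (by simp [hq]))) (hrr ▸ hdr)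
  rw [hzg.1.natDegree_pow, hzd]
  omega

theorem small_form (h3 : Fintype.card F = 3) {p : F[X]} (hf : Fine p) (hd : p.natDegree ≤ 2) :
    p = X ^ 2 + 1 ∨ ∃ c : F, (c = 1 ∨ c = -1) ∧ (p = (X - C c) ^ 2 ∨ p = X - C c) := by
  obtain ⟨⟨hm, h0⟩, h | h | ⟨h, hc⟩⟩ := hf
  · refine Or.inr ⟨-p.coeff 0, ?_, Or.inr ?_⟩
    · exact eq_or_of_ne_zero h3 (neg_ne_zero.2 h0)
    · conv_lhs => rw [hm.eq_X_add_C h]
      simp
  · omega
  · rcases (quad_forms h3 hm h).1 hc with h' | h' | h'
    · exact Or.inl h'
    · exact Or.inr ⟨1, Or.inl rfl, Or.inl h'⟩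
    · exact Or.inr ⟨-1, Or.inr rfl, Or.inl h'⟩

theorem exists_comm_list_three (h3 : Fintype.card F = 3) :
    ∀ (n : ℕ) (l : List F[X]), l.length = n → (∀ p ∈ l, PrimePiece p) → listDet l = 1 → CommList l ∨ Exceptional l := by
  intro n
  induction n using Nat.strong_induction_on with
  | _ n ih =>
    intro l hln hl hd
    classical
    -- remove two equal bad pieces
    by_cases hdup : ∃ z ∈ l, ¬ Fine z ∧ z ∈ l.erase z
    · left
      obtain ⟨z, hz, hzf, hz2⟩ := hdup
      obtain ⟨hzf', -, -, hzdet⟩ := (primePiece_three h3 (hl z hz)).resolve_left hzf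
      have hperm : l.Perm (z :: z :: (l.erase z).erase z) :=
        (List.perm_cons_erase hz).trans ((List.perm_cons_erase hz2).cons z)
      refine CommList.perm ?_ hperm.symm
      rw [listDet_perm hperm, listDet_cons, listDet_cons, hzdet, ← mul_assoc, neg_one_mul, neg_neg, one_mul] at hd
      have hpair : CommList [z, z] := by
        rcases hzf' with rfl | rfl
        · exact commList_pair (three_Zp h3).comm
        · exact commList_pair (three_Zm h3).comm
      rcases ih _ (by rw [← hln, List.length_erase_of_mem hz2, List.length_erase_of_mem hz]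
                      have := List.length_pos_of_mem hz; omega) ((l.erase z).erase z) rfl
          (fun p hp => hl p (List.mem_of_mem_erase (List.mem_of_mem_erase hp))) hd with h | h
      · exact hpair.append h
      · rcases h with h | h <;> rw [h] <;> rcases hzf' with rfl | rfl
        · exact commList_triple (three_Zp_Jp h3)
        · exact commList_triple (three_Zm_Jp h3)
        · exact commList_triple (three_Zp_Jm h3)
        · exact commList_triple (three_Zm_Jm h3)
    push Not at hdup
    by_cases hbad : ∃ z ∈ l, ¬ Fine z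
    · obtain ⟨z, hz, hzf⟩ := hbad
      exact Or.inl (commList_bad h3 hl hd hz hzf hdup)
    push Not at hbad
    by_cases hbig : ∃ g ∈ l, 3 ≤ g.natDegree
    · obtain ⟨g, hg, hgd⟩ := hbig
      refine Or.inl (CommList.perm ?_ (List.perm_cons_erase hg).symm)
      exact commList_big h3 (hl g hg).1 hgd (fun p hp => hbad p (List.mem_of_mem_erase hp))
        (by rwa [← listDet_perm (List.perm_cons_erase hg)])
    push Not at hbig
    have hform : ∀ p ∈ l, p = X ^ 2 + 1 ∨ ∃ c : F, (c = 1 ∨ c = -1) ∧ (p = (X - C c) ^ 2 ∨ p = X - C c) :=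
      fun p hp => small_form h3 (hbad p hp) (by have := hbig p hp; omega)
    by_cases hmix : ∃ q ∈ l, ∃ p ∈ l.erase q, q.natDegree = 2 ∧ IsCoprime q p
    · left
      obtain ⟨q, hq, p, hp, hqd, hqp⟩ := hmix
      have hperm : l.Perm (q :: p :: (l.erase q).erase p) :=
        (List.perm_cons_erase hq).trans ((List.perm_cons_erase hp).cons q)
      refine CommList.perm (CommList.merge hqp ?_) hperm.symm
      have hpl := List.mem_of_mem_erase hp
      refine commList_big h3 ((hl q hq).1.mul (hl p hpl).1) ?_
        (fun x hx => hbad x (List.mem_of_mem_erase (List.mem_of_mem_erase hx))) ?_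
      · rw [(hl q hq).1.1.natDegree_mul (hl p hpl).1.1, hqd]
        obtain ⟨π, e, hπ, hπm, he, rfl⟩ := (hl p hpl).2
        have := Nat.mul_pos he hπ.natDegree_pos
        rw [hπm.natDegree_pow]
        omega
      · rw [listDet_perm hperm, listDet_cons, listDet_cons] at hd
        rw [listDet_cons, pieceDet_mul (hl q hq).1.1 (hl p hpl).1.1, mul_assoc, hd]
    push Not at hmix
    have hIirr : Irreducible (X ^ 2 + 1 : F[X]) := by
      have hdeg : (X ^ 2 + 1 : F[X]).natDegree = 2 := by compute_degree!
      refine (Polynomial.irreducible_iff_roots_eq_zero_of_degree_le_three (by omega) (by omega)).2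
        (Multiset.eq_zero_of_forall_notMem fun x hx => ?_)
      have h := Polynomial.isRoot_of_mem_roots hx
      simp [IsRoot] at h
      rcases eq_or_ne x 0 with rfl | hx0
      · simp at h
      · rcases eq_or_of_ne_zero h3 hx0 with rfl | rfl <;> exact two_ne_zero_three h3 (by linear_combination h)
    by_cases hI : (X ^ 2 + 1 : F[X]) ∈ l
    · left
      refine commList_replicate (three_I h3) l fun p hp => ?_
      by_contra hne
      have hp' : p ∈ l.erase (X ^ 2 + 1) := (List.mem_erase_of_ne hne).2 hp
      refine hmix _ hI p hp' (by compute_degree!) ?_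
      rcases hform p hp with h | ⟨c, -, h⟩
      · exact absurd h hne
      · have hne' : (X ^ 2 + 1 : F[X]) ≠ X - C c := fun h' => by
          have := congrArg natDegree h'
          rw [natDegree_X_sub_C, show (X ^ 2 + 1 : F[X]).natDegree = 2 by compute_degree!] at this
          omega
        rcases h with rfl | rfl
        · simpa using coprime_prime_powers hIirr (by monicity!) (irreducible_X_sub_C c) (monic_X_sub_C c) hne' 1 2
        · simpa using coprime_prime_powers hIirr (by monicity!) (irreducible_X_sub_C c) (monic_X_sub_C c) hne' 1 1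
    by_cases hJ : ∃ c : F, (X - C c) ^ 2 ∈ l
    · obtain ⟨c, hc⟩ := hJ
      have hJd : ((X - C c) ^ 2).natDegree = 2 := by rw [(monic_X_sub_C c).natDegree_pow, natDegree_X_sub_C]
      have hall : ∀ p ∈ l, p = (X - C c) ^ 2 ∨ p = X - C c := by
        intro p hp
        by_contra hne
        rcases hform p hp with rfl | ⟨d, -, h⟩
        · exact hI hp
        · by_cases hdc : d = c
          · exact hne (hdc ▸ h)
          have hcop := coprime_prime_powers (irreducible_X_sub_C c) (monic_X_sub_C c) (irreducible_X_sub_C d) (monic_X_sub_C d)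
            (fun h' => hdc (by simpa using h'.symm)) 2
          rcases h with rfl | rfl
          · exact hmix _ hc _ ((List.mem_erase_of_ne (fun h' => hne (Or.inl h'))).2 hp) hJd (hcop 2)
          · exact hmix _ hc _ ((List.mem_erase_of_ne (fun h' => hne (Or.inl h'))).2 hp) hJd (by simpa using hcop 1)
      have hc1 : c = 1 ∨ c = -1 := by
        refine eq_or_of_ne_zero h3 fun h0 => (hl _ hc).1.2 ?_
        rw [coeff_zero_eq_eval_zero]; simp [h0]
      have hJdet : pieceDet ((X - C c) ^ 2) = 1 := by
        rw [pieceDet_pow (monic_X_sub_C c), pieceDet, natDegree_X_sub_C]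
        rcases hc1 with rfl | rfl <;> simp
      have hperm := List.perm_cons_erase hc
      rw [listDet_perm hperm, listDet_cons, hJdet, one_mul] at hd
      by_cases hc2 : (X - C c) ^ 2 ∈ l.erase ((X - C c) ^ 2)
      · left
        have hperm2 : l.Perm ((X - C c) ^ 2 :: (X - C c) ^ 2 :: (l.erase ((X - C c) ^ 2)).erase ((X - C c) ^ 2)) :=
          hperm.trans ((List.perm_cons_erase hc2).cons _)
        refine CommList.perm ?_ hperm2.symm
        rw [listDet_perm (List.perm_cons_erase hc2), listDet_cons, hJdet, one_mul] at hd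
        rcases ih _ (by rw [← hln, List.length_erase_of_mem hc2, List.length_erase_of_mem hc]
                        have := List.length_pos_of_mem hc; omega) ((l.erase ((X - C c) ^ 2)).erase ((X - C c) ^ 2)) rfl
            (fun p hp => hl p (List.mem_of_mem_erase (List.mem_of_mem_erase hp))) hd with h | h
        · refine CommList.append (l := [_, _]) ?_ h
          rcases hc1 with rfl | rfl
          · exact commList_pair (three_Jp h3)
          · exact commList_pair (three_Jm h3)
        · obtain ⟨d, hd', hmem⟩ : ∃ d : F, (d = 1 ∨ d = -1) ∧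
              (l.erase ((X - C c) ^ 2)).erase ((X - C c) ^ 2) = [(X - C d) ^ 2] := by
            rcases h with h | h
            · exact ⟨1, Or.inl rfl, h⟩
            · exact ⟨-1, Or.inr rfl, h⟩
          have hdl : (X - C d) ^ 2 ∈ l := List.mem_of_mem_erase (List.mem_of_mem_erase (hmem ▸ List.mem_singleton_self _))
          rw [hmem]
          have hdc : d = c := by
            rcases hall _ hdl with h | h
            · have := congrArg (Polynomial.eval c) h
              simp [sub_eq_zero] at this
              exact this.symm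
            · have := congrArg natDegree h
              rw [(monic_X_sub_C d).natDegree_pow, natDegree_X_sub_C, natDegree_X_sub_C] at this
              omega
          subst hdc
          rcases hc1 with rfl | rfl
          · exact commList_triple (three_Jp_three h3)
          · exact commList_triple (three_Jm_three h3)
      have hrest : ∀ p ∈ l.erase ((X - C c) ^ 2), p = X - C c := fun p hp =>
        (hall p (List.mem_of_mem_erase hp)).resolve_left fun h => hc2 (h ▸ hp)
      rcases hrr : l.erase ((X - C c) ^ 2) with _ | ⟨p, t⟩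
      · right
        have := hperm
        rw [hrr] at this
        rw [List.perm_singleton.1 this]
        rcases hc1 with rfl | rfl
        · exact Or.inl rfl
        · exact Or.inr rfl
      left
      rw [hrr] at hperm hrest hd
      obtain rfl := hrest p (by simp)
      refine CommList.perm ?_ hperm.symm
      rcases hc1 with rfl | rfl
      · refine CommList.append (l := [_, _]) (commList_pair (three_Jp_one h3))
          (commList_scalar (fun q hq => hrest q (by simp [hq])) ?_)
        rw [listDet_cons, pieceDet, natDegree_X_sub_C] at hd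
        simpa using hd
      · rcases t with _ | ⟨p', t⟩
        · rw [listDet_cons, pieceDet, natDegree_X_sub_C] at hd
          simp [listDet] at hd
          exact absurd (by linear_combination -hd) (two_ne_zero_three h3)
        · obtain rfl := hrest p' (by simp)
          refine CommList.append (l := [_, _, _]) (commList_triple (three_Jm_tail h3))
            (commList_scalar (fun q hq => hrest q (by simp [hq])) ?_)
          rw [listDet_cons, listDet_cons, pieceDet, natDegree_X_sub_C] at hd
          simpa using hd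
    push Not at hJ
    left
    have hlin : ∀ p ∈ l, p = X - C 1 ∨ p = X - C (-1) := by
      intro p hp
      rcases hform p hp with rfl | ⟨c, hc, rfl | rfl⟩
      · exact absurd hp hI
      · exact absurd hp (hJ c)
      · rcases hc with rfl | rfl
        · exact Or.inl rfl
        · exact Or.inr rfl
    have hne : (X - C 1 : F[X]) ≠ X - C (-1) := fun h => two_ne_zero_three h3 (by
      have := congrArg (Polynomial.eval 1) h
      simp at this
      linear_combination -this)
    set l₁ := l.filter fun p => decide (p = X - C 1) with hl₁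
    set l₂ := l.filter fun p => !decide (p = X - C 1) with hl₂
    have hperm : (l₁ ++ l₂).Perm l := List.filter_append_perm _ l
    have hd1 : listDet l₁ = 1 := List.prod_eq_one (by
      intro x hx
      obtain ⟨p, hp, rfl⟩ := List.mem_map.1 hx
      simp only [hl₁, List.mem_filter, decide_eq_true_eq] at hp
      rw [hp.2, pieceDet, natDegree_X_sub_C]
      simp)
    refine CommList.perm (CommList.append (commList_scalar (c := 1) ?_ hd1) (commList_scalar (c := -1) ?_ ?_)) hperm
    · intro p hp
      simp only [hl₁, List.mem_filter, decide_eq_true_eq] at hp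
      exact hp.2
    · intro p hp
      simp only [hl₂, List.mem_filter, Bool.not_eq_true', decide_eq_false_iff_not] at hp
      exact (hlin p hp.1).resolve_left hp.2
    · rw [← listDet_perm hperm, listDet_append, hd1, one_mul] at hd
      exact hd

/-- Over the field with three elements. -/
theorem comm_card_three (h3 : Fintype.card F = 3) {V : Type u} [AddCommGroup V] [Module F V] [Module.Finite F V]
    (hn : 3 ≤ finrank F V) {A : End F V} (hA : LinearMap.det A = 1) : Comm A := by
  obtain ⟨l, hl, hlp⟩ := exists_pieces A (by rw [hA]; exact one_ne_zero)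
  rcases exists_comm_list_three h3 l.length l rfl (fun p hp => ⟨hl.good p hp, hlp p hp⟩) (hl.det_eq.symm.trans hA) with h | h
  · exact h A hl
  · exfalso
    have := hl.finrank_eq
    rcases h with h | h <;> rw [h] at this <;>
      simp only [List.map_cons, List.map_nil, List.sum_cons, List.sum_nil, (monic_X_sub_C (_:F)).natDegree_pow,
        natDegree_X_sub_C] at this <;> omega

end Cfsg.Agent.Lib.SLCommutator
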