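import Cfsg.Agent.Lib.SLCommutator.ListComm

/-!
The field with two elements.
-/

set_option autoImplicit false
set_option linter.unusedSectionVars false

namespace Cfsg.Agent.Lib.SLCommutator

open Polynomial Module

universe u

variable {F : Type u} [Field F] [Fintype F]

theorem eq_one_of_ne_zero (h2 : Fintype.card F = 2) {x : F} (hx : x ≠ 0) : x = 1 := by
  simpa [h2] using FiniteField.pow_card_sub_one_eq_one x hx

theorem two_eq_zero (h2 : Fintype.card F = 2) : (2 : F) = 0 := by
  have := FiniteField.cast_card_eq_zero F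
  rwa [h2, Nat.cast_ofNat] at this

theorem neg_one_eq_one' (h2 : Fintype.card F = 2) : (-1 : F) = 1 := by linear_combination -(two_eq_zero h2)

theorem linear_two (h2 : Fintype.card F = 2) {p : F[X]} (hp : p.Monic) (hd : p.natDegree = 1) (h0 : p.coeff 0 ≠ 0) :
    p = X - C 1 := by
  have h := hp.eq_X_add_C hd
  rw [eq_one_of_ne_zero h2 h0] at h
  rw [h, map_one, sub_eq_add_neg, ← C_1, ← C_neg, neg_one_eq_one' h2]

theorem irreducible_quad_two (h2 : Fintype.card F = 2) {p : F[X]} (hp : p.Monic) (hd : p.natDegree = 2) (hirr : Irreducible p) :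
    p = X ^ 2 + X + 1 := by
  have hroot : ∀ x : F, p.eval x ≠ 0 := fun x h => by
    have := Polynomial.degree_eq_one_of_irreducible_of_root hirr h
    rw [degree_eq_natDegree hp.ne_zero, hd] at this
    exact absurd this (by norm_num)
  have hp2 : p = C (p.coeff 0) + C (p.coeff 1) * X + X ^ 2 := by
    conv_lhs => rw [hp.as_sum, hd, Finset.sum_range_succ, Finset.sum_range_one]
    simp
    ring
  have e0 : p.coeff 0 = 1 := eq_one_of_ne_zero h2 (by have := hroot 0; rwa [← coeff_zero_eq_eval_zero] at this)
  have e1 : p.coeff 1 = 1 := eq_one_of_ne_zero h2 fun h => hroot 1 (by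
    rw [hp2, e0, h]; simp
    linear_combination (two_eq_zero h2))
  rw [hp2, e0, e1]; simp; ring

theorem pieceDet_two (h2 : Fintype.card F = 2) {p : F[X]} (h : Good p) : pieceDet p = 1 :=
  eq_one_of_ne_zero h2 (mul_ne_zero (pow_ne_zero _ (neg_ne_zero.2 one_ne_zero)) h.2)

/-- The possible pieces. -/
def PrimePiece (p : F[X]) : Prop := Good p ∧ ∃ (π : F[X]) (e : ℕ), Irreducible π ∧ π.Monic ∧ 1 ≤ e ∧ p = π ^ e

theorem piece_two_cases (h2 : Fintype.card F = 2) {p : F[X]} (hp : PrimePiece p) :
    3 ≤ p.natDegree ∨ p = X - C 1 ∨ p = X ^ 2 + X + 1 ∨ p = (X - C 1) ^ 2 := by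
  obtain ⟨hg, π, e, hπ, hπm, he, rfl⟩ := hp
  by_cases h3 : 3 ≤ (π ^ e).natDegree
  · exact Or.inl h3
  right
  rw [hπm.natDegree_pow] at h3
  have hπd : 1 ≤ π.natDegree := hπ.natDegree_pos
  have he2 : e ≤ 2 := by nlinarith
  have hπ0 : π.coeff 0 ≠ 0 := fun h => hg.2 (by rw [coeff_zero_eq_eval_zero] at h ⊢; rw [eval_pow, h, zero_pow (by omega)])
  rcases (show e = 1 ∨ e = 2 by omega) with rfl | rfl
  · rw [pow_one]
    rcases (show π.natDegree = 1 ∨ π.natDegree = 2 by omega) with h | h
    · exact Or.inl (linear_two h2 hπm h hπ0)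
    · exact Or.inr (Or.inl (irreducible_quad_two h2 hπm h hπ))
  · exact Or.inr (Or.inr (by rw [linear_two h2 hπm (by omega) hπ0]))

theorem coprime_quartic {W : F[X]} (h2 : Fintype.card F = 2) (hW : Irreducible W) (hd : W.natDegree = 2) :
    IsCoprime (X ^ 4 + X + 1 : F[X]) W := by
  have hWm : W.Monic := by
    have := eq_one_of_ne_zero h2 (leadingCoeff_ne_zero.2 hW.ne_zero)
    exact this
  rw [irreducible_quad_two h2 hWm hd hW]
  have h20 : (2 : F[X]) = 0 := by rw [← map_ofNat Polynomial.C, two_eq_zero h2, map_zero]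
  exact ⟨1, -(X ^ 2 + X), by linear_combination (-X ^ 3 - X ^ 2) * h20⟩

theorem exists_comm_list_two (h2 : Fintype.card F = 2) :
    ∀ (n : ℕ) (l : List F[X]), l.length = n → (∀ p ∈ l, PrimePiece p) → CommList l ∨ l = [(X - C 1) ^ 2] := by
  intro n
  induction n using Nat.strong_induction_on with
  | _ n ih =>
    intro l hln hl
    classical
    by_cases hex : ∃ o ∈ l, o ≠ (X - C 1) ^ 2
    · left
      obtain ⟨o, ho, hoJ⟩ := hex
      have hperm := List.perm_cons_erase ho
      refine CommList.perm ?_ hperm.symm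
      have hog := hl o ho
      have hgood := pieceDet_two h2 hog.1
      have hsingle : CommList [o] := commList_single (by
        rcases piece_two_cases h2 hog with h | h | h | h
        · exact comm_big hog.1.1 h hgood
        · subst h
          have := finite_adjoinRoot (monic_X_sub_C (1 : F))
          have h1 := comm_one (F := F) (V := AdjoinRoot (X - C (1 : F)))
          refine Iso.comm ⟨LinearEquiv.refl F _, fun v => ?_⟩ h1
          show v = AdjoinRoot.root (X - C (1 : F)) * v
          have h : AdjoinRoot.mk (X - C (1 : F)) (X - C 1) = 0 := AdjoinRoot.mk_self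
          rw [map_sub, AdjoinRoot.mk_X, AdjoinRoot.mk_C, sub_eq_zero] at h
          rw [h, map_one (AdjoinRoot.of _), one_mul]
        · subst h; exact two_Q h2
        · exact absurd h hoJ)
      rcases ih _ (by rw [← hln, List.length_erase_of_mem ho]; have := List.length_pos_of_mem ho; omega) (l.erase o) rfl
          (fun p hp => hl p (List.mem_of_mem_erase hp)) with h | h
      · exact hsingle.append h
      rw [h]
      refine CommList.perm ?_ (List.Perm.swap o ((X - C 1) ^ 2) [])
      obtain ⟨π, e, hπ, hπm, he, rfl⟩ := hog.2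
      by_cases hπ1 : π = X - C 1
      · subst hπ1
        rcases (show e = 1 ∨ e = 2 ∨ e = 3 ∨ e = 4 ∨ 5 ≤ e by omega) with rfl | rfl | rfl | rfl | h5
        · rw [pow_one]; exact commList_pair (two_J2_one h2)
        · exact absurd rfl hoJ
        · exact commList_pair (two_J2_J3 h2)
        · exact commList_pair (two_J2_J4 h2)
        obtain ⟨j, rfl⟩ : ∃ j, e = 2 + j := ⟨e - 2, by omega⟩
        have hgm : ((X - C (1 : F)) ^ j).Monic := (monic_X_sub_C 1).pow j
        have hgd : ((X - C (1 : F)) ^ j).natDegree = j := by rw [(monic_X_sub_C (1:F)).natDegree_pow, natDegree_X_sub_C, mul_one]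
        have hgg : Good ((X - C (1 : F)) ^ j) := ⟨hgm, by rw [coeff_zero_eq_eval_zero]; simp⟩
        obtain ⟨W, hW, hWd, hcW⟩ := commW_piece hgm (by omega) (by rw [det_mroot hgm]; exact pieceDet_two h2 hgg)
        rw [hgd] at hWd
        have h20 := two_eq_zero h2
        have hdJ : pieceDet ((X - C (1 : F)) ^ 2) ≠ 0 := by
          rw [pieceDet_two h2 ⟨(monic_X_sub_C 1).pow 2, by rw [coeff_zero_eq_eval_zero]; simp⟩]; exact one_ne_zero
        have hX1 : ∀ P : F[X], P.eval 1 = 1 → IsCoprime P (X - C 1) := fun P hP =>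
          ((irreducible_X_sub_C (1 : F)).coprime_iff_not_dvd.2 fun hd => one_ne_zero (hP.symm.trans (dvd_iff_isRoot.1 hd))).symm
        rw [pow_add]
        by_cases hj3 : j - 1 = 2
        · refine commList_pair (comm_line_triang ((monic_X_sub_C 1).pow 2) hgm (two_J2_quartic h2) hcW hdJ ?_)
          exact (coprime_quartic h2 hW (hWd.trans hj3)).mul_right (hX1 _ (by simp; linear_combination h20))
        · refine commList_pair (comm_line_triang ((monic_X_sub_C 1).pow 2) hgm (two_J2_square h2) hcW hdJ ?_)
          refine IsCoprime.mul_right ?_ (hX1 _ (by simp; linear_combination h20))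
          have hQ : (X ^ 4 + X ^ 2 + 1 : F[X]) = (X ^ 2 + X + 1) ^ 2 := by
            have h20' : (2 : F[X]) = 0 := by rw [← map_ofNat Polynomial.C, h20, map_zero]
            linear_combination (-X ^ 3 - X ^ 2 - X) * h20'
          rw [hQ]
          refine (hW.coprime_iff_not_dvd.2 fun hd => ?_).symm
          have hdd := natDegree_le_of_dvd (hW.prime.dvd_of_dvd_pow hd) (Monic.ne_zero (by monicity!))
          have hQd : (X ^ 2 + X + 1 : F[X]).natDegree = 2 := by compute_degree!
          omega
      · have hco : IsCoprime ((X - C (1 : F)) ^ 2) (π ^ e) := by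
          refine ((irreducible_X_sub_C (1 : F)).coprime_iff_not_dvd.2 fun hd => hπ1 ?_).pow
          obtain ⟨a, ha⟩ := hd
          exact (eq_of_monic_of_associated (monic_X_sub_C 1) hπm
            ((irreducible_X_sub_C (1 : F)).associated_of_dvd hπ ⟨a, ha⟩)).symm
        refine CommList.merge hco (commList_single ?_)
        have hg : Good ((X - C (1 : F)) ^ 2 * π ^ e) :=
          Good.mul ⟨(monic_X_sub_C 1).pow 2, by rw [coeff_zero_eq_eval_zero]; simp⟩ hog.1
        refine comm_big hg.1 ?_ (pieceDet_two h2 hg)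
        rw [((monic_X_sub_C (1:F)).pow 2).natDegree_mul (hπm.pow e), (monic_X_sub_C (1:F)).natDegree_pow, natDegree_X_sub_C,
          hπm.natDegree_pow]
        have := hπ.natDegree_pos
        nlinarith
    · push Not at hex
      rcases l with _ | ⟨a, _ | ⟨b, t⟩⟩
      · exact Or.inl commList_nil
      · right
        rw [hex a (by simp)]
      left
      obtain rfl := hex a (by simp)
      obtain rfl := hex b (by simp)
      rcases ih t.length (by simp at hln; omega) t rfl (fun p hp => hl p (by simp [hp])) with h | h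
      · exact (commList_pair (two_J2 h2)).append h
      · rw [h]; exact commList_triple (two_J2_three h2)

/-- Over the field with two elements. -/
theorem comm_card_two (h2 : Fintype.card F = 2) {V : Type u} [AddCommGroup V] [Module F V] [Module.Finite F V]
    (hn : 3 ≤ finrank F V) {A : End F V} (hA : LinearMap.det A = 1) : Comm A := by
  obtain ⟨l, hl, hlp⟩ := exists_pieces A (by rw [hA]; exact one_ne_zero)
  rcases exists_comm_list_two h2 l.length l rfl (fun p hp => ⟨hl.good p hp, hlp p hp⟩) with h | h
  · exact h A hl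
  · exfalso
    have := hl.finrank_eq
    rw [h] at this
    simp only [List.map_cons, List.map_nil, List.sum_cons, List.sum_nil, (monic_X_sub_C (1:F)).natDegree_pow,
      natDegree_X_sub_C] at this
    omega

end Cfsg.Agent.Lib.SLCommutator
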