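import Cfsg.Agent.Lib.SLCommutator.Decomp

/-!
Transvections and scalars as commutators.
-/

set_option autoImplicit false
set_option linter.unusedSectionVars false

namespace Cfsg.Agent.Lib.SLCommutator

open Polynomial Module

universe u

variable {F : Type u} [Field F] {V : Type u} [AddCommGroup V] [Module F V] [Module.Finite F V]

/-- A transvection in dimension at least three is a commutator. -/
theorem comm_of_rank_le_one {A : End F V} (hn : 3 ≤ finrank F V) (hA : LinearMap.det A = 1)
    (hr : finrank F (LinearMap.range (A - 1)) ≤ 1) : Comm A := by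
  classical
  rcases Nat.eq_zero_or_pos (finrank F (LinearMap.range (A - 1))) with h0 | h1
  · rw [Submodule.finrank_eq_zero, LinearMap.range_eq_bot, sub_eq_zero] at h0
    exact h0 ▸ comm_one
  have h1' : finrank F (LinearMap.range (A - 1)) = 1 := by omega
  obtain ⟨⟨w, hw⟩, hw0, hspan⟩ := finrank_eq_one_iff'.1 h1'
  have hw0' : w ≠ 0 := fun h => hw0 (Subtype.ext h)
  obtain ⟨f, hf, -⟩ := Submodule.exists_le_ker_of_notMem (p := (⊥ : Submodule F V)) (v := w) (by simpa using hw0')
  set φ : V →ₗ[F] F := (f w)⁻¹ • (f ∘ₗ (A - 1)) with hφ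
  have hAφ : ∀ z, A z = z + φ z • w := by
    intro z
    obtain ⟨c, hc⟩ := hspan ⟨(A - 1) z, ⟨z, rfl⟩⟩
    have hc' : c • w = A z - z := congrArg Subtype.val hc
    have hφz : φ z = c := by
      simp only [hφ, LinearMap.smul_apply, LinearMap.comp_apply, LinearMap.sub_apply, Module.End.one_apply, ← hc', map_smul,
        smul_eq_mul]
      field_simp
    rw [hφz, hc']; abel
  have hAt : A = LinearMap.transvection φ w := LinearMap.ext fun z => hAφ z
  have hφw : φ w = 0 := by
    have h := hA
    rw [hAt, LinearMap.transvection.det] at h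
    linear_combination h
  obtain ⟨u, hu⟩ : ∃ u, φ u ≠ 0 := by
    by_contra hall
    push Not at hall
    have hA1 : A - 1 = 0 := LinearMap.ext fun z => by simp [hAφ, hall]
    rw [hA1, LinearMap.range_zero, finrank_bot] at h1'
    omega
  obtain ⟨z, hz, hzu⟩ : ∃ z, φ z = 0 ∧ z ∉ Submodule.span F {w, u} := by
    by_contra hall
    push Not at hall
    have htop : (⊤ : Submodule F V) ≤ Submodule.span F {w, u} := fun x _ => by
      have h := add_mem (hall (x - (φ x / φ u) • u) (by simp [hu])) (Submodule.smul_mem _ (φ x / φ u) (Submodule.subset_span (show u ∈ ({w, u} : Set V) by simp)))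
      simpa using h
    have h2 := finrank_span_le_card (R := F) ({w, u} : Set V)
    have h3 := Submodule.finrank_mono htop
    rw [finrank_top] at h3
    simp only [Set.toFinset_insert, Set.toFinset_singleton] at h2
    have := h2.trans Finset.card_le_two
    omega
  obtain ⟨g, hg, hgp⟩ := Submodule.exists_le_ker_of_notMem hzu
  set η : V →ₗ[F] F := (g z)⁻¹ • g
  have hηz : η z = 1 := by simp [η, hg]
  have hηw : η w = 0 := by
    simp [η, LinearMap.mem_ker.1 (hgp (Submodule.subset_span (show w ∈ ({w, u} : Set V) by simp)))]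
  refine ⟨LinearMap.transvection η w, LinearMap.transvection φ z,
    by rw [LinearMap.transvection.det, hηw, add_zero], by rw [LinearMap.transvection.det, hz, add_zero], ?_⟩
  refine LinearMap.ext fun x => ?_
  simp only [Module.End.mul_apply, LinearMap.transvection.apply, map_add, map_smul, hAφ, hz, hφw, hηz, smul_eq_mul]
  module

variable [Fintype F]

theorem exists_sq_add_sq (h2 : ringChar F ≠ 2) {c : F} (hc : c ≠ 0) : ∃ a b : F, a ≠ 0 ∧ a ^ 2 + b ^ 2 = c := by
  obtain ⟨a, b, hab⟩ := FiniteField.exists_root_sum_quadratic (f := (X ^ 2 : F[X])) (g := X ^ 2 - C c)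
    (by simp) (degree_X_pow_sub_C (by norm_num) c) (FiniteField.odd_card_of_char_ne_two h2)
  simp only [eval_pow, eval_X, eval_sub, eval_C] at hab
  rcases eq_or_ne a 0 with rfl | ha
  · refine ⟨b, 0, ?_, by linear_combination hab⟩
    rintro rfl
    exact hc (by linear_combination -hab)
  · exact ⟨a, b, ha, by linear_combination hab⟩

/-- Scalars of determinant one are commutators. -/
theorem comm_scalar {l : F} (hn : 1 ≤ finrank F V) (hl : l ^ finrank F V = 1) : Comm (l • (1 : End F V)) := by
  classical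
  set n := finrank F V with hndef
  have hl0 : l ≠ 0 := fun h => by rw [h, zero_pow (by omega)] at hl; exact zero_ne_one hl
  set μ := l⁻¹ with hμ
  have hμn : μ ^ n = 1 := by rw [hμ, inv_pow, hl, inv_one]
  set α : F := (-1) ^ (n + 1) with hα
  set P : F[X] := X ^ n - C α with hP
  have hPm : P.Monic := monic_X_pow_sub_C α (by omega)
  have hPd : P.natDegree = n := natDegree_X_pow_sub_C
  have := finite_adjoinRoot hPm
  set R := AdjoinRoot P
  set pb := AdjoinRoot.powerBasis' hPm with hpb
  have hfin : finrank F R = n := by rw [pb.finrank]; exact hPd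
  suffices Comm (l • (1 : End F R)) by
    obtain ⟨e⟩ : Nonempty (R ≃ₗ[F] V) := FiniteDimensional.nonempty_linearEquiv_of_finrank_eq hfin
    exact Iso.comm ⟨e, fun x => by simp⟩ this
  have hr : AdjoinRoot.root P ^ n = algebraMap F R α := by
    have h : AdjoinRoot.mk P P = 0 := AdjoinRoot.mk_self
    rw [show AdjoinRoot.mk P P = AdjoinRoot.mk P (X ^ n - C α) from rfl, map_sub, map_pow, AdjoinRoot.mk_X,
      AdjoinRoot.mk_C, sub_eq_zero] at h
    exact h
  let σ : R →ₐ[F] R := AdjoinRoot.liftAlgHom P (Algebra.ofId F R) (μ • AdjoinRoot.root P) (by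
    have e := eval₂_sub (p := (X ^ n : F[X])) (q := C α) ((Algebra.ofId F R : F →ₐ[F] R) : F →+* R) (x := μ • AdjoinRoot.root P)
    refine e.trans ?_
    simp [_root_.smul_pow, hμn, hr, Algebra.ofId_apply])
  have hσr : σ (AdjoinRoot.root P) = μ • AdjoinRoot.root P := AdjoinRoot.liftAlgHom_root _ _ _ _
  have hdim : pb.dim = n := hPd
  have hσb : ∀ i, σ.toLinearMap (pb.basis i) = μ ^ (i : ℕ) • pb.basis i := fun i => by
    rw [pb.coe_basis]
    show σ (AdjoinRoot.root P ^ (i : ℕ)) = μ ^ (i : ℕ) • AdjoinRoot.root P ^ (i : ℕ)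
    rw [map_pow, hσr, _root_.smul_pow]
  have hdσ : LinearMap.det σ.toLinearMap = μ ^ ∑ i ∈ Finset.range n, i := by
    rw [← LinearMap.det_toMatrix pb.basis, show LinearMap.toMatrix pb.basis pb.basis σ.toLinearMap =
      Matrix.diagonal (fun i : Fin pb.dim => μ ^ (i : ℕ)) from ?_, Matrix.det_diagonal, Finset.prod_pow_eq_pow_sum,
      Fin.sum_univ_eq_sum_range (fun i => i), hdim]
    ext i j
    rw [LinearMap.toMatrix_apply, hσb, map_smul, pb.basis.repr_self]
    rcases eq_or_ne i j with rfl | h <;> simp [*]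
  have hdB : LinearMap.det (mroot P) = 1 := by
    rw [det_mroot hPm, hPd, show P.coeff 0 = -α by simp [P, coeff_X_pow, show (0 : ℕ) ≠ n by omega], hα, pow_succ]
    simp [← mul_pow]
  have key : ∀ z : R, LinearMap.det (σ.toLinearMap ∘ₗ LinearMap.mulLeft F z) = 1 → Comm (l • (1 : End F R)) := by
    intro z hz
    refine ⟨mroot P, σ.toLinearMap ∘ₗ LinearMap.mulLeft F z, hdB, hz, LinearMap.ext fun x => ?_⟩
    simp [mroot, Module.End.mul_apply, hσr, smul_smul, hμ, hl0]
    ring
  by_cases hD : μ ^ (∑ i ∈ Finset.range n, i) = 1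
  · refine key 1 ?_
    rw [show LinearMap.mulLeft F (1 : R) = LinearMap.id from LinearMap.ext fun x => by simp, LinearMap.comp_id, hdσ, hD]
  have hS : (∑ i ∈ Finset.range n, i) * 2 = n * (n - 1) := Finset.sum_range_id_mul_two n
  obtain ⟨k, hk⟩ : Even n := by
    by_contra hodd
    rw [Nat.not_even_iff_odd] at hodd
    obtain ⟨j, hj⟩ := hodd
    apply hD
    rw [show (∑ i ∈ Finset.range n, i) = n * j by
      rw [hj, Nat.add_sub_cancel] at hS
      rw [hj]; linarith, pow_mul, hμn, one_pow]
  have hkS : (∑ i ∈ Finset.range n, i) = k * (n - 1) := by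
    rw [hk] at hS ⊢
    have : (k + k) * (k + k - 1) = k * (k + k - 1) * 2 := by ring
    omega
  have hμk : μ ^ k = -1 := by
    have h : μ ^ k * μ ^ k = 1 := by rw [← pow_add, ← hk, hμn]
    rcases mul_self_eq_one_iff.1 h with h | h
    · exact absurd (by rw [hkS, pow_mul, h, one_pow]) hD
    · exact h
  have hD' : μ ^ (∑ i ∈ Finset.range n, i) = -1 := by
    rw [hkS, pow_mul, hμk, Odd.neg_one_pow ⟨k - 1, by omega⟩]
  have hα' : α = -1 := by rw [hα, Odd.neg_one_pow ⟨k, by omega⟩]
  have h2 : ringChar F ≠ 2 := fun h2 => by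
    apply hD
    rw [hD']
    have h20 : (2 : F) = 0 := by
      have := CharP.cast_eq_zero F (ringChar F)
      rwa [h2, Nat.cast_ofNat] at this
    linear_combination -h20
  obtain ⟨a, b, ha, hab⟩ := exists_sq_add_sq h2 (c := μ) (inv_ne_zero hl0)
  set r := AdjoinRoot.root P with hrdef
  refine key (algebraMap F R a + algebraMap F R b * r ^ k) ?_
  rw [← Module.End.mul_eq_comp, map_mul, hdσ, hD']
  set Z := LinearMap.mulLeft F (algebraMap F R a + algebraMap F R b * r ^ k)
  suffices LinearMap.det Z = μ ^ k by rw [this, hμk]; ring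
  let bas := pb.basis.reindex ((finCongr (hdim.trans hk)).trans finSumFinEquiv.symm)
  have hbas : ∀ i : Fin k ⊕ Fin k, bas i = r ^ (Sum.elim (fun i : Fin k => i.val) (fun i : Fin k => k + i.val) i) := by
    intro i
    rcases i with i | i <;> simp [bas, pb.coe_basis, hpb, hrdef, AdjoinRoot.powerBasis'_gen, add_comm]
  have hcol1 : ∀ j : Fin k, Z (bas (Sum.inl j)) = a • bas (Sum.inl j) + b • bas (Sum.inr j) := by
    intro j
    simp only [Z, LinearMap.mulLeft_apply, hbas, Sum.elim_inl, Sum.elim_inr, Algebra.smul_def, pow_add]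
    ring
  have hcol2 : ∀ j : Fin k, Z (bas (Sum.inr j)) = (-b) • bas (Sum.inl j) + a • bas (Sum.inr j) := by
    intro j
    simp only [Z, LinearMap.mulLeft_apply, hbas, Sum.elim_inl, Sum.elim_inr, Algebra.smul_def, pow_add, map_neg]
    have hkk : r ^ k * r ^ k = -1 := by rw [← pow_add, ← hk, hr, hα', map_neg, map_one]
    linear_combination algebraMap F R b * r ^ (j : ℕ) * hkk
  have hT : LinearMap.toMatrix bas bas Z = Matrix.fromBlocks (a • 1) ((-b) • 1) (b • 1) (a • 1) := by
    ext i j
    rw [LinearMap.toMatrix_apply]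
    rcases j with j | j <;> rcases i with i | i <;>
      simp [hcol1, hcol2, Matrix.one_apply, Finsupp.single_apply, eq_comm]
  have : Invertible (a • (1 : Matrix (Fin k) (Fin k) F)) :=
    ⟨a⁻¹ • 1, by simp [smul_smul, ha], by simp [smul_smul, ha]⟩
  rw [← LinearMap.det_toMatrix bas, hT, Matrix.det_fromBlocks₁₁,
    show ⅟(a • (1 : Matrix (Fin k) (Fin k) F)) = a⁻¹ • 1 from invOf_eq_right_inv (by simp [smul_smul, ha])]
  simp only [smul_mul_assoc, one_mul, mul_smul_comm, mul_one, smul_smul, ← sub_smul, Matrix.det_smul, Matrix.det_one,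
    Fintype.card_fin, ← mul_pow]
  congr 1
  rw [← hab]; field_simp; ring

end Cfsg.Agent.Lib.SLCommutator
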