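import Cfsg.Agent.Lib.SLCommutator.Recursion
import Cfsg.Agent.Lib.SLCommutator.Special

/-!
Fields with at least four elements.
-/

set_option autoImplicit false
set_option linter.unusedSectionVars false

namespace Cfsg.Agent.Lib.SLCommutator

open Polynomial Module

universe u

variable {F : Type u} [Field F] [Fintype F] {V : Type u} [AddCommGroup V] [Module F V] [Module.Finite F V]

theorem sur_linear (β : F) : Sur (X - C β) := sur_irreducible (irreducible_X_sub_C β) (monic_X_sub_C β)

theorem comm_two (hq : 4 ≤ Fintype.card F) (hn : finrank F V = 2) {A : End F V} (hA : LinearMap.det A = 1)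
    (hns : ∀ c : F, A ≠ c • 1) : Comm A := by
  classical
  obtain ⟨v, hv⟩ : ∃ v, ∀ c : F, A v ≠ c • v := by
    by_contra hall
    push Not at hall
    obtain ⟨l, hl⟩ := exists_eq_smul_of_forall hall
    exact hns l (LinearMap.ext hl)
  by_cases ht : LinearMap.trace F V A = 2
  · have hv0 : v ≠ 0 := by rintro rfl; exact hv 0 (by simp)
    have hli : LinearIndependent F ![v, A v] := (LinearIndependent.pair_iff' hv0).2 fun a h => hv a h.symm
    let bas := basisOfLinearIndependentOfCardEqFinrank hli (by rw [hn]; rfl)
    have hb : ⇑bas = ![v, A v] := coe_basisOfLinearIndependentOfCardEqFinrank _ _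
    set T := LinearMap.toMatrix bas bas A with hT
    set P : F[X] := X ^ 2 - C 2 * X + 1 with hP
    have hPm : P.Monic := quad_monic (2 : F)
    have hPd : P.natDegree = 2 := quad_natDegree (2 : F)
    have hdT : T.det = 1 := by rw [hT, LinearMap.det_toMatrix, hA]
    have htT : T.trace = 2 := by rw [hT, ← LinearMap.trace_eq_matrix_trace, ht]
    have := finite_adjoinRoot hPm
    have hAP : aeval A P = 0 := by
      have h : aeval T P = 0 := by
        have h2 := Matrix.aeval_self_charpoly T
        rwa [Matrix.charpoly_fin_two, htT, hdT, map_one, ← hP] at h2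
      rw [show A = Matrix.toLinAlgEquiv bas T from (Matrix.toLin_toMatrix bas bas A).symm, aeval_algHom_apply
        (Matrix.toLinAlgEquiv bas : Matrix (Fin 2) (Fin 2) F ≃ₐ[F] End F V), h, map_zero]
    have hiso : Iso (mroot P) A := by
      refine iso_mroot_of_vector hPm A v (by rw [hAP]; rfl) (by rw [hn, hPd]) fun g hg h0 => ?_
      have hg1 : g.natDegree ≤ 1 := by
        rcases eq_or_ne g 0 with rfl | hg0
        · simp
        rw [degree_eq_natDegree hg0, degree_eq_natDegree hPm.ne_zero, hPd, Nat.cast_lt] at hg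
        omega
      obtain ⟨a, b, rfl⟩ := exists_eq_X_add_C_of_natDegree_le_one hg1
      obtain ⟨h1, h2⟩ := LinearIndependent.pair_iff.1 hli b a (by
        simpa [Module.algebraMap_end_apply, add_comm] using h0)
      simp [h1, h2]
    obtain ⟨c, hc0, hc1⟩ : ∃ c : F, c ≠ 0 ∧ c ^ 2 ≠ 1 := by
      obtain ⟨r, -, hr⟩ := Finset.exists_mem_notMem_of_card_lt_card (s := ({0, 1, -1} : Finset F)) (t := Finset.univ)
        (by rw [Finset.card_univ]; exact Finset.card_le_three.trans_lt (by omega))
      simp only [Finset.mem_insert, Finset.mem_singleton, not_or] at hr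
      exact ⟨r, hr.1, fun h => (sq_eq_one_iff.1 h).elim hr.2.1 hr.2.2⟩
    have hP0 : P.coeff 0 = 1 := by simp [P]
    have h := piece_two hPm hPd (by rw [hP0]; exact one_ne_zero) (β := 1) (ω := c ^ 2) (pow_ne_zero _ hc0) hc1
      (by rw [hP0, div_one]; exact hc1)
    rw [hP0, div_one, mul_one] at h
    exact Rel.comm (monic_X_sub_C _) (sur_linear 1) hc0 (by rw [hn]; exact hiso.rel h)
  · obtain ⟨s, hs, hirr⟩ := exists_quad hq
    have hQm := quad_monic s
    obtain ⟨B, C, hAC, hB, hC⟩ := pair_two hs hirr hn A hA ⟨v, hv⟩ ht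
    have hpad : Iso (mroot (quad s)) ((0 : End F (ULift.{u} (Fin 0 → F))).prodMap (mroot (quad s))) :=
      ⟨LinearEquiv.symm
        { toFun := fun x => x.2
          map_add' := fun _ _ => rfl
          map_smul' := fun _ _ => rfl
          invFun := fun v => (0, v)
          left_inv := fun x => Prod.ext (Subsingleton.elim _ _) rfl
          right_inv := fun _ => rfl }, fun v => Prod.ext (Subsingleton.elim _ _) rfl⟩
    refine Rel.comm hQm (sur_irreducible hirr hQm) (one_ne_zero : (1 : F) ≠ 0) ?_
    rw [one_pow]
    exact ⟨B, C, _, inferInstance, inferInstance, inferInstance, 0, hAC,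
      by rw [hB.det_eq, det_mroot hQm, quad_natDegree]; simp [quad], hB.trans hpad, hC.trans hpad⟩

/-- Over a field with at least four elements every map of determinant one is a commutator. -/
theorem comm_large (hq : 4 ≤ Fintype.card F) (hn : 2 ≤ finrank F V) {A : End F V} (hA : LinearMap.det A = 1) : Comm A := by
  by_cases hs : ∃ c : F, A = c • 1
  · obtain ⟨c, rfl⟩ := hs
    rw [LinearMap.det_smul, map_one, mul_one] at hA
    exact comm_scalar (by omega) hA
  push Not at hs
  rcases Nat.lt_or_ge (finrank F V) 3 with h2 | h3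
  · exact comm_two hq (by omega) hA hs
  rcases Nat.lt_or_ge (finrank F (LinearMap.range (A - 1))) 2 with hr | hr
  · exact comm_of_rank_le_one h3 hA (by omega)
  obtain ⟨m, hm⟩ : ∃ m, finrank F V = m + 3 := ⟨finrank F V - 3, by omega⟩
  exact comm_of_rank hq hm hA hs hr

end Cfsg.Agent.Lib.SLCommutator
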