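import Cfsg.Agent.Lib.SLCommutator.Witness
import Cfsg.Agent.Lib.SLCommutator.LargeField

/-!
Lists of pieces all of whose maps are commutators.
-/

set_option autoImplicit false
set_option linter.unusedSectionVars false

namespace Cfsg.Agent.Lib.SLCommutator

open Polynomial Module

universe u

variable {F : Type u} [Field F] [Fintype F]

/-- Every map with these pieces is a commutator. -/
def CommList (l : List F[X]) : Prop :=
  ∀ ⦃V : Type u⦄ [AddCommGroup V] [Module F V] (A : End F V), Pieces A l → Comm A

/-- The determinant of one piece. -/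
def pieceDet (p : F[X]) : F := (-1) ^ p.natDegree * p.coeff 0

/-- The determinant of a list of pieces. -/
def listDet (l : List F[X]) : F := (l.map pieceDet).prod

theorem listDet_perm {l l' : List F[X]} (h : l.Perm l') : listDet l = listDet l' := (h.map pieceDet).prod_eq

theorem listDet_append (l l' : List F[X]) : listDet (l ++ l') = listDet l * listDet l' := by simp [listDet]

theorem listDet_cons (p : F[X]) (l : List F[X]) : listDet (p :: l) = pieceDet p * listDet l := by simp [listDet]

theorem commList_nil : CommList ([] : List F[X]) := by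
  intro V _ _ A hA
  have := hA.finite
  cases hA with
  | nil _ hs => exact (show A = 1 from LinearMap.ext fun v => Subsingleton.elim _ _) ▸ comm_one

theorem CommList.perm {l l' : List F[X]} (h : CommList l) (hl : l.Perm l') : CommList l' :=
  fun V _ _ A hA => h A (hA.perm hl.symm)

theorem CommList.append {l l' : List F[X]} (h : CommList l) (h' : CommList l') : CommList (l ++ l') := by
  intro V _ _ A hA
  obtain ⟨V₁, V₂, _, _, _, _, A₁, A₂, hi, h1, h2⟩ := hA.split
  have := h1.finite
  have := h2.finite
  have := hA.finite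
  exact hi.symm.comm ((h A₁ h1).prod (h' A₂ h2))

theorem commList_single {p : F[X]} (h : Comm (mroot p)) : CommList [p] := by
  intro V _ _ A hA
  have := hA.finite
  have := finite_adjoinRoot (hA.good p (by simp)).1
  exact hA.single.symm.comm h

theorem Pieces.pair {V : Type u} [AddCommGroup V] [Module F V] {A : End F V} {p q : F[X]} (hA : Pieces A [p, q]) :
    Iso A ((mroot p).prodMap (mroot q)) := by
  obtain ⟨V₁, V₂, _, _, _, _, A₁, A₂, hi, h1, h2⟩ := hA.split (l₁ := [p]) (l₂ := [q])
  exact hi.trans (h1.single.prod h2.single)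

theorem commList_pair {p q : F[X]} (h : Comm ((mroot p).prodMap (mroot q))) : CommList [p, q] := by
  intro V _ _ A hA
  have := hA.finite
  have := finite_adjoinRoot (hA.good p (by simp)).1
  have := finite_adjoinRoot (hA.good q (by simp)).1
  exact hA.pair.symm.comm h

theorem commList_triple {p q r : F[X]} (h : Comm (((mroot p).prodMap (mroot q)).prodMap (mroot r))) : CommList [p, q, r] := by
  intro V _ _ A hA
  have := hA.finite
  have := finite_adjoinRoot (hA.good p (by simp)).1
  have := finite_adjoinRoot (hA.good q (by simp)).1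
  have := finite_adjoinRoot (hA.good r (by simp)).1
  obtain ⟨V₁, V₂, _, _, _, _, A₁, A₂, hi, h1, h2⟩ := hA.split (l₁ := [p, q]) (l₂ := [r])
  exact (hi.trans (h1.pair.prod h2.single)).symm.comm h

theorem CommList.merge {p q : F[X]} {l : List F[X]} (hc : IsCoprime p q) (h : CommList (p * q :: l)) :
    CommList (p :: q :: l) :=
  fun V _ _ A hA => h A (hA.merge hc)

theorem pieces_replicate_scalar {V : Type u} [AddCommGroup V] [Module F V] {A : End F V} {c : F} {l : List F[X]}
    (hA : Pieces A l) (hl : ∀ p ∈ l, p = X - C c) : A = c • 1 := by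
  induction hA with
  | nil A hs => exact LinearMap.ext fun v => Subsingleton.elim _ _
  | @cons V _ _ A W _ _ A' p l hp h hf h' ih =>
    obtain rfl := hl p (by simp)
    obtain ⟨e, he⟩ := h
    refine LinearMap.ext fun v => e.injective ?_
    rw [he, LinearMap.smul_apply, Module.End.one_apply, map_smul, ih (fun q hq => hl q (List.mem_cons_of_mem _ hq))]
    refine Prod.ext ?_ rfl
    show AdjoinRoot.root (X - C c) * (e v).1 = c • (e v).1
    have hroot : AdjoinRoot.root (X - C c) = algebraMap F _ c := by
      have h : AdjoinRoot.mk (X - C c) (X - C c) = 0 := AdjoinRoot.mk_self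
      rw [map_sub, AdjoinRoot.mk_X, AdjoinRoot.mk_C, sub_eq_zero] at h
      exact h
    rw [hroot, Algebra.smul_def]

theorem commList_scalar {c : F} {l : List F[X]} (hl : ∀ p ∈ l, p = X - C c) (hd : listDet l = 1) : CommList l := by
  rcases eq_or_ne l [] with rfl | hne
  · exact commList_nil
  intro V _ _ A hA
  have := hA.finite
  have hA1 : A = c • 1 := pieces_replicate_scalar hA hl
  have hdet : LinearMap.det A = 1 := hA.det_eq.trans hd
  have hn : 1 ≤ finrank F V := by
    obtain ⟨p, hp⟩ := List.exists_mem_of_ne_nil l hne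
    rw [hA.finrank_eq]
    exact (show 1 ≤ p.natDegree by rw [hl p hp, natDegree_X_sub_C]).trans (List.le_sum_of_mem (List.mem_map_of_mem hp))
  rw [hA1] at hdet ⊢
  rw [LinearMap.det_smul, map_one, mul_one] at hdet
  exact comm_scalar hn hdet

/-- A large piece of determinant one. -/
theorem comm_big {p : F[X]} (hp : p.Monic) (hd : 3 ≤ p.natDegree) (hdet : pieceDet p = 1) : Comm (mroot p) := by
  obtain ⟨W, -, -, h⟩ := commW_piece hp hd (by rw [det_mroot hp]; exact hdet)
  exact h.comm

theorem comm_line_triang {f g : F[X]} (hf : f.Monic) (hg : g.Monic) {W₁ W₂ : F[X]}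
    (h₁ : CommW ((mroot f).prodMap (mroot f)) W₁) (h₂ : CommW (mroot g) W₂) (hd : pieceDet f ≠ 0) (hc : IsCoprime W₁ W₂) :
    Comm ((mroot f).prodMap (mroot (f * g))) := by
  obtain ⟨Y, hY⟩ := exists_iso_triang hf hg
  have := finite_adjoinRoot hf
  have := finite_adjoinRoot hg
  have := finite_adjoinRoot (hf.mul hg)
  have hmain := comm_triang h₁ h₂ (by
    rw [LinearMap.det_prodMap, det_mroot hf]
    exact mul_ne_zero hd hd) hc ((LinearMap.inr F (AdjoinRoot f) (AdjoinRoot f)) ∘ₗ Y)
  refine Iso.comm ?_ hmain
  refine Iso.trans ?_ ((Iso.refl (mroot f)).prod hY)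
  exact ⟨LinearEquiv.prodAssoc F _ _ _, fun ⟨⟨a, b⟩, w⟩ => by
    show LinearEquiv.prodAssoc F _ _ _ (((mroot f) a, (mroot f) b) + ((0 : AdjoinRoot f), Y w), mroot g w) = _
    simp [triang_apply]⟩

end Cfsg.Agent.Lib.SLCommutator
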