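import Cfsg.Agent.Lib.SLCommutator.Pieces

/-!
Two by two maps as quotients of two similar irreducible maps.
-/

set_option autoImplicit false
set_option linter.unusedSectionVars false

namespace Cfsg.Agent.Lib.SLCommutator

open Polynomial Module Matrix

universe u

variable {F : Type u} [Field F] [Fintype F]

/-- The reference quadratic. -/
noncomputable def quad (s : F) : F[X] := X ^ 2 - C s * X + 1

theorem quad_monic (s : F) : (quad s).Monic := by
  unfold quad
  monicity!

theorem quad_natDegree (s : F) : (quad s).natDegree = 2 := by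
  unfold quad
  compute_degree!

theorem quad_eval (s x : F) : (quad s).eval x = x ^ 2 - s * x + 1 := by simp [quad]

theorem exists_quad (hq : 4 ≤ Fintype.card F) : ∃ s : F, s ≠ 0 ∧ Irreducible (quad s) := by
  classical
  by_contra hne
  push Not at hne
  have hf : ∀ s : F, s ≠ 0 → ∃ r : F, r ≠ 0 ∧ r + r⁻¹ = s := by
    intro s hs
    have h := hne s hs
    rw [Polynomial.irreducible_iff_roots_eq_zero_of_degree_le_three (by rw [quad_natDegree]) (by rw [quad_natDegree]; omega)] at h
    obtain ⟨r, hr⟩ := Multiset.exists_mem_of_ne_zero h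
    have hr' := Polynomial.isRoot_of_mem_roots hr
    rw [IsRoot, quad_eval] at hr'
    have hr0 : r ≠ 0 := by rintro rfl; simp at hr'
    exact ⟨r, hr0, by field_simp; linear_combination hr'⟩
  choose g hg0 hg using hf
  let gs : Finset F := (Finset.univ.erase (0 : F)).attach.image fun s => g s.1 (Finset.ne_of_mem_erase s.2)
  have hgs : gs.card = Fintype.card F - 1 := by
    rw [Finset.card_image_of_injective _ (fun a b h => Subtype.ext (by
      rw [← hg a.1 (Finset.ne_of_mem_erase a.2), ← hg b.1 (Finset.ne_of_mem_erase b.2)]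
      exact congrArg (fun r => r + r⁻¹) h)), Finset.card_attach, Finset.card_erase_of_mem (Finset.mem_univ _), Finset.card_univ]
  have hall : gs = Finset.univ.erase 0 := by
    refine Finset.eq_of_subset_of_card_le (fun x hx => ?_) (by rw [hgs, Finset.card_erase_of_mem (Finset.mem_univ _), Finset.card_univ])
    obtain ⟨s, -, rfl⟩ := Finset.mem_image.1 hx
    exact Finset.mem_erase.2 ⟨hg0 _ _, Finset.mem_univ _⟩
  obtain ⟨r, -, hr⟩ := Finset.exists_mem_notMem_of_card_lt_card (s := ({0, 1, -1} : Finset F)) (t := Finset.univ)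
    (by rw [Finset.card_univ]; exact Finset.card_le_three.trans_lt (by omega))
  simp only [Finset.mem_insert, Finset.mem_singleton, not_or] at hr
  obtain ⟨hr0, hr1, hr2⟩ := hr
  have hm : ∀ x : F, x ≠ 0 → ∃ (s : F) (h : s ≠ 0), g s h = x := fun x hx => by
    obtain ⟨s, -, hs⟩ := Finset.mem_image.1 (hall ▸ Finset.mem_erase.2 ⟨hx, Finset.mem_univ x⟩ : x ∈ gs)
    exact ⟨s.1, _, hs⟩
  obtain ⟨a, ha, har⟩ := hm r hr0
  obtain ⟨b, hb, hbr⟩ := hm r⁻¹ (inv_ne_zero hr0)
  have hab : a = b := by rw [← hg a ha, ← hg b hb, har, hbr, inv_inv, add_comm]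
  subst hab
  have : r * r = 1 := by
    nth_rw 2 [har.symm.trans hbr]
    exact mul_inv_cancel₀ hr0
  rcases mul_self_eq_one_iff.1 this with h | h
  · exact hr1 h
  · exact hr2 h

theorem exists_entries {s t : F} (hs : s ≠ 0) (ht : t ≠ 2) :
    ∃ a b : F, a * (s - a) - b * (s - t * a + b) = 1 := by
  classical
  by_cases h2 : ringChar F = 2
  · have h20 : (2 : F) = 0 := by
      have := CharP.cast_eq_zero F (ringChar F)
      rwa [h2, Nat.cast_ofNat] at this
    obtain ⟨r, hr⟩ := FiniteField.isSquare_of_char_two h2 t⁻¹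
    have ht0 : t ≠ 0 := h20 ▸ ht
    refine ⟨r, r, ?_⟩
    have : t * (r * r) = 1 := by rw [← hr, mul_inv_cancel₀ ht0]
    linear_combination this - r * r * h20
  have h20 : (2 : F) ≠ 0 := Ring.two_ne_zero h2
  by_cases ht2 : t = -2
  · refine ⟨1 / (2 * s), -(1 / (2 * s)), ?_⟩
    subst ht2
    field_simp
    ring
  have hne : (t ^ 2 - 4) / 4 ≠ (0 : F) := by
    have h40 : (4 : F) ≠ 0 := by
      rw [show (4 : F) = 2 * 2 by norm_num]; exact mul_ne_zero h20 h20
    refine div_ne_zero (fun h => ?_) h40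
    rcases mul_eq_zero.1 (show (t - 2) * (t + 2) = 0 by linear_combination h) with h | h
    · exact ht (sub_eq_zero.1 h)
    · exact ht2 (eq_neg_of_add_eq_zero_left h)
  obtain ⟨u, b, hub⟩ := FiniteField.exists_root_sum_quadratic (f := (-X ^ 2 : F[X]))
    (g := C ((t ^ 2 - 4) / 4) * X ^ 2 + C ((t * s) / 2 - s) * X + C (s ^ 2 / 4 - 1))
    (by simp) (degree_quadratic hne) (FiniteField.odd_card_of_char_ne_two h2)
  refine ⟨u + (t * b + s) / 2, b, ?_⟩
  simp only [eval_neg, eval_pow, eval_X, eval_add, eval_mul, eval_C] at hub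
  have h40 : (4 : F) ≠ 0 := by
    rw [show (4 : F) = 2 * 2 by norm_num]; exact mul_ne_zero h20 h20
  field_simp at hub ⊢
  refine mul_left_cancel₀ h20 ?_
  linear_combination hub

/-- A plane map with trace different from two is a quotient of two similar irreducible maps. -/
theorem pair_two {s : F} (hs : s ≠ 0) (hirr : Irreducible (quad s)) {V : Type u} [AddCommGroup V]
    [Module F V] [Module.Finite F V] (hd : finrank F V = 2) (M : End F V) (hM : LinearMap.det M = 1)
    (hns : ∃ v, ∀ c : F, M v ≠ c • v) (ht : LinearMap.trace F V M ≠ 2) :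
    ∃ B C : End F V, M * C = B ∧ Iso B (mroot (quad s)) ∧ Iso C (mroot (quad s)) := by
  classical
  obtain ⟨v, hv⟩ := hns
  have hv0 : v ≠ 0 := by rintro rfl; exact hv 0 (by simp)
  have hli : LinearIndependent F ![v, M v] := by
    rw [LinearIndependent.pair_iff' hv0]
    exact fun a h => hv a h.symm
  let bas := basisOfLinearIndependentOfCardEqFinrank hli (by rw [hd]; rfl)
  have hb : ⇑bas = ![v, M v] := coe_basisOfLinearIndependentOfCardEqFinrank _ _
  set Mm := LinearMap.toMatrix bas bas M with hMm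
  have h00 : Mm 0 0 = 0 ∧ Mm 1 0 = 1 := by
    have h : M (bas 0) = bas 1 := by simp [hb]
    constructor <;> simp [hMm, LinearMap.toMatrix_apply, h]
  have hdet : Mm.det = 1 := by rw [hMm, LinearMap.det_toMatrix, hM]
  rw [det_fin_two, h00.1, h00.2] at hdet
  have h01 : Mm 0 1 = -1 := by linear_combination -hdet
  set t := Mm 1 1
  have htr : LinearMap.trace F V M = t := by
    rw [LinearMap.trace_eq_matrix_trace F bas, ← hMm, trace_fin_two, h00.1, zero_add]
  rw [htr] at ht
  obtain ⟨a, b, hab⟩ := exists_entries hs ht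
  let Bm : Matrix (Fin 2) (Fin 2) F := !![a, b; s - t * a + b, s - a]
  let Cm : Matrix (Fin 2) (Fin 2) F := !![t * a + (s - t * a + b), t * b + (s - a); -a, -b]
  have hMC : Mm * Cm = Bm := by
    ext i j
    fin_cases i <;> fin_cases j <;> simp [Bm, Cm, Matrix.mul_apply, Fin.sum_univ_two, h00.1, h00.2, h01, t] <;> ring
  have hiso : ∀ N : Matrix (Fin 2) (Fin 2) F, N 0 0 + N 1 1 = s → N 0 0 * N 1 1 - N 0 1 * N 1 0 = 1 →
      Iso (Matrix.toLin bas bas N) (mroot (quad s)) := by
    intro N h1 h2
    refine (iso_mroot_of_irreducible hirr (quad_monic s) _ ?_ (by rw [hd, quad_natDegree])).symm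
    have hN : N * N - s • N + 1 = 0 := by
      ext i j
      fin_cases i <;> fin_cases j <;> simp [Matrix.mul_apply, Fin.sum_univ_two, ← h1] <;> first | ring1 | linear_combination h2 | linear_combination -h2
    have hN' : aeval N (quad s) = 0 := by simpa [quad, pow_two, Algebra.algebraMap_eq_smul_one] using hN
    show aeval (Matrix.toLinAlgEquiv bas N) (quad s) = 0
    rw [aeval_algHom_apply (Matrix.toLinAlgEquiv bas : Matrix (Fin 2) (Fin 2) F ≃ₐ[F] End F V), hN', map_zero]
  refine ⟨Matrix.toLin bas bas Bm, Matrix.toLin bas bas Cm, ?_, hiso Bm (by simp [Bm]) ?_, hiso Cm ?_ ?_⟩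
  · rw [← hMC, Matrix.toLin_mul bas bas bas, hMm, Matrix.toLin_toMatrix]
    rfl
  · simp [Bm]; linear_combination hab
  · simp [Cm]; ring
  · simp [Cm]; linear_combination hab

end Cfsg.Agent.Lib.SLCommutator
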