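import Cfsg.Agent.Lib.SLCommutator.Border

/-!
The links given by one cyclic piece.
-/

set_option autoImplicit false
set_option linter.unusedSectionVars false

namespace Cfsg.Agent.Lib.SLCommutator

open Polynomial Module

universe u

variable {F : Type u} [Field F]

/-- An endomorphism killed by an irreducible polynomial of full degree is cyclic. -/
theorem iso_mroot_of_irreducible {p : F[X]} (hp : Irreducible p) (hm : p.Monic) {V : Type u} [AddCommGroup V] [Module F V]
    [Module.Finite F V] (f : End F V) (hf : aeval f p = 0) (hd : finrank F V = p.natDegree) : Iso (mroot p) f := by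
  have := Fact.mk hp
  have := finite_adjoinRoot hm
  have : Nontrivial V := Module.nontrivial_of_finrank_pos (R := F) (by rw [hd]; exact hp.natDegree_pos)
  obtain ⟨v, hv⟩ := exists_ne (0 : V)
  let φ : AdjoinRoot p →ₐ[F] End F V := Ideal.Quotient.liftₐ (Ideal.span {p}) (aeval f) fun P hP => by
    obtain ⟨c, rfl⟩ := Ideal.mem_span_singleton.1 hP
    rw [map_mul, hf, zero_mul]
  have hroot : φ (AdjoinRoot.root p) = f := by
    show φ (AdjoinRoot.mk p X) = f
    exact aeval_X f
  let e₀ : AdjoinRoot p →ₗ[F] V := (LinearMap.applyₗ v) ∘ₗ φ.toLinearMap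
  have hinj : Function.Injective e₀ := by
    rw [injective_iff_map_eq_zero]
    intro x hx
    by_contra hne
    apply hv
    have h1 : φ x⁻¹ (φ x v) = v := by rw [← Module.End.mul_apply, ← map_mul, inv_mul_cancel₀ hne, map_one]; rfl
    rwa [show φ x v = 0 from hx, map_zero, eq_comm] at h1
  let e := LinearMap.linearEquivOfInjective e₀ hinj (by rw [hd, (AdjoinRoot.powerBasis' hm).finrank]; rfl)
  refine ⟨e, fun x => ?_⟩
  show φ (AdjoinRoot.root p * x) v = f (φ x v)
  rw [map_mul, hroot]
  rfl

theorem isUnit_sub_of_aeval {V : Type u} [AddCommGroup V] [Module F V] {W : F[X]} (f : End F V) (hf : aeval f W = 0)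
    (β : F) (hβ : W.eval β ≠ 0) : IsUnit (f - β • 1) := by
  obtain ⟨g, hg⟩ := X_sub_C_dvd_sub_C_eval (a := β) (p := W)
  have hcomm : Commute (aeval f (X - C β)) (aeval f g) := (Commute.all (X - C β) g).map (aeval f)
  have h := congrArg (aeval f) hg
  rw [map_mul, map_sub, hf, aeval_C, zero_sub, Algebra.algebraMap_eq_smul_one] at h
  have e : aeval f (X - C β) = f - β • (1 : End F V) := by simp [Algebra.algebraMap_eq_smul_one]
  rw [e] at h hcomm
  refine ⟨⟨f - β • 1, (-(W.eval β)⁻¹) • aeval f g, ?_, ?_⟩, rfl⟩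
  · rw [mul_smul_comm, ← h]; simp [smul_smul, hβ]
  · rw [smul_mul_assoc, ← hcomm.eq, ← h]; simp [smul_smul, hβ]

/-- A pair of similar endomorphisms whose quotient is cyclic. -/
def HasPair (e : ℕ) (ν : F) : Prop :=
  ∃ (b : F[X]) (B C : End F (AdjoinRoot b)), b.Monic ∧ b.natDegree = e ∧ b.coeff 0 ≠ 0 ∧ mroot b * C = B ∧
    Iso B C ∧ LinearMap.det B = ν ∧ (∀ β : F, IsUnit (B - β • 1) ∧ IsUnit (C - β • 1)) ∧
    ∃ W : F[X], Irreducible W ∧ W.natDegree = e ∧ aeval B W = 0

variable [Fintype F]

theorem hasPair_of_elem {K : Type u} [Field K] [Algebra F K] [Fintype K] {w : K} (hw : w ≠ 0)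
    (he : 2 ≤ finrank F K) (hz : (minpoly F (w / w ^ Fintype.card F)).natDegree = finrank F K) :
    HasPair (finrank F K) (Algebra.norm F w) := by
  have hint : ∀ x : K, IsIntegral F x := fun x => Algebra.IsIntegral.isIntegral x
  set q := Fintype.card F
  set z := w / w ^ q
  set s := w ^ q
  have hs : s ≠ 0 := pow_ne_zero _ hw
  have hz0 : z ≠ 0 := div_ne_zero hw hs
  have hwdeg : (minpoly F w).natDegree = finrank F K := by
    refine le_antisymm (minpoly.natDegree_le w) ?_
    rw [← hz, ← IntermediateField.adjoin.finrank (hint w), ← IntermediateField.adjoin.finrank (hint z)]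
    have : FiniteDimensional F (IntermediateField.adjoin F {w} : IntermediateField F K) :=
      IntermediateField.adjoin.finiteDimensional (hint w)
    have hle : IntermediateField.adjoin F {z} ≤ IntermediateField.adjoin F {w} :=
      IntermediateField.adjoin_simple_le_iff.2 (div_mem (IntermediateField.mem_adjoin_simple_self F w)
        (pow_mem (IntermediateField.mem_adjoin_simple_self F w) q))
    exact LinearMap.finrank_le_finrank_of_injective (f := (IntermediateField.inclusion hle).toLinearMap)
      (IntermediateField.inclusion hle).injective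
  let σ := FiniteField.frobeniusAlgEquivOfAlgebraic F K
  have hσ : σ w = s := by simp [σ, s, q]
  set b := minpoly F z
  have hbm : b.Monic := minpoly.monic (hint z)
  have := finite_adjoinRoot hbm
  have hmul : ∀ x : K, (minpoly F x).natDegree = finrank F K → Iso (mroot (minpoly F x)) (Algebra.lmul F K x) := fun x hx =>
    iso_mroot_of_irreducible (minpoly.irreducible (hint x)) (minpoly.monic (hint x)) _
      (by rw [aeval_algHom_apply, minpoly.aeval, map_zero]) hx.symm
  obtain ⟨e, he'⟩ := (hmul z hz).symm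
  have hcj : ∀ x : K, Iso (e.conj (Algebra.lmul F K x)) (Algebra.lmul F K x) := fun x =>
    Iso.symm ⟨e, fun v => by simp⟩
  have hwW : Iso (Algebra.lmul F K s) (Algebra.lmul F K w) := Iso.symm ⟨σ.toLinearEquiv, fun v => by simp [s, q, σ, mul_pow]⟩
  have hW0 : ∀ β : F, (minpoly F w).eval β ≠ 0 := fun β h => by
    have := Polynomial.degree_eq_one_of_irreducible_of_root (minpoly.irreducible (hint w)) h
    rw [degree_eq_natDegree (minpoly.ne_zero (hint w)), hwdeg] at this
    have := Nat.cast_inj.1 (this.trans Nat.cast_one.symm)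
    omega
  have haev : ∀ x : K, aeval x (minpoly F w) = 0 → aeval (e.conj (Algebra.lmul F K x)) (minpoly F w) = 0 := fun x hx =>
    (aeval_algHom_apply ((LinearEquiv.conjAlgEquiv F e).toAlgHom.comp (Algebra.lmul F K)) x _).trans (by rw [hx, map_zero])
  refine ⟨b, e.conj (Algebra.lmul F K w), e.conj (Algebra.lmul F K s), hbm, hz, ?_, ?_,
    (hcj w).trans (hwW.symm.trans (hcj s).symm), ?_, fun β => ⟨?_, ?_⟩,
    minpoly F w, minpoly.irreducible (hint w), hwdeg, haev w (minpoly.aeval F w)⟩
  · exact minpoly.coeff_zero_ne_zero (hint z) hz0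
  · refine LinearMap.ext fun v => ?_
    obtain ⟨x, rfl⟩ := e.surjective v
    simp only [Module.End.mul_apply, LinearEquiv.conj_apply, LinearMap.comp_apply, LinearEquiv.coe_coe, e.symm_apply_apply]
    rw [← he']
    congr 1
    show z * (s * x) = w * x
    rw [← mul_assoc, div_mul_cancel₀ _ hs]
  · rw [det_conj_eq]
    rfl
  · exact isUnit_sub_of_aeval _ (haev w (minpoly.aeval F w)) β (hW0 β)
  · refine isUnit_sub_of_aeval _ (haev s ?_) β (hW0 β)
    rw [← hσ]
    exact (aeval_algHom_apply σ.toAlgHom w _).trans (by rw [minpoly.aeval, map_zero])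

open Classical in
theorem card_roots_le {K : Type u} [Field K] [Fintype K] {N : ℕ} (hN : 0 < N) (c : K) :
    (Finset.univ.filter fun w : K => w ^ N = c).card ≤ N := by
  have h := Polynomial.card_nthRoots N c
  refine le_trans (le_trans (Finset.card_le_card ?_) (Multiset.toFinset_card_le _)) h
  intro w hw
  rw [Multiset.mem_toFinset, Polynomial.mem_nthRoots hN]
  exact (Finset.mem_filter.1 hw).2

theorem card_norm_fibre {K : Type u} [Field K] [Algebra F K] [Fintype K] [DecidableEq F] [DecidableEq K] {ν : F} (hν : ν ≠ 0) :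
    (Finset.univ.filter fun w : K => w ≠ 0 ∧ Algebra.norm F w = ν).card * (Fintype.card F - 1) = Fintype.card K - 1 := by
  obtain ⟨w₀, hw₀⟩ := FiniteField.norm_surjective F K ν
  have hw₀0 : w₀ ≠ 0 := by rintro rfl; exact hν (by rw [← hw₀, Algebra.norm_zero])
  have hall : ∀ c : F, c ≠ 0 → (Finset.univ.filter fun w : K => w ≠ 0 ∧ Algebra.norm F w = c).card =
      (Finset.univ.filter fun w : K => w ≠ 0 ∧ Algebra.norm F w = ν).card := by
    intro c hc
    obtain ⟨w₁, hw₁⟩ := FiniteField.norm_surjective F K c
    have hw₁0 : w₁ ≠ 0 := by rintro rfl; exact hc (by rw [← hw₁, Algebra.norm_zero])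
    have hinv : ∀ x : K, x ≠ 0 → Algebra.norm F x⁻¹ = (Algebra.norm F x)⁻¹ := fun x hx =>
      eq_inv_of_mul_eq_one_left (by rw [← map_mul, inv_mul_cancel₀ hx, map_one])
    refine Finset.card_bij' (fun w _ => w * w₀ / w₁) (fun w _ => w * w₁ / w₀) ?_ ?_ ?_ ?_
    · intro w hw
      obtain ⟨a, b⟩ := (Finset.mem_filter.1 hw).2
      simp [a, hw₀0, hw₁0, div_eq_mul_inv, hinv, b, hw₀, hw₁]
      field_simp
    · intro w hw
      obtain ⟨a, b⟩ := (Finset.mem_filter.1 hw).2
      simp [a, hw₀0, hw₁0, div_eq_mul_inv, hinv, b, hw₀, hw₁]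
      field_simp
    · intro w _; field_simp
    · intro w _; field_simp
  have h := Finset.card_eq_sum_card_fiberwise (s := Finset.univ.filter fun w : K => w ≠ 0)
    (t := Finset.univ.filter fun c : F => c ≠ 0) (f := fun w => Algebra.norm F w) (fun w hw => by
      simpa [Algebra.norm_eq_zero_iff] using hw)
  simp only [Finset.filter_filter] at h
  rw [Finset.sum_congr rfl (fun c hc => hall c (Finset.mem_filter.1 hc).2), Finset.sum_const, smul_eq_mul,
    Finset.filter_ne', Finset.filter_ne', Finset.card_erase_of_mem (Finset.mem_univ _),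
    Finset.card_erase_of_mem (Finset.mem_univ _), Finset.card_univ, Finset.card_univ, mul_comm] at h
  exact h.symm

theorem hasPair_three (h3 : Fintype.card F = 3) : HasPair 2 (1 : F) := by
  classical
  have hchar : ∀ x : F, x * x ≠ -1 := by
    intro x hx
    have hx0 : x ≠ 0 := by rintro rfl; simp at hx
    have h1 := FiniteField.pow_card_sub_one_eq_one x hx0
    rw [h3, show (3 - 1 : ℕ) = 2 from rfl, pow_two, hx] at h1
    have hp : (3 : F) = 0 := by
      have := FiniteField.cast_card_eq_zero F
      rwa [h3] at this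
    exact one_ne_zero (show (1 : F) = 0 by linear_combination hp + h1)
  let p : F[X] := X ^ 2 + 1
  have hpm : p.Monic := by simpa [p] using monic_X_pow_add_C (R := F) (n := 2) 1 (by omega)
  have hpd : p.natDegree = 2 := by
    show (X ^ 2 + 1 : F[X]).natDegree = 2
    rw [← C_1, natDegree_X_pow_add_C]
  have hroots : ∀ x : F, p.eval x ≠ 0 := fun x h => hchar x (by
    simp [p] at h
    linear_combination h)
  have hirr : Irreducible p := (Polynomial.irreducible_iff_roots_eq_zero_of_degree_le_three (by omega) (by omega)).2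
    (Multiset.eq_zero_of_forall_notMem fun x hx => hroots x (Polynomial.isRoot_of_mem_roots hx))
  have := Fact.mk hirr
  have := finite_adjoinRoot hpm
  have : Finite (AdjoinRoot p) := Module.finite_of_finite F
  let _ := Fintype.ofFinite (AdjoinRoot p)
  set i : AdjoinRoot p := AdjoinRoot.root p
  have hi : i * i = -1 := by
    have h : AdjoinRoot.mk p p = 0 := AdjoinRoot.mk_self
    simp only [p, map_add, map_pow, AdjoinRoot.mk_X, map_one] at h
    linear_combination h
  let σ := FiniteField.frobeniusAlgEquivOfAlgebraic F (AdjoinRoot p)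
  have hσ : ∀ x, σ x = x ^ 3 := fun x => by simp [σ, h3]
  have hσi : σ i = -i := by rw [hσ]; linear_combination i * hi
  set c : AdjoinRoot p := 1 + i
  have hc : σ c * c = -1 := by
    rw [map_add, map_one, hσi]
    have hp3 : (3 : AdjoinRoot p) = 0 := by
      have : (3 : F) = 0 := by
        have := FiniteField.cast_card_eq_zero F
        rwa [h3] at this
      have := congrArg (algebraMap F (AdjoinRoot p)) this
      simpa [map_ofNat] using this
    linear_combination -hi + hp3
  let C : End F (AdjoinRoot p) := LinearMap.mulLeft F c ∘ₗ σ.toLinearMap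
  have hσσ : ∀ x, σ (σ x) = x := fun x => by
    have := FiniteField.pow_card x
    rw [Module.card_eq_pow_finrank (K := F), h3, (AdjoinRoot.powerBasis' hpm).finrank] at this
    rw [hσ, hσ, ← pow_mul]
    convert this using 2
    simp [hpd]
  have hC2 : aeval C p = 0 := LinearMap.ext fun x => by
    simp [p, pow_two, Module.End.mul_apply, C, hσσ]
    linear_combination x * hc
  have hB2 : aeval (mroot p * C) p = 0 := LinearMap.ext fun x => by
    simp [p, pow_two, Module.End.mul_apply, C, mroot, hσσ, ← show i = AdjoinRoot.root p from rfl, hσi]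
    linear_combination (-(i * i) * x) * hc + x * hi
  have hd : finrank F (AdjoinRoot p) = p.natDegree := (AdjoinRoot.powerBasis' hpm).finrank
  have hB := iso_mroot_of_irreducible hirr hpm (mroot p * C) hB2 hd
  refine ⟨p, mroot p * C, C, hpm, hpd, by simp [p], rfl, hB.symm.trans (iso_mroot_of_irreducible hirr hpm C hC2 hd),
    ?_, fun β => ⟨isUnit_sub_of_aeval _ hB2 β (hroots β), isUnit_sub_of_aeval _ hC2 β (hroots β)⟩, p, hirr, hpd, hB2⟩
  rw [← hB.det_eq, det_mroot hpm, hpd]
  simp [p]

/-- Pairs of every norm. -/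
theorem hasPair (e : ℕ) (he : 2 ≤ e) {ν : F} (hν : ν ≠ 0) : HasPair e ν := by
  classical
  obtain ⟨p, hp⟩ := CharP.exists F
  have := Fact.mk (CharP.char_is_prime F p)
  have : NeZero e := ⟨by omega⟩
  set q := Fintype.card F with hqdef
  have hq : 2 ≤ q := Fintype.one_lt_card
  by_cases hspec : e = 2 ∧ q = 3 ∧ ν = 1
  · obtain ⟨rfl, h3, rfl⟩ := hspec
    exact hasPair_three h3
  let K₀ := FiniteField.Extension F p e
  obtain ⟨K, _, _, _, hK⟩ : ∃ (K : Type u) (_ : Field K) (_ : Algebra F K) (_ : Fintype K), finrank F K = e := by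
    obtain ⟨P, hP1, hP2, hP3⟩ := (show ∃ P : F[X], P.Monic ∧ Irreducible P ∧ P.natDegree = e from by
      let _ := Fintype.ofFinite K₀
      obtain ⟨w, hw⟩ := Field.exists_primitive_element F K₀
      refine ⟨minpoly F w, minpoly.monic (Algebra.IsIntegral.isIntegral w), minpoly.irreducible (Algebra.IsIntegral.isIntegral w), ?_⟩
      rw [← IntermediateField.adjoin.finrank (Algebra.IsIntegral.isIntegral w), hw, IntermediateField.finrank_top',
        FiniteField.finrank_extension])
    have := Fact.mk hP2
    have := finite_adjoinRoot hP1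
    have : Finite (AdjoinRoot P) := Module.finite_of_finite F
    exact ⟨AdjoinRoot P, inferInstance, inferInstance, Fintype.ofFinite _, by rw [(AdjoinRoot.powerBasis' hP1).finrank]; exact hP3⟩
  have hcK : Fintype.card K = q ^ e := by rw [Module.card_eq_pow_finrank (K := F), hK]
  set fib := Finset.univ.filter fun w : K => w ≠ 0 ∧ Algebra.norm F w = ν with hfib
  set bad := fib.filter fun w => (minpoly F (w / w ^ q)).natDegree < e
  suffices hlt : bad.card < fib.card by
    obtain ⟨w, hw, hwb⟩ := Finset.exists_mem_notMem_of_card_lt_card hlt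
    obtain ⟨hw0, hwν⟩ := (Finset.mem_filter.1 hw).2
    have hdeg : (minpoly F (w / w ^ q)).natDegree = finrank F K :=
      le_antisymm (minpoly.natDegree_le _) (not_lt.1 fun h => hwb (Finset.mem_filter.2 ⟨hw, hK ▸ h⟩))
    have h := hasPair_of_elem hw0 (by omega) hdeg
    rwa [hK, hwν] at h
  have hfibcard : fib.card * (q - 1) = q ^ e - 1 := by rw [hfib, card_norm_fibre hν, hcK]
  have hdiv : ∀ w ∈ bad, ∃ f, f ∣ e ∧ f < e ∧ (w / w ^ q) ^ (q ^ f) = w / w ^ q := by
    intro w hw
    set z := w / w ^ q
    have hint : IsIntegral F z := Algebra.IsIntegral.isIntegral z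
    refine ⟨(minpoly F z).natDegree, hK ▸ minpoly.degree_dvd hint, (Finset.mem_filter.1 hw).2, ?_⟩
    have : FiniteDimensional F (IntermediateField.adjoin F {z} : IntermediateField F K) := IntermediateField.adjoin.finiteDimensional hint
    let _ : Fintype (IntermediateField.adjoin F {z} : IntermediateField F K) := Fintype.ofFinite _
    have h := FiniteField.pow_card (⟨z, IntermediateField.mem_adjoin_simple_self F z⟩ : (IntermediateField.adjoin F {z} : IntermediateField F K))
    rw [Module.card_eq_pow_finrank (K := F) (V := (IntermediateField.adjoin F {z} : IntermediateField F K)),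
      IntermediateField.adjoin.finrank hint] at h
    simpa using congrArg Subtype.val h
  have hzpow : ∀ (w : K), w ≠ 0 → ∀ f, (w / w ^ q) ^ (q ^ f) = w / w ^ q → w ^ ((q - 1) * (q ^ f - 1)) = 1 := by
    intro w hw f h
    have hz : w / w ^ q = (w ^ (q - 1))⁻¹ := by
      obtain ⟨r, hr⟩ : ∃ r, q = r + 1 := ⟨q - 1, by omega⟩
      rw [hr, Nat.add_sub_cancel, pow_succ, div_mul_cancel_right₀ hw]
    rw [hz, inv_pow, inv_inj, ← pow_mul] at h
    have h2 : w ^ ((q - 1) * (q ^ f - 1)) * w ^ (q - 1) = 1 * w ^ (q - 1) := by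
      rw [← pow_add, ← Nat.mul_succ, Nat.succ_eq_add_one, Nat.sub_add_cancel (Nat.one_le_pow _ _ (by omega)), one_mul, h]
    exact mul_right_cancel₀ (pow_ne_zero _ hw) h2
  rcases Nat.lt_or_ge e 3 with he3 | he3
  · obtain rfl : e = 2 := by omega
    have hsub : bad ⊆ Finset.univ.filter (fun w : K => w ^ 4 = (algebraMap F K ν) ^ 2) := by
      intro w hw
      obtain ⟨f, hf1, hf2, hf3⟩ := hdiv w hw
      have hf : f = 1 := by
        rcases f with _ | _ | f
        · simp at hf1
        · rfl
        · omega
      subst hf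
      obtain ⟨hw0, hwν⟩ := (Finset.mem_filter.1 (Finset.mem_filter.1 hw).1).2
      have hnorm : algebraMap F K ν = w * w ^ q := by
        rw [← hwν, FiniteField.algebraMap_norm_eq_prod_pow, hK]
        simp [Finset.prod_range_succ, q]
      refine Finset.mem_filter.2 ⟨Finset.mem_univ _, ?_⟩
      have hz2 : w ^ (q * q) = w := by
        have := FiniteField.pow_card w
        rwa [hcK, pow_two] at this
      rw [pow_one, div_pow, ← pow_mul, hz2] at hf3
      have hwq : w ^ q ≠ 0 := pow_ne_zero _ hw0
      rw [div_eq_div_iff hw0 hwq] at hf3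
      rw [hnorm]
      linear_combination (-(w ^ 2)) * hf3
    have hc : fib.card = q + 1 := by
      have h1 : q ^ 2 - 1 = (q + 1) * (q - 1) := by rw [← Nat.sq_sub_sq q 1, one_pow]
      rw [h1] at hfibcard
      exact Nat.eq_of_mul_eq_mul_right (by omega) hfibcard
    rcases Nat.lt_or_ge q 4 with hq4 | hq4
    · rcases (show q = 2 ∨ q = 3 by omega) with h2 | h3
      · have h20 : (2 : K) = 0 := by
          have h := FiniteField.cast_card_eq_zero K
          rw [hcK, h2] at h
          have : ((2 : K)) * 2 = 0 := by push_cast at h; linear_combination h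
          exact (mul_eq_zero.1 this).elim id id
        have hν1 : ν = 1 := by
          have := FiniteField.pow_card_sub_one_eq_one ν hν
          rwa [← hqdef, h2, pow_one] at this
        refine lt_of_le_of_lt (Finset.card_le_card (t := ({1} : Finset K)) (hsub.trans fun w hw => ?_)) (by simp [hc, h2])
        have h4 := (Finset.mem_filter.1 hw).2
        rw [hν1, map_one, one_pow] at h4
        rw [Finset.mem_singleton]
        have : (w - 1) ^ 4 = 0 := by linear_combination h4 + (-2 * w ^ 3 + 3 * w ^ 2 - 2 * w + 1) * h20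
        exact sub_eq_zero.1 (pow_eq_zero_iff (by omega) |>.1 this)
      · have hν1 : ν = -1 := by
          have h1 := FiniteField.pow_card_sub_one_eq_one ν hν
          rw [← hqdef, h3, show (3 - 1 : ℕ) = 2 from rfl, sq_eq_one_iff] at h1
          exact h1.resolve_left fun h => hspec ⟨rfl, h3, h⟩
        have h30 : (3 : F) = 0 := by
          have := FiniteField.cast_card_eq_zero F
          rwa [← hqdef, h3] at this
        have hempty : ∀ w ∈ bad, False := by
          intro w hw
          have h4 := (Finset.mem_filter.1 (hsub hw)).2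
          obtain ⟨hw0, hwν⟩ := (Finset.mem_filter.1 (Finset.mem_filter.1 hw).1).2
          have hnorm : algebraMap F K ν = w * w ^ q := by
            rw [← hwν, FiniteField.algebraMap_norm_eq_prod_pow, hK]
            simp [Finset.prod_range_succ, q]
          rw [hν1, map_neg, map_one, h3] at hnorm
          rw [hν1, map_neg, map_one] at h4
          have h20 : (2 : K) = 0 := by linear_combination -h4 - hnorm
          have h30' : (3 : K) = 0 := by
            have := congrArg (algebraMap F K) (show (3 : F) = 0 by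
              have := FiniteField.cast_card_eq_zero F
              rwa [← hqdef, h3] at this)
            simpa [map_ofNat] using this
          exact one_ne_zero (show (1 : K) = 0 by linear_combination h30' - h20)
        rw [Finset.eq_empty_of_forall_notMem (fun w hw => hempty w hw) (s := bad), Finset.card_empty, hc]
        omega
    · exact lt_of_le_of_lt ((Finset.card_le_card hsub).trans (card_roots_le (by norm_num) _)) (by omega)
  · set hh := e / 2
    have hsub : bad ⊆ (Finset.range hh).biUnion fun f => Finset.univ.filter fun w : K => w ^ ((q - 1) * (q ^ (f + 1) - 1)) = 1 := by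
      intro w hw
      obtain ⟨f, hf1, hf2, hf3⟩ := hdiv w hw
      obtain ⟨c, hc⟩ := hf1
      have hf0 : 0 < f := Nat.pos_of_ne_zero fun h => by subst h; omega
      have hc2 : 2 ≤ c := by
        rcases c with _ | _ | c <;> simp at hc ⊢ <;> omega
      have hfh : f ≤ hh := (Nat.le_div_iff_mul_le two_pos).2 (by rw [hc]; exact Nat.mul_le_mul_left f hc2)
      refine Finset.mem_biUnion.2 ⟨f - 1, Finset.mem_range.2 (by omega), Finset.mem_filter.2 ⟨Finset.mem_univ _, ?_⟩⟩
      rw [Nat.sub_add_cancel hf0]
      exact hzpow w (Finset.mem_filter.1 (Finset.mem_filter.1 hw).1).2.1 f hf3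
    have hle : bad.card ≤ ∑ f ∈ Finset.range hh, (q - 1) * (q ^ (f + 1) - 1) := by
      refine (Finset.card_le_card hsub).trans (Finset.card_biUnion_le.trans (Finset.sum_le_sum fun f _ => card_roots_le ?_ _))
      have : 1 < q ^ (f + 1) := Nat.one_lt_pow (by omega) (by omega)
      exact Nat.mul_pos (by omega) (by omega)
    have hgeo : ∀ m, (∑ f ∈ Finset.range m, (q - 1) * (q ^ (f + 1) - 1)) + q ≤ q ^ (m + 1) := by
      intro m
      induction m with
      | zero => simp
      | succ m ih =>
        rw [Finset.sum_range_succ]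
        have h1 : (q - 1) * (q ^ (m + 1) - 1) ≤ (q - 1) * q ^ (m + 1) := Nat.mul_le_mul_left _ (Nat.sub_le _ _)
        have h2 : (q - 1) * q ^ (m + 1) + q ^ (m + 1) = q ^ (m + 1 + 1) := by
          rw [pow_succ' q (m + 1)]
          nth_rw 2 [← one_mul (q ^ (m + 1))]
          rw [← add_mul, Nat.sub_add_cancel (by omega)]
        omega
    have hbig : q ^ (e - 1) ≤ fib.card := by
      refine Nat.le_of_mul_le_mul_right ?_ (show 0 < q - 1 by omega)
      rw [hfibcard, Nat.mul_sub, mul_one, ← pow_succ, Nat.sub_add_cancel (by omega)]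
      exact Nat.sub_le_sub_left (Nat.one_le_pow _ _ (by omega)) _
    have := hgeo hh
    have : q ^ (hh + 1) ≤ q ^ (e - 1) := Nat.pow_le_pow_right (by omega) (by omega)
    omega

theorem rel_of_iso {V U : Type u} [AddCommGroup V] [Module F V] [AddCommGroup U] [Module F U] [Module.Finite F U]
    {A B C : End F V} {R : End F U} {β β' : F} (h : A * C = B) (hB : Iso B (R.prodMap (line β)))
    (hC : Iso C (R.prodMap (line β'))) : Rel A (X - Polynomial.C β) (X - Polynomial.C β') (LinearMap.det B) :=
  ⟨B, C, U, inferInstance, inferInstance, inferInstance, R, h, rfl, hB.trans ((Iso.refl R).prod (iso_line β)),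
    hC.trans ((Iso.refl R).prod (iso_line β'))⟩

/-- A piece of size one. -/
theorem piece_one {p : F[X]} (hp : p.Monic) (hd : p.natDegree = 1) (h0 : p.coeff 0 ≠ 0) (β : F) :
    Rel (mroot p) (X - C β) (X - C (β / LinearMap.det (mroot p))) β := by
  have := finite_adjoinRoot hp
  set d := LinearMap.det (mroot p)
  have hd' : d = -p.coeff 0 := by simp [d, det_mroot hp, hd]
  have hfr : finrank F (AdjoinRoot p) = 1 := by rw [(AdjoinRoot.powerBasis' hp).finrank]; exact hd
  have hroot : mroot p = d • 1 := by
    have hr : AdjoinRoot.root p = algebraMap F _ d := by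
      have h : aeval (AdjoinRoot.root p) p = 0 := (AdjoinRoot.aeval_eq p).trans AdjoinRoot.mk_self
      have h2 := congrArg (aeval (AdjoinRoot.root p)) (Polynomial.Monic.eq_X_add_C hp hd)
      rw [h, map_add, aeval_X, aeval_C] at h2
      rw [hd', map_neg]
      exact eq_neg_of_add_eq_zero_left h2.symm
    exact LinearMap.ext fun v => by simp [mroot, hr, Algebra.smul_def]
  obtain ⟨e⟩ : Nonempty (AdjoinRoot p ≃ₗ[F] (Fin 0 → F) × F) := FiniteDimensional.nonempty_linearEquiv_of_finrank_eq (by
    rw [hfr, Module.finrank_prod, finrank_pi, Fintype.card_fin, finrank_self])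
  have hiso : ∀ c : F, Iso (c • (1 : End F (AdjoinRoot p))) ((0 : End F (Fin 0 → F)).prodMap (line c)) := fun c =>
    ⟨e, fun v => Prod.ext (Subsingleton.elim _ _) (by simp [line])⟩
  have h := rel_of_iso (A := mroot p) (B := β • 1) (C := (β / d) • 1) ?_ (hiso β) (hiso (β / d))
  · rwa [LinearMap.det_smul, map_one, mul_one, hfr, pow_one] at h
  · rw [hroot, smul_mul_smul_comm, mul_one, mul_div_cancel₀]
    rw [hd']; simpa using h0

/-- A piece of size two. -/
theorem piece_two {p : F[X]} (hp : p.Monic) (hd : p.natDegree = 2) (h0 : p.coeff 0 ≠ 0) {β ω : F} (hω : ω ≠ 0)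
    (h1 : ω ≠ β) (h2 : ω ≠ β / p.coeff 0) :
    Rel (mroot p) (X - C β) (X - C (β / p.coeff 0)) (ω * β) := by
  set b : F[X] := X - C 1
  have hb : b.Monic := monic_X_sub_C 1
  have hbd : b.natDegree = 1 := natDegree_X_sub_C 1
  have := finite_adjoinRoot hb
  have hfr : finrank F (AdjoinRoot b) = 1 := by rw [(AdjoinRoot.powerBasis' hb).finrank]; exact hbd
  have hM : mroot b = 1 := by
    have hr : AdjoinRoot.root b = 1 := by
      have h : AdjoinRoot.mk b b = 0 := AdjoinRoot.mk_self
      rw [map_sub, AdjoinRoot.mk_X, AdjoinRoot.mk_C, map_one, sub_eq_zero] at h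
      exact h
    exact LinearMap.ext fun v => by simp [mroot, hr]
  have hu : ∀ c : F, ω ≠ c → IsUnit (ω • (1 : End F (AdjoinRoot b)) - c • 1) := fun c hc => by
    rw [show ω • (1 : End F (AdjoinRoot b)) - c • 1 = (ω - c) • 1 from LinearMap.ext fun v => by simp [sub_smul]]
    refine ⟨⟨(ω - c) • 1, (ω - c)⁻¹ • 1, ?_, ?_⟩, rfl⟩ <;> simp [smul_smul, sub_ne_zero.2 hc]
  obtain ⟨B, C', hAC, hdet, hB, hC⟩ := border hp hb (by rw [hd, hbd]) (by simp [b]) (B₁ := ω • 1) (C₁ := ω • 1)
    (by rw [hM, one_mul]) (by rw [LinearMap.det_smul, map_one, mul_one, hfr, pow_one]; exact hω) (β := β) (β' := β / p.coeff 0)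
    (hu β h1) (hu _ h2) (by rw [det_mroot hp, hd, hM, map_one]; field_simp)
  have h := rel_of_iso hAC hB hC
  rwa [hdet, LinearMap.det_smul, map_one, mul_one, hfr, pow_one] at h

/-- A piece of size at least three. -/
theorem piece_big {p : F[X]} (hp : p.Monic) (hd : 3 ≤ p.natDegree) (h0 : p.coeff 0 ≠ 0) {β : F} (hβ : β ≠ 0) {ν : F} (hν : ν ≠ 0) :
    Rel (mroot p) (X - C β) (X - C (β / LinearMap.det (mroot p))) ν := by
  obtain ⟨b, B₁, C₁, hb, hbd, hb0, hbC, hiso, hdet₁, hu, -⟩ := hasPair (p.natDegree - 1) (by omega) (div_ne_zero hν hβ)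
  have := finite_adjoinRoot hb
  have hdC : LinearMap.det C₁ ≠ 0 := by rw [← hiso.det_eq, hdet₁]; exact div_ne_zero hν hβ
  have hdM : LinearMap.det (mroot b) = 1 := by
    have h := congrArg LinearMap.det hbC
    rw [map_mul, hiso.det_eq] at h
    exact (mul_eq_right₀ hdC).1 h
  obtain ⟨B, C', hAC, hdet, hB, hC⟩ := border hp hb (by omega) hb0 hbC hdC (β := β) (β' := β / LinearMap.det (mroot p))
    (hu β).1 (hu _).2 (by
      have : LinearMap.det (mroot p) ≠ 0 := by rw [det_mroot hp]; simp [h0]
      rw [hdM, one_mul, mul_div_cancel₀ _ this])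
  have h := rel_of_iso hAC hB (hC.trans (hiso.symm.prod (Iso.refl _)))
  rwa [hdet, hdet₁, div_mul_cancel₀ _ hβ] at h

end Cfsg.Agent.Lib.SLCommutator
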