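import Cfsg.Agent.Lib.SLCommutator.Cyclic
import Cfsg.Agent.Lib.SLCommutator.Avoid
import Cfsg.Agent.Lib.SLCommutator.PairTwo
import Cfsg.Agent.Lib.SLCommutator.Decomp

/-!
A pivot recursion: a map of determinant one, not too close to the identity, is a quotient of two regular
maps with the same characteristic polynomial.
-/

set_option autoImplicit false
set_option linter.unusedSectionVars false

namespace Cfsg.Agent.Lib.SLCommutator

open Polynomial Module

universe u

variable {F : Type u} [Field F]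

section pivot

variable {V : Type u} [AddCommGroup V] [Module F V] [Module.Finite F V] (A : End F V) (v : V) (ℓ : V →ₗ[F] F)

/-- The Schur complement, on the whole space. -/
noncomputable def schurExt : End F V := A - (ℓ ∘ₗ A).smulRight (A v)

theorem schurExt_mem (h : ℓ (A v) = 1) (z : V) : schurExt A v ℓ z ∈ LinearMap.ker ℓ := by
  simp [schurExt, h]

/-- The Schur complement of a unit pivot. -/
noncomputable def schur (h : ℓ (A v) = 1) : End F (LinearMap.ker ℓ) :=
  (schurExt A v ℓ).restrict fun z _ => schurExt_mem A v ℓ h z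

theorem schur_apply (h : ℓ (A v) = 1) (z : LinearMap.ker ℓ) :
    ((schur A v ℓ h z : LinearMap.ker ℓ) : V) = A z - ℓ (A z) • A v := rfl

theorem trace_schur (h : ℓ (A v) = 1) :
    LinearMap.trace F _ (schur A v ℓ h) = LinearMap.trace F V A - ℓ (A (A v)) := by
  rw [schur, LinearMap.trace_restrict_eq_of_forall_mem _ _ (schurExt_mem A v ℓ h), schurExt, map_sub,
    LinearMap.trace_smulRight]
  rfl

theorem pivot_step (h1 : ℓ v = 1) (h : ℓ (A v) = 1) {B' C' : End F (LinearMap.ker ℓ)} (hBC : schur A v ℓ h * C' = B') :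
    ∃ B C : End F V, A * C = B ∧
      Iso B (upper B' ⟨A v - v, by simp [h, h1]⟩ 1) ∧
      Iso C (lower C' (-((ℓ ∘ₗ A ∘ₗ (LinearMap.ker ℓ).subtype) ∘ₗ C')) 1) ∧
      (∀ z, ℓ (B z) = ℓ z) ∧ C v = v := by
  let e : V ≃ₗ[F] LinearMap.ker ℓ × F :=
    { toFun := fun z => (⟨z - ℓ z • v, by simp [h1]⟩, ℓ z)
      map_add' := fun a b => Prod.ext (Subtype.ext (by simp only [map_add, Prod.fst_add, Submodule.coe_add, add_smul]; abel)) (map_add ℓ a b)
      map_smul' := fun c a => Prod.ext (Subtype.ext (by simp [smul_sub, smul_smul])) (map_smul ℓ c a)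
      invFun := fun p => (p.1 : V) + p.2 • v
      left_inv := fun z => by simp
      right_inv := fun p => by
        have hp : ℓ (p.1 : V) = 0 := p.1.2
        exact Prod.ext (Subtype.ext (by simp [hp, h1])) (by simp [hp, h1]) }
  set L := lower C' (-((ℓ ∘ₗ A ∘ₗ (LinearMap.ker ℓ).subtype) ∘ₗ C')) 1
  set U := upper B' ⟨A v - v, by simp [h, h1]⟩ 1
  refine ⟨e.symm.conj U, e.symm.conj L, LinearMap.ext fun z => ?_, ⟨e, fun z => by simp [U]⟩,
    ⟨e, fun z => by simp [L]⟩, fun z => ?_, ?_⟩
  · show A (e.symm (L (e z))) = e.symm (U (e z))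
    rcases e z with ⟨u, s⟩
    show A (((C' u : LinearMap.ker ℓ) : V) + (-(ℓ (A (C' u : V))) + 1 * s) • v) = ((B' u + s • _ : LinearMap.ker ℓ) : V) + (1 * s) • v
    rw [← hBC, map_add, map_smul, Submodule.coe_add, Submodule.coe_smul, Module.End.mul_apply, schur_apply]
    simp only [one_mul, add_smul, neg_smul, smul_sub]
    abel
  · show ℓ (e.symm (U (e z))) = ℓ z
    rcases hez : e z with ⟨u, s⟩
    have hs : s = ℓ z := (congrArg Prod.snd hez).symm
    show ℓ (((B' u + s • _ : LinearMap.ker ℓ) : V) + (1 * s) • v) = ℓ z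
    rw [map_add, map_smul, LinearMap.mem_ker.1 (Submodule.coe_mem _), hs]
    simp [h1]
  · show e.symm (L (e v)) = v
    have hev : e v = (0, 1) := Prod.ext (Subtype.ext (by simp [e, h1])) h1
    rw [hev, lower_apply]
    simp [e]

theorem det_schur (h1 : ℓ v = 1) (h : ℓ (A v) = 1) : LinearMap.det (schur A v ℓ h) = LinearMap.det A := by
  obtain ⟨B, C, hAC, hB, hC, -, -⟩ := pivot_step A v ℓ h1 h (B' := schur A v ℓ h) (C' := 1) (mul_one _)
  have h2 := congrArg LinearMap.det hAC
  rw [map_mul, hB.det_eq, hC.det_eq, det_upper, det_lower] at h2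
  simpa using h2.symm

end pivot

variable [Fintype F]

theorem fintype_of_finite {V : Type u} [AddCommGroup V] [Module F V] [Module.Finite F V] : Nonempty (Fintype V) :=
  have : Finite V := Module.finite_of_finite F
  ⟨Fintype.ofFinite V⟩

theorem sur_irreducible {p : F[X]} (hp : Irreducible p) (hm : p.Monic) : Sur p := by
  have := Fact.mk hp
  have := finite_adjoinRoot hm
  have : Finite (AdjoinRoot p) := Module.finite_of_finite F
  intro c _
  obtain ⟨z, hz⟩ := FiniteField.norm_surjective F (AdjoinRoot p) c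
  exact ⟨Algebra.lmul F _ z, LinearMap.ext fun x => by simp [mroot, mul_left_comm], hz⟩

variable {V : Type u} [AddCommGroup V] [Module F V] [Module.Finite F V]

/-- A vector for the pivot. -/
theorem exists_pivot_vector (hq : 4 ≤ Fintype.card F) {A : End F V} (hA : LinearMap.det A = 1) (hns : ∀ c : F, A ≠ c • 1)
    (hr : 2 ≤ finrank F (LinearMap.range (A - 1))) {W : V} (hW : W ≠ 0) {φ : V →ₗ[F] F} (hφ : φ ≠ 0) :
    ∃ v : V, φ v ≠ 0 ∧ W ∉ F ∙ (A v - v) ∧ A v - v ≠ 0 ∧ (∀ c : F, A v ≠ c • v) ∧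
      (LinearMap.range (A - 1) ≠ ⊤ → v ∉ LinearMap.range (A - 1)) := by
  classical
  have : Nontrivial V := ⟨W, 0, hW⟩
  obtain ⟨_⟩ := fintype_of_finite (F := F) (V := V)
  set N := A - 1 with hN
  set P := (F ∙ W).comap N with hP
  have hkφ : LinearMap.ker φ ≠ ⊤ := fun h => hφ (LinearMap.ker_eq_top.1 h)
  have hPt : P ≠ ⊤ := fun h => by
    have hle : LinearMap.range N ≤ F ∙ W := by
      rw [← Submodule.map_top, Submodule.map_le_iff_le_comap, ← hP, h]
    have := Submodule.finrank_mono hle
    rw [finrank_span_singleton hW] at this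
    omega
  have hPuse : ∀ v, v ∉ P → W ∉ F ∙ (A v - v) ∧ A v - v ≠ 0 := by
    intro v hv
    have hne : A v - v ≠ 0 := fun h0 => hv (by simp [P, N, h0])
    refine ⟨fun hmem => hv ?_, hne⟩
    obtain ⟨c, hc⟩ := Submodule.mem_span_singleton.1 hmem
    have hc0 : c ≠ 0 := fun h => hW (by rw [← hc, h, zero_smul])
    refine Submodule.mem_span_singleton.2 ⟨c⁻¹, ?_⟩
    simp [N, ← hc, smul_smul, hc0]
  by_cases htop : LinearMap.range N = ⊤
  · let S : F → Submodule F V := fun c =>
      if c = 0 then LinearMap.ker φ else if c = 1 then P else LinearMap.ker (A - c • 1)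
    obtain ⟨v, hv0, hv⟩ := exists_avoid (D := V) le_rfl S fun c => by
      simp only [S]
      split_ifs with h0 h1
      · exact hkφ
      · exact hPt
      · exact fun h => hns c (sub_eq_zero.1 (LinearMap.ker_eq_top.1 h))
    have h0 : v ∉ LinearMap.ker φ := by have := hv 0; simpa [S] using this
    have h1 : v ∉ P := by have := hv 1; simpa [S] using this
    obtain ⟨ha, hb⟩ := hPuse v h1
    refine ⟨v, h0, ha, hb, fun c hc => ?_, fun h => absurd htop h⟩
    rcases eq_or_ne c 0 with rfl | hc0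
    · rw [zero_smul] at hc
      exact hv0 ((LinearMap.equivOfDetNeZero A (by rw [hA]; exact one_ne_zero)).injective (by simpa using hc))
    rcases eq_or_ne c 1 with rfl | hc1
    · exact hb (by rw [hc, one_smul, sub_self])
    have := hv c
    simp only [S, if_neg hc0, if_neg hc1] at this
    exact this (by simp [hc])
  · let S : Fin 3 → Submodule F V := ![LinearMap.ker φ, P, LinearMap.range N]
    obtain ⟨v, -, hv⟩ := exists_avoid (D := V) (by rw [Fintype.card_fin]; omega) S fun i => by
      fin_cases i <;> assumption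
    have hv2 : v ∉ LinearMap.range N := hv 2
    obtain ⟨ha, hb⟩ := hPuse v (hv 1)
    refine ⟨v, hv 0, ha, hb, fun c hc => ?_, fun _ => hv2⟩
    have hc1 : c - 1 ≠ 0 := fun h => hb (by rw [hc, sub_eq_zero.1 h, one_smul, sub_self])
    refine hv2 ⟨(c - 1)⁻¹ • v, ?_⟩
    rw [map_smul, show N v = (c - 1) • v by simp [N, hc, sub_smul], smul_smul, inv_mul_cancel₀ hc1, one_smul]

open Classical in
/-- A few affine conditions and one further functional can be avoided. -/
theorem exists_functional {D : Submodule F (V →ₗ[F] F)} (hD : D ≠ ⊥) {k : ℕ}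
    (hk : k + 2 ≤ Fintype.card F ∨ (k + 1 ≤ Fintype.card F ∧ 2 ≤ finrank F D))
    (ℓ₀ : V →ₗ[F] F) (y : Fin k → V) (c : Fin k → F) (hy : ∀ i, ∃ d ∈ D, (ℓ₀ + d) (y i) ≠ c i)
    (Bad : (V →ₗ[F] F) → Prop) (hbad : ∀ a ∈ D, ∀ b ∈ D, Bad (ℓ₀ + a) → Bad (ℓ₀ + b) → a = b) :
    ∃ d ∈ D, (∀ i, (ℓ₀ + d) (y i) ≠ c i) ∧ ¬ Bad (ℓ₀ + d) := by
  obtain ⟨_⟩ := fintype_of_finite (F := F) (V := (V →ₗ[F] F))
  let _ : Fintype D := Fintype.ofFinite D
  have hr1 : finrank F D ≠ 0 := fun h => hD (Submodule.finrank_eq_zero.1 h)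
  have hqD : Fintype.card D = Fintype.card F ^ finrank F D := Module.card_eq_pow_finrank (K := F) (V := D)
  have hq : 2 ≤ Fintype.card F := Fintype.one_lt_card
  let bad : Fin k → Finset D := fun i => Finset.univ.filter fun d => (ℓ₀ + (d : V →ₗ[F] F)) (y i) = c i
  let ev : Fin k → (D →ₗ[F] F) := fun i =>
    { toFun := fun d => (d : V →ₗ[F] F) (y i)
      map_add' := fun _ _ => rfl
      map_smul' := fun _ _ => rfl }
  have hb : ∀ i, (bad i).card * Fintype.card F ≤ Fintype.card D := fun i => by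
    obtain ⟨d, hd, hne⟩ := hy i
    have h := card_fibre_mul_le (F := F) (D := ↥D) (X := F) (ev i) (c i - ℓ₀ (y i))
      ⟨⟨d, hd⟩, fun h => hne (by simp [ev] at h; simp [h])⟩
    refine le_trans (Nat.mul_le_mul_right _ (Finset.card_le_card ?_)) h
    intro x hx
    simp only [bad, Finset.mem_filter, LinearMap.add_apply] at hx
    simp [ev, ← hx.2]
  let bad4 : Finset D := Finset.univ.filter fun d => Bad (ℓ₀ + d)
  have hb4 : bad4.card ≤ 1 := Finset.card_le_one.2 fun a ha b hb => Subtype.ext
    (hbad a a.2 b b.2 (Finset.mem_filter.1 ha).2 (Finset.mem_filter.1 hb).2)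
  have hlt : (Finset.univ.biUnion bad ∪ bad4).card < (Finset.univ : Finset D).card := by
    have h1 := Finset.card_union_le (Finset.univ.biUnion bad) bad4
    have h2 : (Finset.univ.biUnion bad).card ≤ ∑ i, (bad i).card := Finset.card_biUnion_le
    have h3 : (∑ i, (bad i).card) * Fintype.card F ≤ k * Fintype.card D := by
      rw [Finset.sum_mul]
      calc _ ≤ ∑ _i : Fin k, Fintype.card D := Finset.sum_le_sum fun i _ => hb i
        _ = _ := by simp
    rw [Finset.card_univ]
    by_contra hge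
    have h4 : (Fintype.card D - 1) * Fintype.card F ≤ k * Fintype.card D :=
      (Nat.mul_le_mul_right _ (by omega)).trans h3
    rw [Nat.sub_mul, one_mul] at h4
    rcases Nat.eq_or_lt_of_le (Nat.one_le_iff_ne_zero.2 hr1) with hd | hd
    · rw [← hd, pow_one] at hqD
      rw [hqD] at h4
      have hk' : k + 2 ≤ Fintype.card F := hk.resolve_right fun h => by omega
      have : (k + 2) * Fintype.card F ≤ Fintype.card F * Fintype.card F := Nat.mul_le_mul_right _ hk'
      rw [add_mul] at this
      omega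
    · have hk' : k + 1 ≤ Fintype.card F := by rcases hk with h | h <;> omega
      have hDq : Fintype.card F < Fintype.card D := by rw [hqD]; exact lt_self_pow₀ (by omega) hd
      have h5 : (k + 1) * Fintype.card D ≤ Fintype.card D * Fintype.card F := by
        rw [mul_comm (Fintype.card D)]; exact Nat.mul_le_mul_right _ hk'
      rw [add_mul, one_mul] at h5
      omega
  obtain ⟨d, -, hd⟩ := Finset.exists_mem_notMem_of_card_lt_card hlt
  simp only [Finset.mem_union, not_or] at hd
  exact ⟨d, d.2, fun i h => hd.1 (Finset.mem_biUnion.2 ⟨i, Finset.mem_univ _, Finset.mem_filter.2 ⟨Finset.mem_univ _, h⟩⟩),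
    fun h => hd.2 (Finset.mem_filter.2 ⟨Finset.mem_univ _, h⟩)⟩

end Cfsg.Agent.Lib.SLCommutator
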