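import Cfsg.Agent.Lib.SLCommutator.Pivot

/-!
The recursion over fields with at least four elements.
-/

set_option autoImplicit false
set_option linter.unusedSectionVars false

namespace Cfsg.Agent.Lib.SLCommutator

open Polynomial Module

universe u

variable {F : Type u} [Field F] [Fintype F] {V : Type u} [AddCommGroup V] [Module F V] [Module.Finite F V]

theorem exists_dual_eq {p : Submodule F V} {x : V} (hx : x ∉ p) : ∃ f : V →ₗ[F] F, f x = 1 ∧ ∀ z ∈ p, f z = 0 := by
  obtain ⟨f, hf, hp⟩ := Submodule.exists_le_ker_of_notMem hx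
  exact ⟨(f x)⁻¹ • f, by simp [hf], fun z hz => by simp [LinearMap.mem_ker.1 (hp hz)]⟩

theorem finrank_ker_dual {ℓ : V →ₗ[F] F} {v : V} (h1 : ℓ v = 1) : finrank F (LinearMap.ker ℓ) + 1 = finrank F V := by
  have hs : LinearMap.range ℓ = ⊤ := LinearMap.range_eq_top.2 fun c => ⟨c • v, by simp [h1]⟩
  rw [← LinearMap.finrank_range_add_finrank_ker ℓ, hs, finrank_top, finrank_self, add_comm]

theorem trace_schur_ne_two (hn : finrank F V = 3) {A : End F V} (hA : LinearMap.det A = 1)
    (hr : 2 ≤ finrank F (LinearMap.range (A - 1))) {v : V}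
    (hv : LinearMap.range (A - 1) ≠ ⊤ → v ∉ LinearMap.range (A - 1)) (hw : A v - v ≠ 0) {ℓ : V →ₗ[F] F} (h1 : ℓ v = 1)
    (h : ℓ (A v) = 1) (hspan : A (A v) ∈ Submodule.span F {v, A v - v}) :
    LinearMap.trace F _ (schur A v ℓ h) ≠ 2 := by
  intro htr
  classical
  set w := A v - v with hwdef
  have hℓw : ℓ w = 0 := by simp [hwdef, h, h1]
  have hAv : A v = v + w := by rw [hwdef]; abel
  obtain ⟨a', b', hab⟩ := Submodule.mem_span_pair.1 hspan
  obtain ⟨a, b, hAw⟩ : ∃ a b : F, A w = a • v + b • w := ⟨a' - 1, b' - 1, by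
    rw [hwdef, map_sub, ← hwdef, ← hab, hAv]; module⟩
  let w' : LinearMap.ker ℓ := ⟨w, hℓw⟩
  have hw' : w' ≠ 0 := fun h => hw (congrArg Subtype.val h)
  have hH : finrank F (LinearMap.ker ℓ) = 2 := by have := finrank_ker_dual h1; omega
  obtain ⟨u, hu⟩ : ∃ u : LinearMap.ker ℓ, u ∉ F ∙ w' := by
    by_contra hall
    push Not at hall
    have := Submodule.finrank_mono (show (⊤ : Submodule F (LinearMap.ker ℓ)) ≤ F ∙ w' from fun x _ => hall x)
    rw [finrank_top, finrank_span_singleton hw', hH] at this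
    omega
  have hli : LinearIndependent F ![w', u] := by
    rw [LinearIndependent.pair_iff' hw']
    exact fun c hc => hu (Submodule.mem_span_singleton.2 ⟨c, hc⟩)
  let bas := basisOfLinearIndependentOfCardEqFinrank hli (by rw [hH]; rfl)
  have hb : ⇑bas = ![w', u] := coe_basisOfLinearIndependentOfCardEqFinrank _ _
  set M := schur A v ℓ h with hM
  set T := LinearMap.toMatrix bas bas M with hT
  have hMw : M w' = (b - a) • w' := Subtype.ext (by
    rw [hM, schur_apply, Submodule.coe_smul]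
    show A w - ℓ (A w) • A v = (b - a) • w
    rw [hAw, map_add, map_smul, map_smul, h1, hℓw, hAv, smul_zero, add_zero, smul_eq_mul, mul_one]
    module)
  have h10 : T 1 0 = 0 := by
    rw [hT, LinearMap.toMatrix_apply, show bas 0 = w' by simp [hb], hMw, map_smul, show w' = bas 0 by simp [hb]]
    simp
  have h00 : T 0 0 = b - a := by
    rw [hT, LinearMap.toMatrix_apply, show bas 0 = w' by simp [hb], hMw, map_smul, show w' = bas 0 by simp [hb]]
    simp
  have hdet : T.det = 1 := by rw [hT, LinearMap.det_toMatrix, hM, det_schur A v ℓ h1 h, hA]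
  rw [Matrix.det_fin_two, h10, mul_zero, sub_zero] at hdet
  rw [LinearMap.trace_eq_matrix_trace F bas, ← hT, Matrix.trace_fin_two] at htr
  have h11 : T 0 0 = 1 ∧ T 1 1 = 1 := by
    have : (T 0 0 - 1) * (T 0 0 - 1) = 0 := by linear_combination -hdet + T 0 0 * htr
    have h0 := sub_eq_zero.1 (mul_self_eq_zero.1 this)
    exact ⟨h0, by linear_combination htr - h0⟩
  have hMu : M u = T 0 1 • w' + u := by
    have := bas.sum_repr (M u)
    rw [Fin.sum_univ_two, show bas.repr (M u) 0 = T 0 1 by simp [hT, LinearMap.toMatrix_apply, hb],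
      show bas.repr (M u) 1 = T 1 1 by simp [hT, LinearMap.toMatrix_apply, hb], h11.2, one_smul] at this
    simpa [hb] using this.symm
  have hNw : (A - 1) w = a • (v + w) := by
    have : b = a + 1 := by linear_combination h11.1 - h00
    rw [LinearMap.sub_apply, Module.End.one_apply, hAw, this]; module
  have hNu : (A - 1) (u : V) = T 0 1 • w + ℓ (A u) • (v + w) := by
    have := congrArg Subtype.val hMu
    rw [hM, schur_apply, Submodule.coe_add, Submodule.coe_smul, hAv] at this
    generalize ℓ (A (u : V)) = c at this ⊢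
    rw [LinearMap.sub_apply, Module.End.one_apply, eq_add_of_sub_eq this]
    show T 0 1 • w + (u : V) + c • (v + w) - (u : V) = _
    abel
  have hNv : (A - 1) v = w := by rw [LinearMap.sub_apply, Module.End.one_apply]
  have hrep : ∀ z, (A - 1) z = ℓ z • w + bas.repr ⟨z - ℓ z • v, by simp [h1]⟩ 0 • (A - 1) w +
      bas.repr ⟨z - ℓ z • v, by simp [h1]⟩ 1 • (A - 1) (u : V) := by
    intro z
    have := bas.sum_repr (⟨z - ℓ z • v, by simp [h1]⟩ : LinearMap.ker ℓ)
    rw [Fin.sum_univ_two] at this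
    have h2 := congrArg (fun x : LinearMap.ker ℓ => (A - 1) (x : V)) this
    simp only [hb, Matrix.cons_val_zero, Matrix.cons_val_one, Submodule.coe_add, Submodule.coe_smul, map_add, map_smul,
      map_sub, hNv] at h2
    rw [add_assoc, h2]
    abel
  have hne : LinearMap.range (A - 1) ≠ ⊤ := by
    intro htop
    have hle : (⊤ : Submodule F V) ≤ Submodule.span F {v, w} := by
      rw [← htop]
      rintro y ⟨z, rfl⟩
      have hv' : v ∈ Submodule.span F {v, w} := Submodule.subset_span (by simp)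
      have hw'' : w ∈ Submodule.span F {v, w} := Submodule.subset_span (by simp)
      rw [hrep z, hNw, hNu]
      exact add_mem (add_mem (Submodule.smul_mem _ _ hw'') (Submodule.smul_mem _ _ (Submodule.smul_mem _ _ (add_mem hv' hw''))))
        (Submodule.smul_mem _ _ (add_mem (Submodule.smul_mem _ _ hw'') (Submodule.smul_mem _ _ (add_mem hv' hw''))))
    have := Submodule.finrank_mono hle
    have h2 := finrank_span_le_card (R := F) ({v, w} : Set V)
    rw [finrank_top, hn] at this
    simp only [Set.toFinset_insert, Set.toFinset_singleton] at h2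
    have := h2.trans Finset.card_le_two
    omega
  have hvI := hv hne
  have hscal : ∀ (c : F) y, y ∈ LinearMap.range (A - 1) → c • v + y ∈ LinearMap.range (A - 1) → c = 0 := by
    intro c y hy hc
    by_contra hc0
    refine hvI ?_
    have := Submodule.smul_mem _ c⁻¹ (sub_mem hc hy)
    simpa [smul_smul, hc0] using this
  have hwI : w ∈ LinearMap.range (A - 1) := ⟨v, hNv⟩
  have ha : a = 0 := hscal a (a • w) (Submodule.smul_mem _ _ hwI) ⟨w, by rw [hNw, smul_add]⟩
  have hu0 : ℓ (A u) = 0 := hscal _ (T 0 1 • w + ℓ (A u) • w)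
    (add_mem (Submodule.smul_mem _ _ hwI) (Submodule.smul_mem _ _ hwI)) ⟨u, by rw [hNu, smul_add]; abel⟩
  have hle : LinearMap.range (A - 1) ≤ F ∙ w := by
    rintro y ⟨z, rfl⟩
    refine Submodule.mem_span_singleton.2 ⟨ℓ z + bas.repr ⟨z - ℓ z • v, by simp [h1]⟩ 1 * T 0 1, ?_⟩
    rw [hrep z, hNw, hNu, ha, hu0]
    module
  have := Submodule.finrank_mono hle
  rw [finrank_span_singleton hw] at this
  omega

theorem rank_schur {A : End F V} (hn : 4 ≤ finrank F V) (hr : 2 ≤ finrank F (LinearMap.range (A - 1))) {v : V}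
    (hv : LinearMap.range (A - 1) ≠ ⊤ → v ∉ LinearMap.range (A - 1)) {ℓ : V →ₗ[F] F} (h1 : ℓ v = 1) (h : ℓ (A v) = 1)
    (hk : finrank F (LinearMap.range (A - 1)) = 2 → ∃ z ∈ LinearMap.ker (A - 1), ℓ z ≠ 0) :
    2 ≤ finrank F (LinearMap.range (schur A v ℓ h - 1)) := by
  have hH := finrank_ker_dual h1
  have hrn := LinearMap.finrank_range_add_finrank_ker (schur A v ℓ h - 1)
  have hAn := LinearMap.finrank_range_add_finrank_ker (A - 1)
  set K := (LinearMap.ker (schur A v ℓ h - 1)).map (LinearMap.ker ℓ).subtype with hK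
  have hKr : finrank F K = finrank F (LinearMap.ker (schur A v ℓ h - 1)) :=
    Submodule.finrank_map_subtype_eq _ _
  have hmem : ∀ z ∈ K, ℓ z = 0 ∧ (A - 1) z = ℓ (A z) • A v := by
    rintro z ⟨u, hu, rfl⟩
    refine ⟨u.2, ?_⟩
    have := congrArg Subtype.val (LinearMap.mem_ker.1 hu)
    simp only [LinearMap.sub_apply, Module.End.one_apply, Submodule.coe_sub, schur_apply, ZeroMemClass.coe_zero] at this ⊢
    rw [sub_eq_zero] at this
    exact sub_eq_iff_eq_add.2 ((sub_eq_iff_eq_add.1 this).trans (add_comm _ _))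
  by_cases htop : LinearMap.range (A - 1) = ⊤
  · have hinj : Function.Injective ((A - 1 : End F V) : V → V) := LinearMap.injective_iff_surjective.2 (LinearMap.range_eq_top.1 htop)
    have h2 : finrank F K ≤ 1 := by
      rw [← LinearMap.finrank_range_of_inj (f := (A - 1) ∘ₗ K.subtype) (hinj.comp Subtype.coe_injective)]
      refine (Submodule.finrank_mono (t := F ∙ A v) ?_).trans ?_
      · rintro y ⟨z, rfl⟩
        exact Submodule.mem_span_singleton.2 ⟨_, ((hmem z z.2).2).symm⟩
      · exact (finrank_span_le_card _).trans (by simp)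
    omega
  · have hker : K ≤ LinearMap.ker (A - 1) := by
      intro z hz
      obtain ⟨hz0, hz1⟩ := hmem z hz
      rw [LinearMap.mem_ker, hz1]
      suffices ℓ (A z) = 0 by rw [this, zero_smul]
      by_contra hne
      refine hv htop ?_
      have h3 : A v ∈ LinearMap.range (A - 1) := ⟨(ℓ (A z))⁻¹ • z, by rw [map_smul, hz1, smul_smul, inv_mul_cancel₀ hne, one_smul]⟩
      have := sub_mem h3 (⟨v, rfl⟩ : (A - 1) v ∈ LinearMap.range (A - 1))
      simpa using this
    have hle := Submodule.finrank_mono hker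
    rcases Nat.eq_or_lt_of_le hr with h2 | h2
    · obtain ⟨z, hz, hz0⟩ := hk h2.symm
      have := Submodule.finrank_lt_finrank_of_lt (lt_of_le_of_ne hker fun he => hz0 (hmem z (he ▸ hz)).1)
      omega
    · omega

theorem exists_eq_smul_of_forall {f : End F V} (h : ∀ z, ∃ c : F, f z = c • z) : ∃ l : F, ∀ z, f z = l • z := by
  rcases subsingleton_or_nontrivial V with hV | hV
  · exact ⟨0, fun z => Subsingleton.elim _ _⟩
  obtain ⟨z₀, hz₀⟩ := exists_ne (0 : V)
  obtain ⟨l, hl⟩ := h z₀
  refine ⟨l, fun z => ?_⟩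
  obtain ⟨c, hc⟩ := h z
  by_cases hz : z ∈ F ∙ z₀
  · obtain ⟨t, rfl⟩ := Submodule.mem_span_singleton.1 hz
    rw [map_smul, hl, smul_comm]
  obtain ⟨d, hd⟩ := h (z + z₀)
  rw [map_add, hc, hl, smul_add] at hd
  have hli : LinearIndependent F ![z₀, z] :=
    (LinearIndependent.pair_iff' hz₀).2 fun t ht => hz (Submodule.mem_span_singleton.2 ⟨t, ht⟩)
  obtain ⟨h1, h2⟩ := LinearIndependent.pair_iff.1 hli (l - d) (c - d) (by
    rw [sub_smul, sub_smul]
    linear_combination (norm := abel) hd)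
  rw [hc, sub_eq_zero.1 h2, ← sub_eq_zero.1 h1]

/-- At most one Schur complement is scalar. -/
theorem scalar_unique {A : End F V} (hA : LinearMap.det A = 1) {v : V} (hvi : ∀ c : F, A v ≠ c • v) (hw : A v - v ≠ 0)
    {ℓ₀ a b : V →ₗ[F] F} (ha : (ℓ₀ + a) v = 1 ∧ (ℓ₀ + a) (A v) = 1) (hb : (ℓ₀ + b) v = 1 ∧ (ℓ₀ + b) (A v) = 1)
    {la lb : F} (hla : ∀ u, (ℓ₀ + a) u = 0 → A u - la • u ∈ F ∙ A v)
    (hlb : ∀ u, (ℓ₀ + b) u = 0 → A u - lb • u ∈ F ∙ A v) : a = b := by
  set f := ℓ₀ + a
  set g := ℓ₀ + b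
  suffices f = g from add_left_cancel this
  have hfw : f (A v - v) = 0 := by rw [map_sub, ha.1, ha.2, sub_self]
  have hgw : g (A v - v) = 0 := by rw [map_sub, hb.1, hb.2, sub_self]
  have hl : la = lb := by
    obtain ⟨c, hc⟩ := Submodule.mem_span_singleton.1 (sub_mem (hla _ hfw) (hlb _ hgw))
    have h2 := congrArg f hc
    simp only [map_smul, map_sub, ha.2, hfw, smul_eq_mul, mul_zero, mul_one, sub_self] at h2
    rw [h2, zero_smul, sub_sub_sub_cancel_left, ← sub_smul, eq_comm, smul_eq_zero] at hc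
    exact (sub_eq_zero.1 (hc.resolve_right hw)).symm
  subst hl
  refine LinearMap.ext fun z => ?_
  have hz : f (z - f z • v) = 0 := by simp [ha.1]
  by_cases hg : g (z - f z • v) = 0
  · rw [map_sub, map_smul, hb.1, smul_eq_mul, mul_one, sub_eq_zero] at hg
    exact hg.symm
  exfalso
  set t := z - f z • v
  have hall : ∀ y, A y - la • y ∈ F ∙ A v := by
    intro y
    have h0 : g (y - (g y / g t) • t) = 0 := by simp [hg]
    have := add_mem (hlb _ h0) (Submodule.smul_mem _ (g y / g t) (hla t hz))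
    convert this using 1
    rw [map_sub, map_smul]
    module
  obtain ⟨c, hc⟩ := Submodule.mem_span_singleton.1 (hall v)
  by_cases hl0 : la = 0
  · subst hl0
    obtain ⟨e, he⟩ := Submodule.mem_span_singleton.1 (hall (A v - v))
    rw [zero_smul, sub_zero, ← map_smul] at he
    have h2 : e • v = A v - v := (LinearMap.equivOfDetNeZero A (by rw [hA]; exact one_ne_zero)).injective he
    exact hvi (e + 1) (by rw [add_smul, one_smul, h2]; abel)
  · have h3 : la • v = (1 - c) • A v := by rw [sub_smul, one_smul, hc]; abel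
    have hc1 : 1 - c ≠ 0 := fun h0 => by
      rw [h0, zero_smul, smul_eq_zero] at h3
      exact h3.elim hl0 fun hv0 => hvi 0 (by rw [hv0, map_zero, smul_zero])
    exact hvi ((1 - c)⁻¹ * la) (by rw [mul_smul, h3, smul_smul, inv_mul_cancel₀ hc1, one_smul])

/-- The affine space of admissible functionals. -/
theorem pivot_space {A : End F V} {v : V} (hvi : ∀ c : F, A v ≠ c • v) (hn : 3 ≤ finrank F V) :
    ∃ (ℓ₀ : V →ₗ[F] F) (D : Submodule F (V →ₗ[F] F)), (∀ d ∈ D, (ℓ₀ + d) v = 1 ∧ (ℓ₀ + d) (A v) = 1) ∧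
      (∀ y, y ∉ F ∙ (A v - v) → ∃ d ∈ D, (ℓ₀ + d) y ≠ 0) ∧
      (∀ y, y ∉ Submodule.span F {v, A v - v} → ∃ d ∈ D, d y = 1) ∧ D ≠ ⊥ ∧ finrank F V ≤ finrank F D + 2 := by
  classical
  have hvw : v ∉ F ∙ (A v - v) := fun hm => by
    obtain ⟨c, hc⟩ := Submodule.mem_span_singleton.1 hm
    have hc0 : c ≠ 0 := fun h0 => by rw [h0, zero_smul] at hc; exact hvi 1 (by rw [← hc]; simp)
    exact hvi (c⁻¹ + 1) (by rw [add_smul, one_smul, ← sub_eq_iff_eq_add]; nth_rw 3 [← hc]; rw [smul_smul, inv_mul_cancel₀ hc0, one_smul])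
  obtain ⟨ℓ₀, h0v, h0w⟩ := exists_dual_eq hvw
  set D := (Submodule.span F {v, A v - v}).dualAnnihilator
  have hD2 : ∀ d ∈ D, d v = 0 ∧ d (A v - v) = 0 := fun d hd =>
    ⟨(Submodule.mem_dualAnnihilator d).1 hd _ (Submodule.subset_span (by simp)),
      (Submodule.mem_dualAnnihilator d).1 hd _ (Submodule.subset_span (by simp))⟩
  have hL : ∀ d ∈ D, (ℓ₀ + d) v = 1 ∧ (ℓ₀ + d) (A v) = 1 := fun d hd => by
    have h2 := h0w _ (Submodule.mem_span_singleton_self _)
    obtain ⟨ha, hb⟩ := hD2 d hd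
    rw [map_sub, sub_eq_zero] at h2 hb
    simp [h0v, ha, hb, h2]
  have hne : ∀ y, y ∉ F ∙ (A v - v) → ∃ d ∈ D, (ℓ₀ + d) y ≠ 0 := by
    intro y hy
    by_cases h0 : ℓ₀ y = 0
    · have : y ∉ Submodule.span F {v, A v - v} := fun hm => by
        obtain ⟨a, b, hab⟩ := Submodule.mem_span_pair.1 hm
        have h2 := h0w _ (Submodule.mem_span_singleton_self _)
        rw [← hab, map_add, map_smul, map_smul, h0v, h2] at h0
        simp at h0
        exact hy (Submodule.mem_span_singleton.2 ⟨b, by rw [← hab, h0, zero_smul, zero_add]⟩)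
      obtain ⟨d, hd1, hd⟩ := exists_dual_eq this
      exact ⟨d, (Submodule.mem_dualAnnihilator d).2 hd, by simp [h0, hd1]⟩
    · exact ⟨0, zero_mem _, by simpa using h0⟩
  have hdim : finrank F V ≤ finrank F D + 2 := by
    have := Subspace.finrank_add_finrank_dualAnnihilator_eq (Submodule.span F {v, A v - v})
    have h2 := finrank_span_le_card (R := F) ({v, A v - v} : Set V)
    simp only [Set.toFinset_insert, Set.toFinset_singleton] at h2
    have h3 := h2.trans Finset.card_le_two
    show finrank F V ≤ finrank F (Submodule.span F {v, A v - v}).dualAnnihilator + 2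
    omega
  refine ⟨ℓ₀, D, hL, hne, fun y hy => ?_, fun hb => ?_, hdim⟩
  · obtain ⟨d, hd1, hd⟩ := exists_dual_eq hy
    exact ⟨d, (Submodule.mem_dualAnnihilator d).2 hd, hd1⟩
  · rw [hb, finrank_bot] at hdim
    omega

/-- The statement of the recursion. -/
def Regular (s : F) (m : ℕ) : Prop :=
  ∀ {V : Type u} [AddCommGroup V] [Module F V] [Module.Finite F V], finrank F V = m + 3 → ∀ A : End F V,
    LinearMap.det A = 1 → (∀ c : F, A ≠ c • 1) → 2 ≤ finrank F (LinearMap.range (A - 1)) →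
    ∀ W : V, W ≠ 0 → ∀ φ : V →ₗ[F] F, φ ≠ 0 →
    ∃ B C : End F V, A * C = B ∧ Iso B (mroot ((X - Polynomial.C 1) ^ (m + 1) * quad s)) ∧
      Iso C (mroot ((X - Polynomial.C 1) ^ (m + 1) * quad s)) ∧ W ∉ LinearMap.range (B - 1) ∧ ∃ k, C k = k ∧ φ k ≠ 0

theorem regular (hq : 4 ≤ Fintype.card F) {s : F} (hs : s ≠ 0) (hirr : Irreducible (quad s)) : ∀ m : ℕ, Regular s m := by
  intro m
  induction m with
  | zero =>
    intro V _ _ _ hn A hA hns hr W hW φ hφ
    classical
    obtain ⟨v, hφv, hWw, hw, hvi, hvI⟩ := exists_pivot_vector hq hA hns hr hW hφ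
    obtain ⟨ℓ₀, D, hL, hne, hfull, hDb, -⟩ := pivot_space (A := A) hvi (by omega)
    obtain ⟨d, hd, hgood, hsc⟩ := exists_functional hDb (k := 2) (Or.inl (by omega)) ℓ₀ ![W, A (A v)]
      ![0, LinearMap.trace F V A - 2] (fun i => by
        fin_cases i
        · exact hne W hWw
        · show ∃ d ∈ D, (ℓ₀ + d) (A (A v)) ≠ LinearMap.trace F V A - 2
          by_cases hsp : A (A v) ∈ Submodule.span F {v, A v - v}
          · refine ⟨0, zero_mem _, fun he => trace_schur_ne_two hn hA hr hvI hw ((hL 0 (zero_mem _)).1) ((hL 0 (zero_mem _)).2) hsp ?_⟩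
            rw [trace_schur, he]; ring
          · obtain ⟨d, hdD, hd1⟩ := hfull _ hsp
            by_cases h0 : ℓ₀ (A (A v)) = LinearMap.trace F V A - 2
            · exact ⟨d, hdD, by simp [h0, hd1]⟩
            · exact ⟨0, zero_mem _, by simpa using h0⟩)
      (fun ℓ => ∃ l : F, ∀ u, ℓ u = 0 → A u - l • u ∈ F ∙ A v) (fun a ha b hb ⟨la, hla⟩ ⟨lb, hlb⟩ => by
        exact scalar_unique hA hvi hw (hL a ha) (hL b hb) hla hlb)
    obtain ⟨h1, h⟩ := hL d hd
    set ℓ := ℓ₀ + d
    have hH : finrank F (LinearMap.ker ℓ) = 2 := by have := finrank_ker_dual h1; omega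
    have hnsM : ∃ z, ∀ c : F, schur A v ℓ h z ≠ c • z := by
      by_contra hall
      push Not at hall
      obtain ⟨l, hl⟩ := exists_eq_smul_of_forall hall
      refine hsc ⟨l, fun u hu => Submodule.mem_span_singleton.2 ⟨ℓ (A u), ?_⟩⟩
      have := congrArg Subtype.val (hl ⟨u, hu⟩)
      rw [schur_apply, Submodule.coe_smul] at this
      rw [← this]; simp
    obtain ⟨B', C', hBC, hB', hC'⟩ := pair_two hs hirr hH (schur A v ℓ h) (by rw [det_schur A v ℓ h1 h, hA]) hnsM
      (fun ht => hgood 1 (by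
        rw [trace_schur] at ht
        show ℓ (A (A v)) = LinearMap.trace F V A - 2
        linear_combination -ht))
    obtain ⟨B, C, hAC, hB, hC, hrange, hCv⟩ := pivot_step A v ℓ h1 h hBC
    have hQm := quad_monic s
    have := finite_adjoinRoot hQm
    have hunit : IsUnit (mroot (quad s) - (1 : F) • 1) := isUnit_sub_of_aeval _
      (LinearMap.ext fun x => by rw [aeval_mroot, AdjoinRoot.mk_self, zero_mul]; rfl) 1 (fun h0 => by
        have := Polynomial.degree_eq_one_of_irreducible_of_root hirr h0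
        rw [degree_eq_natDegree hQm.ne_zero, quad_natDegree] at this
        exact absurd this (by norm_num))
    have hmul : Iso ((mroot (quad s)).prodMap (line 1)) (mroot ((X - Polynomial.C 1) ^ (0 + 1) * quad s)) := by
      rw [zero_add, pow_one]
      have hcop : IsCoprime (X - Polynomial.C 1) (quad s) := (irreducible_X_sub_C _).coprime_iff_not_dvd.2 fun hd =>
        (Irreducible.not_isRoot_of_natDegree_ne_one hirr (by rw [quad_natDegree]; omega)) (dvd_iff_isRoot.1 hd)
      exact (((Iso.refl _).prod (iso_line 1)).trans (iso_comm _ _)).trans (iso_mroot_mul (monic_X_sub_C 1) hQm hcop).symm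
    refine ⟨B, C, hAC, ?_, ?_, fun ⟨z, hz⟩ => hgood 0 ?_, v, hCv, hφv⟩
    · obtain ⟨e, he⟩ := hB'
      exact hB.trans ((iso_upper_congr e he _ 1).trans ((iso_upper _ hunit).trans hmul))
    · obtain ⟨e, he⟩ := hC'
      exact hC.trans ((iso_lower_congr e he _ 1).trans ((iso_lower _ hunit).trans hmul))
    · show ℓ W = 0
      rw [← hz, LinearMap.sub_apply, map_sub, hrange, Module.End.one_apply, sub_self]
  | succ m ih =>
    intro V _ _ _ hn A hA hns hr W hW φ hφ
    classical
    obtain ⟨v, hφv, hWw, hw, hvi, hvI⟩ := exists_pivot_vector hq hA hns hr hW hφ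
    obtain ⟨ℓ₀, D, hL, hne, -, hDb, hDd⟩ := pivot_space (A := A) hvi (by omega)
    obtain ⟨y₂, hy₂, hy₂w⟩ : ∃ y ∈ LinearMap.range (A - 1), y ∉ F ∙ (A v - v) := by
      by_contra hall
      push Not at hall
      have := Submodule.finrank_mono (show LinearMap.range (A - 1) ≤ F ∙ (A v - v) from hall)
      rw [finrank_span_singleton hw] at this
      omega
    obtain ⟨y₃, hy₃, hy₃k⟩ : ∃ y, y ∉ F ∙ (A v - v) ∧
        (finrank F (LinearMap.range (A - 1)) = 2 → y ∈ LinearMap.ker (A - 1)) := by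
      by_cases h2 : finrank F (LinearMap.range (A - 1)) = 2
      · by_contra hall
        push Not at hall
        have hrn := LinearMap.finrank_range_add_finrank_ker (A - 1)
        have := Submodule.finrank_mono (show LinearMap.ker (A - 1) ≤ F ∙ (A v - v) from fun z hz => by
          by_contra hz'
          exact (hall z hz').2 hz)
        rw [finrank_span_singleton hw] at this
        omega
      · exact ⟨W, hWw, fun h => absurd h h2⟩
    obtain ⟨d, hd, hgood, hsc⟩ := exists_functional hDb (k := 3) (Or.inr ⟨by omega, by omega⟩) ℓ₀ ![W, y₂, y₃]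
      ![0, 0, 0] (fun i => by
        fin_cases i
        · exact hne W hWw
        · exact hne y₂ hy₂w
        · exact hne y₃ hy₃)
      (fun ℓ => ∃ l : F, ∀ u, ℓ u = 0 → A u - l • u ∈ F ∙ A v) (fun a ha b hb ⟨la, hla⟩ ⟨lb, hlb⟩ => by
        exact scalar_unique hA hvi hw (hL a ha) (hL b hb) hla hlb)
    obtain ⟨h1, h⟩ := hL d hd
    set ℓ := ℓ₀ + d
    have hH : finrank F (LinearMap.ker ℓ) = m + 3 := by have := finrank_ker_dual h1; omega
    have hrM := rank_schur (by omega) hr hvI h1 h fun h2 => ⟨y₃, hy₃k h2, hgood 2⟩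
    have hnsM : ∀ c : F, schur A v ℓ h ≠ c • 1 := fun c hc => hsc ⟨c, fun u hu =>
      Submodule.mem_span_singleton.2 ⟨ℓ (A u), by
        have := congrArg Subtype.val (LinearMap.congr_fun hc ⟨u, hu⟩)
        rw [schur_apply, LinearMap.smul_apply, Module.End.one_apply, Submodule.coe_smul] at this
        rw [← this]; simp⟩⟩
    set χ := ℓ ∘ₗ A ∘ₗ (LinearMap.ker ℓ).subtype with hχ
    have hχ0 : χ ≠ 0 := by
      intro h0
      obtain ⟨z, hz⟩ := hy₂
      apply hgood 1
      show ℓ y₂ = 0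
      have hu := LinearMap.congr_fun h0 ⟨z - ℓ z • v, by simp [h1]⟩
      rw [hχ] at hu
      simp [h] at hu
      rw [← hz, LinearMap.sub_apply, map_sub, Module.End.one_apply]
      linear_combination hu
    obtain ⟨B', C', hBC, hB', hC', hwB, k, hk, hkχ⟩ := ih hH (schur A v ℓ h) (by rw [det_schur A v ℓ h1 h, hA]) hnsM hrM
      ⟨A v - v, by simp [h, h1]⟩ (fun h0 => hw (congrArg Subtype.val h0)) χ hχ0
    obtain ⟨B, C, hAC, hB, hC, hrange, hCv⟩ := pivot_step A v ℓ h1 h hBC
    have hQm := quad_monic s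
    have := finite_adjoinRoot (((monic_X_sub_C (1 : F)).pow (m + 1)).mul hQm)
    refine ⟨B, C, hAC, ?_, ?_, fun ⟨z, hz⟩ => hgood 0 ?_, v, hCv, hφv⟩
    · obtain ⟨e, he⟩ := hB'
      refine hB.trans ((iso_upper_congr e he _ 1).trans (iso_upper_cyclic hirr hQm (by rw [quad_natDegree]) (m + 1) rfl _ ?_))
      rintro ⟨x, hx⟩
      exact hwB ⟨e.symm x, e.injective (by rw [← hx]; simp [he])⟩
    · obtain ⟨e, he⟩ := hC'
      refine hC.trans ((iso_lower_congr e he _ 1).trans (iso_lower_cyclic hQm m rfl _ ⟨e k, by rw [← he, hk], ?_⟩))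
      rw [hχ] at hkχ
      simpa [hk] using hkχ
    · show ℓ W = 0
      rw [← hz, LinearMap.sub_apply, map_sub, hrange, Module.End.one_apply, sub_self]

/-- Away from scalars and transvections every element is a commutator. -/
theorem comm_of_rank (hq : 4 ≤ Fintype.card F) {m : ℕ} (hn : finrank F V = m + 3) {A : End F V} (hA : LinearMap.det A = 1)
    (hns : ∀ c : F, A ≠ c • 1) (hr : 2 ≤ finrank F (LinearMap.range (A - 1))) : Comm A := by
  obtain ⟨s, hs, hirr⟩ := exists_quad hq
  have : Nontrivial V := Module.nontrivial_of_finrank_pos (R := F) (by omega)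
  obtain ⟨W, hW⟩ := exists_ne (0 : V)
  obtain ⟨φ, hφ, -⟩ := exists_dual_eq (p := (⊥ : Submodule F V)) (x := W) (by simpa using hW)
  obtain ⟨B, C, hAC, hB, hC, -, -⟩ := regular hq hs hirr m hn A hA hns hr W hW φ (fun h => by simp [h] at hφ)
  have hQm := quad_monic s
  have hcop : IsCoprime ((X - Polynomial.C 1) ^ (m + 1)) (quad s) :=
    ((irreducible_X_sub_C _).coprime_iff_not_dvd.2 fun hd =>
      (Irreducible.not_isRoot_of_natDegree_ne_one hirr (by rw [quad_natDegree]; omega)) (dvd_iff_isRoot.1 hd)).pow_left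
  have hm := (monic_X_sub_C (1 : F)).pow (m + 1)
  have := finite_adjoinRoot hm
  have hdet : LinearMap.det B = 1 := by
    rw [hB.det_eq, det_mroot (hm.mul hQm), hm.natDegree_mul hQm, (monic_X_sub_C (1 : F)).natDegree_pow, natDegree_X_sub_C,
      mul_one, quad_natDegree, mul_coeff_zero, coeff_zero_eq_eval_zero, eval_pow, coeff_zero_eq_eval_zero (quad s), quad_eval]
    simp [← mul_pow, pow_add]
  refine Rel.comm hQm (sur_irreducible hirr hQm) (one_ne_zero : (1 : F) ≠ 0) ?_
  rw [one_pow]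
  exact ⟨B, C, _, inferInstance, inferInstance, inferInstance, mroot _, hAC, hdet,
    hB.trans (iso_mroot_mul hm hQm hcop), hC.trans (iso_mroot_mul hm hQm hcop)⟩

end Cfsg.Agent.Lib.SLCommutator
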