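import Cfsg.Agent.Lib.SLCommutator.Companion

/-!
Explicit commutators in small dimension over the fields with two and three elements.
-/

set_option autoImplicit false
set_option linter.unusedSectionVars false
set_option linter.unusedSimpArgs false
set_option linter.unreachableTactic false
set_option linter.unusedTactic false

namespace Cfsg.Agent.Lib.SLCommutator

open Polynomial Module

universe u

variable {F : Type u} [Field F] [Fintype F]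

theorem exists_hom {p : ℕ} (hp : p.Prime) (h : Fintype.card F = p) : ∃ _ : ZMod p →+* F, (p : F) = 0 := by
  obtain ⟨r, hr⟩ := CharP.exists F
  obtain ⟨n, hrp, hc⟩ := FiniteField.card F r
  have h' : p = r ^ (n : ℕ) := h.symm.trans hc
  have : r = p := ((Nat.prime_dvd_prime_iff_eq hrp hp).1 (h' ▸ dvd_pow_self r n.pos.ne')).symm ▸ rfl
  subst this
  exact ⟨ZMod.castHom dvd_rfl F, CharP.cast_eq_zero F r⟩

variable {R : Type} [CommRing R] (φ : R →+* F)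

theorem iso_one {P : F[X]} (a : R) (hP : P = X + Polynomial.C (φ a)) :
    Iso (mroot P) (Matrix.toLin' ((companion ![a]).map φ)) := by
  rw [map_companion]
  subst hP
  refine iso_companion (monic_X_add_C _) (natDegree_X_add_C _) _ fun i => ?_
  fin_cases i; simp

theorem iso_two {P : F[X]} (a b : R) (hP : P = X ^ 2 + Polynomial.C (φ b) * X + Polynomial.C (φ a)) :
    Iso (mroot P) (Matrix.toLin' ((companion ![a, b]).map φ)) := by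
  rw [map_companion]
  subst hP
  refine iso_companion (by monicity!) (by compute_degree!) _ fun i => ?_
  fin_cases i <;> simp [coeff_X_pow, coeff_X]

theorem iso_three {P : F[X]} (a b c : R)
    (hP : P = X ^ 3 + Polynomial.C (φ c) * X ^ 2 + Polynomial.C (φ b) * X + Polynomial.C (φ a)) :
    Iso (mroot P) (Matrix.toLin' ((companion ![a, b, c]).map φ)) := by
  rw [map_companion]
  subst hP
  refine iso_companion (by monicity!) (by compute_degree!) _ fun i => ?_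
  fin_cases i <;> simp [coeff_X_pow, coeff_X]

theorem iso_four {P : F[X]} (a b c d : R)
    (hP : P = X ^ 4 + Polynomial.C (φ d) * X ^ 3 + Polynomial.C (φ c) * X ^ 2 + Polynomial.C (φ b) * X + Polynomial.C (φ a)) :
    Iso (mroot P) (Matrix.toLin' ((companion ![a, b, c, d]).map φ)) := by
  rw [map_companion]
  subst hP
  refine iso_companion (by monicity!) (by compute_degree!) _ fun i => ?_
  fin_cases i <;> simp [coeff_X_pow, coeff_X]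


theorem e_J {φ : ZMod 2 →+* F} (hc : ((2 : ℕ) : F) = 0) : (X - Polynomial.C (1:F)) ^ 2 = X ^ 2 + Polynomial.C (φ 0) * X + Polynomial.C (φ 1) := by
  have h : (2 : F[X]) = 0 := by rw [← map_ofNat Polynomial.C, ← Nat.cast_ofNat, hc, map_zero]
  simp only [map_zero, map_one, map_ofNat, map_neg, zero_mul, add_zero]
  all_goals linear_combination (-X) * h

theorem e_Q {φ : ZMod 2 →+* F} (hc : ((2 : ℕ) : F) = 0) : (X ^ 2 + X + 1 : F[X]) = X ^ 2 + Polynomial.C (φ 1) * X + Polynomial.C (φ 1) := by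
  have h : (2 : F[X]) = 0 := by rw [← map_ofNat Polynomial.C, ← Nat.cast_ofNat, hc, map_zero]
  simp only [map_zero, map_one, map_ofNat, map_neg, zero_mul, add_zero]
  all_goals linear_combination (0) * h

theorem e_J3 {φ : ZMod 2 →+* F} (hc : ((2 : ℕ) : F) = 0) : (X - Polynomial.C (1:F)) ^ 3 = X ^ 3 + Polynomial.C (φ 1) * X ^ 2 + Polynomial.C (φ 1) * X + Polynomial.C (φ 1) := by
  have h : (2 : F[X]) = 0 := by rw [← map_ofNat Polynomial.C, ← Nat.cast_ofNat, hc, map_zero]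
  simp only [map_zero, map_one, map_ofNat, map_neg, zero_mul, add_zero]
  all_goals linear_combination (-2 * X ^ 2 + X - 1) * h

theorem e_J4 {φ : ZMod 2 →+* F} (hc : ((2 : ℕ) : F) = 0) : (X - Polynomial.C (1:F)) ^ 4 = X ^ 4 + Polynomial.C (φ 0) * X ^ 3 + Polynomial.C (φ 0) * X ^ 2 + Polynomial.C (φ 0) * X + Polynomial.C (φ 1) := by
  have h : (2 : F[X]) = 0 := by rw [← map_ofNat Polynomial.C, ← Nat.cast_ofNat, hc, map_zero]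
  simp only [map_zero, map_one, map_ofNat, map_neg, zero_mul, add_zero]
  all_goals linear_combination (-2 * X ^ 3 + 3 * X ^ 2 - 2 * X) * h

theorem e_p12 {φ : ZMod 2 →+* F} (hc : ((2 : ℕ) : F) = 0) : (X - Polynomial.C (1:F)) = X + Polynomial.C (φ 1) := by
  have h : (2 : F[X]) = 0 := by rw [← map_ofNat Polynomial.C, ← Nat.cast_ofNat, hc, map_zero]
  simp only [map_zero, map_one, map_ofNat, map_neg, zero_mul, add_zero]
  all_goals linear_combination (-1) * h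

theorem e_p13 {φ : ZMod 3 →+* F} (hc : ((3 : ℕ) : F) = 0) : (X - Polynomial.C (1:F)) = X + Polynomial.C (φ 2) := by
  have h : (3 : F[X]) = 0 := by rw [← map_ofNat Polynomial.C, ← Nat.cast_ofNat, hc, map_zero]
  simp only [map_zero, map_one, map_ofNat, map_neg, zero_mul, add_zero]
  all_goals linear_combination (-1) * h

theorem e_Jp {φ : ZMod 3 →+* F} (hc : ((3 : ℕ) : F) = 0) : (X - Polynomial.C (1:F)) ^ 2 = X ^ 2 + Polynomial.C (φ 1) * X + Polynomial.C (φ 1) := by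
  have h : (3 : F[X]) = 0 := by rw [← map_ofNat Polynomial.C, ← Nat.cast_ofNat, hc, map_zero]
  simp only [map_zero, map_one, map_ofNat, map_neg, zero_mul, add_zero]
  all_goals linear_combination (-X) * h

theorem e_Jm {φ : ZMod 3 →+* F} (hc : ((3 : ℕ) : F) = 0) : (X - Polynomial.C (-1:F)) ^ 2 = X ^ 2 + Polynomial.C (φ 2) * X + Polynomial.C (φ 1) := by
  have h : (3 : F[X]) = 0 := by rw [← map_ofNat Polynomial.C, ← Nat.cast_ofNat, hc, map_zero]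
  simp only [map_zero, map_one, map_ofNat, map_neg, zero_mul, add_zero]
  all_goals linear_combination (0) * h

theorem e_I {φ : ZMod 3 →+* F} (hc : ((3 : ℕ) : F) = 0) : (X ^ 2 + 1 : F[X]) = X ^ 2 + Polynomial.C (φ 0) * X + Polynomial.C (φ 1) := by
  have h : (3 : F[X]) = 0 := by rw [← map_ofNat Polynomial.C, ← Nat.cast_ofNat, hc, map_zero]
  simp only [map_zero, map_one, map_ofNat, map_neg, zero_mul, add_zero]
  all_goals linear_combination (0) * h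

theorem e_Zp {φ : ZMod 3 →+* F} (hc : ((3 : ℕ) : F) = 0) : (X ^ 2 + X - 1 : F[X]) = X ^ 2 + Polynomial.C (φ 1) * X + Polynomial.C (φ 2) := by
  have h : (3 : F[X]) = 0 := by rw [← map_ofNat Polynomial.C, ← Nat.cast_ofNat, hc, map_zero]
  simp only [map_zero, map_one, map_ofNat, map_neg, zero_mul, add_zero]
  all_goals linear_combination (-1) * h

theorem e_Zm {φ : ZMod 3 →+* F} (hc : ((3 : ℕ) : F) = 0) : (X ^ 2 - X - 1 : F[X]) = X ^ 2 + Polynomial.C (φ 2) * X + Polynomial.C (φ 2) := by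
  have h : (3 : F[X]) = 0 := by rw [← map_ofNat Polynomial.C, ← Nat.cast_ofNat, hc, map_zero]
  simp only [map_zero, map_one, map_ofNat, map_neg, zero_mul, add_zero]
  all_goals linear_combination (-X - 1) * h

theorem e_m1 {φ : ZMod 3 →+* F} (hc : ((3 : ℕ) : F) = 0) : (X - Polynomial.C (-1:F)) = X + Polynomial.C (φ 1) := by
  have h : (3 : F[X]) = 0 := by rw [← map_ofNat Polynomial.C, ← Nat.cast_ofNat, hc, map_zero]
  simp only [map_zero, map_one, map_ofNat, map_neg, zero_mul, add_zero]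
  all_goals linear_combination (0) * h

theorem two_J2 (h2 : Fintype.card F = 2) :
    Comm (((mroot ((X - Polynomial.C (1:F)) ^ 2))).prodMap (mroot ((X - Polynomial.C (1:F)) ^ 2))) := by
  obtain ⟨φ, hc⟩ := exists_hom (F := F) (by norm_num : Nat.Prime 2) h2
  have := finite_adjoinRoot (p := (X - Polynomial.C (1:F)) ^ 2) ((monic_X_sub_C _).pow _)
  have hiso := (iso_blocks (iso_two φ (1 : ZMod 2) 0 (e_J hc)) (iso_two φ (1 : ZMod 2) 0 (e_J hc)))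
  rw [← map_blocks] at hiso
  let B : Matrix (Fin 4) (Fin 4) (ZMod 2) := !![1, 1, 1, 0; 0, 1, 1, 1; 0, 0, 0, 1; 0, 0, 1, 1]
  let X : Matrix (Fin 4) (Fin 4) (ZMod 2) := !![1, 1, 1, 1; 0, 0, 1, 1; 1, 1, 1, 0; 0, 1, 1, 0]
  exact hiso.symm.comm (comm_of_witness φ (M := (blocks (companion ![1, 0] : Matrix (Fin 2) (Fin 2) (ZMod 2)) (companion ![1, 0] : Matrix (Fin 2) (Fin 2) (ZMod 2)))) (B := B) (X := X) (by decide +kernel) (det_one_of_card_two φ h2 (B := B) (B' := (!![1, 1, 1, 0; 0, 1, 0, 1; 0, 0, 1, 1; 0, 0, 1, 0] : Matrix (Fin 4) (Fin 4) (ZMod 2))) (by decide +kernel)) (det_one_of_card_two φ h2 (B := X) (B' := (!![0, 0, 1, 1; 1, 1, 1, 1; 1, 1, 1, 0; 1, 0, 1, 0] : Matrix (Fin 4) (Fin 4) (ZMod 2))) (by decide +kernel)))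

theorem two_J2_quartic (h2 : Fintype.card F = 2) :
    CommW (((mroot ((X - Polynomial.C (1:F)) ^ 2))).prodMap (mroot ((X - Polynomial.C (1:F)) ^ 2))) (X ^ 4 + X + 1 : F[X]) := by
  obtain ⟨φ, hc⟩ := exists_hom (F := F) (by norm_num : Nat.Prime 2) h2
  have := finite_adjoinRoot (p := (X - Polynomial.C (1:F)) ^ 2) ((monic_X_sub_C _).pow _)
  have hiso := (iso_blocks (iso_two φ (1 : ZMod 2) 0 (e_J hc)) (iso_two φ (1 : ZMod 2) 0 (e_J hc)))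
  rw [← map_blocks] at hiso
  let B : Matrix (Fin 4) (Fin 4) (ZMod 2) := !![1, 1, 1, 0; 0, 0, 0, 1; 1, 1, 0, 1; 1, 0, 0, 1]
  let X : Matrix (Fin 4) (Fin 4) (ZMod 2) := !![1, 1, 0, 1; 0, 1, 1, 1; 1, 1, 1, 1; 0, 1, 1, 0]
  have hW := map_eval4 φ (B := B) (c0 := 1) (c1 := 1) (c2 := 0) (by decide +kernel)
  have h : CommW (Matrix.toLin' (((blocks (companion ![1, 0] : Matrix (Fin 2) (Fin 2) (ZMod 2)) (companion ![1, 0] : Matrix (Fin 2) (Fin 2) (ZMod 2)))).map φ)) _ := commW_of_witness φ (B := B) (X := X) (by decide +kernel) (det_one_of_card_two φ h2 (B := B) (B' := (!![0, 1, 0, 1; 0, 0, 1, 1; 1, 1, 1, 0; 0, 1, 0, 0] : Matrix (Fin 4) (Fin 4) (ZMod 2))) (by decide +kernel)) (det_one_of_card_two φ h2 (B := X) (B' := (!![0, 1, 1, 0; 1, 0, 1, 1; 1, 0, 1, 0; 0, 1, 0, 1] : Matrix (Fin 4) (Fin 4) (ZMod 2))) (by decide +kernel)) hW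
  convert hiso.symm.commW h using 1
  norm_num
  all_goals first | rfl | ring1

theorem two_J2_square (h2 : Fintype.card F = 2) :
    CommW (((mroot ((X - Polynomial.C (1:F)) ^ 2))).prodMap (mroot ((X - Polynomial.C (1:F)) ^ 2))) (X ^ 4 + X ^ 2 + 1 : F[X]) := by
  obtain ⟨φ, hc⟩ := exists_hom (F := F) (by norm_num : Nat.Prime 2) h2
  have := finite_adjoinRoot (p := (X - Polynomial.C (1:F)) ^ 2) ((monic_X_sub_C _).pow _)
  have hiso := (iso_blocks (iso_two φ (1 : ZMod 2) 0 (e_J hc)) (iso_two φ (1 : ZMod 2) 0 (e_J hc)))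
  rw [← map_blocks] at hiso
  let B : Matrix (Fin 4) (Fin 4) (ZMod 2) := !![0, 1, 1, 0; 1, 1, 1, 1; 1, 0, 1, 0; 1, 0, 0, 0]
  let X : Matrix (Fin 4) (Fin 4) (ZMod 2) := !![0, 1, 0, 1; 1, 0, 1, 0; 0, 1, 1, 0; 1, 1, 1, 0]
  have hW := map_eval4 φ (B := B) (c0 := 1) (c1 := 0) (c2 := 1) (by decide +kernel)
  have h : CommW (Matrix.toLin' (((blocks (companion ![1, 0] : Matrix (Fin 2) (Fin 2) (ZMod 2)) (companion ![1, 0] : Matrix (Fin 2) (Fin 2) (ZMod 2)))).map φ)) _ := commW_of_witness φ (B := B) (X := X) (by decide +kernel) (det_one_of_card_two φ h2 (B := B) (B' := (!![0, 0, 0, 1; 1, 0, 1, 1; 0, 0, 1, 1; 1, 1, 0, 1] : Matrix (Fin 4) (Fin 4) (ZMod 2))) (by decide +kernel)) (det_one_of_card_two φ h2 (B := X) (B' := (!![0, 0, 1, 1; 0, 1, 0, 1; 0, 1, 1, 1; 1, 1, 0, 1] : Matrix (Fin 4) (Fin 4) (ZMod 2))) (by decide +kernel)) hW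
  convert hiso.symm.commW h using 1
  norm_num
  all_goals first | rfl | ring1

theorem two_J2_three (h2 : Fintype.card F = 2) :
    Comm (((((mroot ((X - Polynomial.C (1:F)) ^ 2))).prodMap (mroot ((X - Polynomial.C (1:F)) ^ 2)))).prodMap (mroot ((X - Polynomial.C (1:F)) ^ 2))) := by
  obtain ⟨φ, hc⟩ := exists_hom (F := F) (by norm_num : Nat.Prime 2) h2
  have := finite_adjoinRoot (p := (X - Polynomial.C (1:F)) ^ 2) ((monic_X_sub_C _).pow _)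
  have hiso := (iso_blocks (iso_blocks (iso_two φ (1 : ZMod 2) 0 (e_J hc)) (iso_two φ (1 : ZMod 2) 0 (e_J hc))) (iso_two φ (1 : ZMod 2) 0 (e_J hc)))
  rw [← map_blocks, ← map_blocks] at hiso
  let B : Matrix (Fin 6) (Fin 6) (ZMod 2) := !![0, 0, 0, 0, 1, 1; 0, 1, 0, 1, 1, 0; 1, 0, 1, 1, 0, 1; 1, 0, 1, 0, 1, 0; 1, 1, 0, 1, 1, 0; 0, 1, 1, 0, 1, 0]
  let X : Matrix (Fin 6) (Fin 6) (ZMod 2) := !![1, 0, 0, 1, 1, 0; 0, 0, 1, 0, 0, 1; 1, 0, 0, 1, 1, 1; 0, 1, 0, 0, 1, 0; 0, 0, 0, 1, 0, 0; 1, 1, 0, 0, 1, 1]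
  exact hiso.symm.comm (comm_of_witness φ (M := (blocks (blocks (companion ![1, 0] : Matrix (Fin 2) (Fin 2) (ZMod 2)) (companion ![1, 0] : Matrix (Fin 2) (Fin 2) (ZMod 2))) (companion ![1, 0] : Matrix (Fin 2) (Fin 2) (ZMod 2)))) (B := B) (X := X) (by decide +kernel) (det_one_of_card_two φ h2 (B := B) (B' := (!![0, 1, 0, 0, 1, 0; 0, 1, 0, 1, 1, 1; 1, 1, 1, 1, 0, 1; 1, 0, 1, 1, 0, 0; 1, 0, 1, 0, 1, 1; 0, 0, 1, 0, 1, 1] : Matrix (Fin 6) (Fin 6) (ZMod 2))) (by decide +kernel)) (det_one_of_card_two φ h2 (B := X) (B' := (!![1, 0, 1, 1, 0, 1; 0, 0, 1, 0, 1, 1; 1, 1, 1, 0, 0, 0; 0, 0, 0, 0, 1, 0; 0, 0, 1, 1, 1, 1; 1, 0, 1, 0, 0, 0] : Matrix (Fin 6) (Fin 6) (ZMod 2))) (by decide +kernel)))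

theorem two_Q (h2 : Fintype.card F = 2) :
    Comm (mroot ((X ^ 2 + X + 1 : F[X]))) := by
  obtain ⟨φ, hc⟩ := exists_hom (F := F) (by norm_num : Nat.Prime 2) h2
  have := finite_adjoinRoot (p := (X ^ 2 + X + 1 : F[X])) (by monicity!)
  have hiso := (iso_two φ (1 : ZMod 2) 1 (e_Q hc))
  let B : Matrix (Fin 2) (Fin 2) (ZMod 2) := !![0, 1; 1, 0]
  let X : Matrix (Fin 2) (Fin 2) (ZMod 2) := !![0, 1; 1, 1]
  exact hiso.symm.comm (comm_of_witness φ (M := (companion ![1, 1] : Matrix (Fin 2) (Fin 2) (ZMod 2))) (B := B) (X := X) (by decide +kernel) (det_one_of_card_two φ h2 (B := B) (B' := (!![0, 1; 1, 0] : Matrix (Fin 2) (Fin 2) (ZMod 2))) (by decide +kernel)) (det_one_of_card_two φ h2 (B := X) (B' := (!![1, 1; 1, 0] : Matrix (Fin 2) (Fin 2) (ZMod 2))) (by decide +kernel)))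

theorem two_J2_J3 (h2 : Fintype.card F = 2) :
    Comm (((mroot ((X - Polynomial.C (1:F)) ^ 2))).prodMap (mroot ((X - Polynomial.C (1:F)) ^ 3))) := by
  obtain ⟨φ, hc⟩ := exists_hom (F := F) (by norm_num : Nat.Prime 2) h2
  have := finite_adjoinRoot (p := (X - Polynomial.C (1:F)) ^ 2) ((monic_X_sub_C _).pow _)
  have := finite_adjoinRoot (p := (X - Polynomial.C (1:F)) ^ 3) ((monic_X_sub_C _).pow _)
  have hiso := (iso_blocks (iso_two φ (1 : ZMod 2) 0 (e_J hc)) (iso_three φ (1 : ZMod 2) 1 1 (e_J3 hc)))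
  rw [← map_blocks] at hiso
  let B : Matrix (Fin 5) (Fin 5) (ZMod 2) := !![1, 0, 0, 0, 0; 0, 1, 1, 0, 1; 1, 0, 0, 0, 1; 1, 1, 0, 0, 0; 1, 0, 0, 1, 0]
  let X : Matrix (Fin 5) (Fin 5) (ZMod 2) := !![1, 1, 1, 1, 1; 0, 1, 0, 0, 1; 0, 0, 1, 0, 1; 0, 1, 1, 1, 0; 0, 1, 0, 1, 0]
  exact hiso.symm.comm (comm_of_witness φ (M := (blocks (companion ![1, 0] : Matrix (Fin 2) (Fin 2) (ZMod 2)) (companion ![1, 1, 1] : Matrix (Fin 3) (Fin 3) (ZMod 2)))) (B := B) (X := X) (by decide +kernel) (det_one_of_card_two φ h2 (B := B) (B' := (!![1, 0, 0, 0, 0; 1, 0, 0, 1, 0; 0, 1, 1, 1, 0; 1, 0, 0, 0, 1; 1, 0, 1, 0, 0] : Matrix (Fin 5) (Fin 5) (ZMod 2))) (by decide +kernel)) (det_one_of_card_two φ h2 (B := X) (B' := (!![1, 0, 1, 0, 1; 0, 1, 1, 1, 1; 0, 0, 0, 1, 1; 0, 1, 1, 1, 0; 0, 0, 1, 1, 1] : Matrix (Fin 5) (Fin 5) (ZMod 2))) (by decide +kernel)))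

theorem two_J2_J4 (h2 : Fintype.card F = 2) :
    Comm (((mroot ((X - Polynomial.C (1:F)) ^ 2))).prodMap (mroot ((X - Polynomial.C (1:F)) ^ 4))) := by
  obtain ⟨φ, hc⟩ := exists_hom (F := F) (by norm_num : Nat.Prime 2) h2
  have := finite_adjoinRoot (p := (X - Polynomial.C (1:F)) ^ 2) ((monic_X_sub_C _).pow _)
  have := finite_adjoinRoot (p := (X - Polynomial.C (1:F)) ^ 4) ((monic_X_sub_C _).pow _)
  have hiso := (iso_blocks (iso_two φ (1 : ZMod 2) 0 (e_J hc)) (iso_four φ (1 : ZMod 2) 0 0 0 (e_J4 hc)))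
  rw [← map_blocks] at hiso
  let B : Matrix (Fin 6) (Fin 6) (ZMod 2) := !![1, 0, 0, 0, 1, 0; 1, 1, 0, 0, 0, 0; 0, 1, 0, 0, 0, 0; 1, 0, 1, 0, 0, 0; 1, 0, 1, 1, 0, 1; 0, 0, 0, 0, 0, 1]
  let X : Matrix (Fin 6) (Fin 6) (ZMod 2) := !![1, 0, 1, 1, 1, 1; 0, 1, 1, 0, 0, 1; 0, 0, 0, 0, 1, 1; 1, 1, 1, 1, 1, 0; 0, 0, 1, 1, 1, 0; 0, 1, 0, 1, 0, 1]
  exact hiso.symm.comm (comm_of_witness φ (M := (blocks (companion ![1, 0] : Matrix (Fin 2) (Fin 2) (ZMod 2)) (companion ![1, 0, 0, 0] : Matrix (Fin 4) (Fin 4) (ZMod 2)))) (B := B) (X := X) (by decide +kernel) (det_one_of_card_two φ h2 (B := B) (B' := (!![0, 1, 1, 0, 0, 0; 0, 0, 1, 0, 0, 0; 0, 1, 1, 1, 0, 0; 0, 0, 0, 1, 1, 1; 1, 1, 1, 0, 0, 0; 0, 0, 0, 0, 0, 1] : Matrix (Fin 6) (Fin 6) (ZMod 2))) (by decide +kernel)) (det_one_of_card_two φ h2 (B := X) (B' := (!![1, 1, 1, 0, 0, 1; 1, 1, 1, 1, 1, 1; 1, 1, 0,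 1, 0, 0; 1, 0, 0, 1, 0, 1; 0, 1, 0, 0, 1, 1; 0, 1, 1, 0, 1, 1] : Matrix (Fin 6) (Fin 6) (ZMod 2))) (by decide +kernel)))

theorem two_J2_one (h2 : Fintype.card F = 2) :
    Comm (((mroot ((X - Polynomial.C (1:F)) ^ 2))).prodMap (mroot ((X - Polynomial.C (1:F))))) := by
  obtain ⟨φ, hc⟩ := exists_hom (F := F) (by norm_num : Nat.Prime 2) h2
  have := finite_adjoinRoot (p := (X - Polynomial.C (1:F)) ^ 2) ((monic_X_sub_C _).pow _)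
  have := finite_adjoinRoot (p := (X - Polynomial.C (1:F))) (monic_X_sub_C _)
  have hiso := (iso_blocks (iso_two φ (1 : ZMod 2) 0 (e_J hc)) (iso_one φ (1 : ZMod 2) (e_p12 hc)))
  rw [← map_blocks] at hiso
  let B : Matrix (Fin 3) (Fin 3) (ZMod 2) := !![0, 1, 0; 1, 0, 1; 1, 1, 0]
  let X : Matrix (Fin 3) (Fin 3) (ZMod 2) := !![0, 1, 0; 0, 1, 1; 1, 1, 1]
  exact hiso.symm.comm (comm_of_witness φ (M := (blocks (companion ![1, 0] : Matrix (Fin 2) (Fin 2) (ZMod 2)) (companion ![1] : Matrix (Fin 1) (Fin 1) (ZMod 2)))) (B := B) (X := X) (by decide +kernel) (det_one_of_card_two φ h2 (B := B) (B' := (!![1, 0, 1; 1, 0, 0; 1, 1, 1] : Matrix (Fin 3) (Fin 3) (ZMod 2))) (by decide +kernel)) (det_one_of_card_two φ h2 (B := X) (B' := (!![0, 1, 1; 1, 0, 0; 1, 1, 0] : Matrix (Fin 3) (Fin 3) (ZMod 2))) (by decide +kernel)))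

theorem three_Jp_one (h2 : Fintype.card F = 3) :
    Comm (((mroot ((X - Polynomial.C (1:F)) ^ 2))).prodMap (mroot ((X - Polynomial.C (1:F))))) := by
  obtain ⟨φ, hc⟩ := exists_hom (F := F) (by norm_num : Nat.Prime 3) h2
  have := finite_adjoinRoot (p := (X - Polynomial.C (1:F)) ^ 2) ((monic_X_sub_C _).pow _)
  have := finite_adjoinRoot (p := (X - Polynomial.C (1:F))) (monic_X_sub_C _)
  have hiso := (iso_blocks (iso_two φ (1 : ZMod 3) 1 (e_Jp hc)) (iso_one φ (2 : ZMod 3) (e_p13 hc)))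
  rw [← map_blocks] at hiso
  let Y : Matrix (Fin 3) (Fin 3) (ZMod 3) := !![2, 2, 1; 2, 2, 2; 1, 0, 0]
  let V : Matrix (Fin 3) (Fin 3) (ZMod 3) := !![2, 1, 0; 1, 0, 0; 2, 2, 1]
  let Z : Matrix (Fin 3) (Fin 3) (ZMod 3) := !![0, 2, 1; 1, 2, 0; 0, 1, 0]
  exact hiso.symm.comm (comm_of_witness φ (M := (blocks (companion ![1, 1] : Matrix (Fin 2) (Fin 2) (ZMod 3)) (companion ![2] : Matrix (Fin 1) (Fin 1) (ZMod 3)))) (B := (Y * Y)) (X := (V * V * (Z * Z))) (by decide +kernel) (det_sq_one_of_card_three φ h2 (Y := Y) (Y' := (!![0, 0, 1; 1, 1, 2; 2, 1, 0] : Matrix (Fin 3) (Fin 3) (ZMod 3))) (by decide +kernel)) (by rw [Matrix.map_mul, Matrix.det_mul, det_sq_one_of_card_three φ h2 (Y := V) (Y' := (!![0, 1, 0; 1, 1, 0; 1, 2, 1] : Matrix (Fin 3) (Fin 3) (ZMod 3))) (by decide +kernel), det_sq_one_of_card_three φ h2 (Y := Z) (Y' := (!![0, 1, 1; 0, 0,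 1; 1, 0, 1] : Matrix (Fin 3) (Fin 3) (ZMod 3))) (by decide +kernel), one_mul]))

theorem three_Jp (h2 : Fintype.card F = 3) :
    Comm (((mroot ((X - Polynomial.C (1:F)) ^ 2))).prodMap (mroot ((X - Polynomial.C (1:F)) ^ 2))) := by
  obtain ⟨φ, hc⟩ := exists_hom (F := F) (by norm_num : Nat.Prime 3) h2
  have := finite_adjoinRoot (p := (X - Polynomial.C (1:F)) ^ 2) ((monic_X_sub_C _).pow _)
  have hiso := (iso_blocks (iso_two φ (1 : ZMod 3) 1 (e_Jp hc)) (iso_two φ (1 : ZMod 3) 1 (e_Jp hc)))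
  rw [← map_blocks] at hiso
  let Y : Matrix (Fin 4) (Fin 4) (ZMod 3) := !![2, 1, 0, 1; 1, 1, 0, 1; 2, 1, 2, 2; 0, 2, 0, 0]
  let V : Matrix (Fin 4) (Fin 4) (ZMod 3) := !![1, 0, 0, 0; 0, 1, 0, 0; 0, 0, 1, 0; 0, 0, 0, 1]
  let Z : Matrix (Fin 4) (Fin 4) (ZMod 3) := !![1, 0, 0, 0; 0, 1, 0, 1; 1, 1, 2, 1; 2, 1, 1, 0]
  exact hiso.symm.comm (comm_of_witness φ (M := (blocks (companion ![1, 1] : Matrix (Fin 2) (Fin 2) (ZMod 3)) (companion ![1, 1] : Matrix (Fin 2) (Fin 2) (ZMod 3)))) (B := (Y * Y)) (X := (V * V * (Z * Z))) (by decide +kernel) (det_sq_one_of_card_three φ h2 (Y := Y) (Y' := (!![1, 2, 0, 0; 0, 0, 0, 2; 0, 2, 2, 1; 2, 2, 0, 1] : Matrix (Fin 4) (Fin 4) (ZMod 3))) (by decide +kernel)) (by rw [Matrix.map_mul, Matrix.det_mul, det_sq_one_of_card_three φ h2 (Y := V) (Y' := (!![1, 0, 0, 0; 0, 1, 0, 0; 0, 0, 1, 0; 0, 0, 0, 1] : Matrix (Fin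 4) (Fin 4) (ZMod 3))) (by decide +kernel), det_sq_one_of_card_three φ h2 (Y := Z) (Y' := (!![1, 0, 0, 0; 0, 2, 1, 1; 1, 1, 2, 0; 0, 2, 2, 2] : Matrix (Fin 4) (Fin 4) (ZMod 3))) (by decide +kernel), one_mul]))

theorem three_Jm (h2 : Fintype.card F = 3) :
    Comm (((mroot ((X - Polynomial.C (-1:F)) ^ 2))).prodMap (mroot ((X - Polynomial.C (-1:F)) ^ 2))) := by
  obtain ⟨φ, hc⟩ := exists_hom (F := F) (by norm_num : Nat.Prime 3) h2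
  have := finite_adjoinRoot (p := (X - Polynomial.C (-1:F)) ^ 2) ((monic_X_sub_C _).pow _)
  have hiso := (iso_blocks (iso_two φ (1 : ZMod 3) 2 (e_Jm hc)) (iso_two φ (1 : ZMod 3) 2 (e_Jm hc)))
  rw [← map_blocks] at hiso
  let Y : Matrix (Fin 4) (Fin 4) (ZMod 3) := !![1, 2, 0, 1; 2, 0, 1, 2; 1, 1, 0, 1; 2, 1, 0, 0]
  let V : Matrix (Fin 4) (Fin 4) (ZMod 3) := !![1, 0, 2, 1; 0, 2, 2, 1; 2, 1, 2, 2; 1, 2, 2, 1]
  let Z : Matrix (Fin 4) (Fin 4) (ZMod 3) := !![1, 2, 2, 2; 1, 0, 2, 1; 2, 2, 0, 1; 2, 1, 1, 0]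
  exact hiso.symm.comm (comm_of_witness φ (M := (blocks (companion ![1, 2] : Matrix (Fin 2) (Fin 2) (ZMod 3)) (companion ![1, 2] : Matrix (Fin 2) (Fin 2) (ZMod 3)))) (B := (Y * Y)) (X := (V * V * (Z * Z))) (by decide +kernel) (det_sq_one_of_card_three φ h2 (Y := Y) (Y' := (!![1, 0, 2, 2; 1, 0, 2, 0; 2, 1, 2, 0; 1, 0, 0, 1] : Matrix (Fin 4) (Fin 4) (ZMod 3))) (by decide +kernel)) (by rw [Matrix.map_mul, Matrix.det_mul, det_sq_one_of_card_three φ h2 (Y := V) (Y' := (!![0, 2, 0, 1; 1, 0, 0, 2; 0, 0, 1, 1; 1, 1, 1, 0] : Matrix (Fin 4) (Fin 4) (ZMod 3))) (by decide +kernel), det_sq_one_of_card_three φ h2 (Y := Z) (Y' := (!![1, 2, 2, 0; 1, 1, 0, 2; 0, 1, 2, 2; 2, 0, 0, 2] : Matrix (Fin 4) (Fin 4) (ZMod 3))) (by decide +kernel), one_mul]))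

theorem three_Jp_three (h2 : Fintype.card F = 3) :
    Comm (((((mroot ((X - Polynomial.C (1:F)) ^ 2))).prodMap (mroot ((X - Polynomial.C (1:F)) ^ 2)))).prodMap (mroot ((X - Polynomial.C (1:F)) ^ 2))) := by
  obtain ⟨φ, hc⟩ := exists_hom (F := F) (by norm_num : Nat.Prime 3) h2
  have := finite_adjoinRoot (p := (X - Polynomial.C (1:F)) ^ 2) ((monic_X_sub_C _).pow _)
  have hiso := (iso_blocks (iso_blocks (iso_two φ (1 : ZMod 3) 1 (e_Jp hc)) (iso_two φ (1 : ZMod 3) 1 (e_Jp hc))) (iso_two φ (1 : ZMod 3) 1 (e_Jp hc)))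
  rw [← map_blocks, ← map_blocks] at hiso
  let Y : Matrix (Fin 6) (Fin 6) (ZMod 3) := !![1, 2, 0, 2, 0, 1; 2, 0, 0, 0, 0, 0; 1, 0, 2, 1, 2, 1; 1, 2, 1, 1, 0, 2; 2, 1, 0, 2, 1, 0; 0, 2, 1, 2, 1, 1]
  let V : Matrix (Fin 6) (Fin 6) (ZMod 3) := !![2, 2, 0, 1, 1, 1; 1, 2, 0, 2, 2, 1; 2, 2, 1, 2, 0, 2; 2, 0, 0, 2, 1, 2; 1, 2, 1, 0, 2, 2; 2, 2, 0, 0, 2, 1]
  let Z : Matrix (Fin 6) (Fin 6) (ZMod 3) := !![2, 0, 0, 0, 1, 0; 0, 1, 1, 0, 0, 0; 1, 2, 2, 1, 1, 0; 0, 0, 2, 1, 2, 2; 1, 0, 1, 1, 0, 0; 1, 0, 0, 0, 1, 0]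
  exact hiso.symm.comm (comm_of_witness φ (M := (blocks (blocks (companion ![1, 1] : Matrix (Fin 2) (Fin 2) (ZMod 3)) (companion ![1, 1] : Matrix (Fin 2) (Fin 2) (ZMod 3))) (companion ![1, 1] : Matrix (Fin 2) (Fin 2) (ZMod 3)))) (B := (Y * Y)) (X := (V * V * (Z * Z))) (by decide +kernel) (det_sq_one_of_card_three φ h2 (Y := Y) (Y' := (!![0, 2, 0, 0, 0, 0; 1, 0, 2, 1, 1, 1; 0, 2, 1, 0, 2, 2; 0, 1, 1, 1, 1, 0; 2, 0, 2, 0, 1, 2; 2, 2, 0, 2, 2, 1] : Matrix (Fin 6) (Fin 6) (ZMod 3))) (by decide +kernel)) (by rw [Matrix.map_mul, Matrix.det_mul, det_sq_one_of_card_three φ h2 (Y := V) (Y' := (!![1, 0, 1, 0, 2, 2; 2, 1, 2, 2, 1, 2; 0, 0, 2, 1, 2, 2; 2, 2, 2, 0, 1, 2; 1, 2, 2, 0, 1, 0; 1, 0, 2, 2, 1, 2] : Matrix (Fin 6) (Fin 6) (ZMod 3))) (by decide +kernel), det_sq_one_of_card_three φ h2 (Y := Z) (Y' := (!![1, 0, 0, 0, 0, 2; 1, 2, 1, 0, 2, 1; 2, 2,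 2, 0, 1, 2; 0, 1, 1, 0, 0, 2; 2, 0, 0, 0, 0, 2; 2, 2, 2, 2, 2, 1] : Matrix (Fin 6) (Fin 6) (ZMod 3))) (by decide +kernel), one_mul]))

theorem three_Jm_three (h2 : Fintype.card F = 3) :
    Comm (((((mroot ((X - Polynomial.C (-1:F)) ^ 2))).prodMap (mroot ((X - Polynomial.C (-1:F)) ^ 2)))).prodMap (mroot ((X - Polynomial.C (-1:F)) ^ 2))) := by
  obtain ⟨φ, hc⟩ := exists_hom (F := F) (by norm_num : Nat.Prime 3) h2
  have := finite_adjoinRoot (p := (X - Polynomial.C (-1:F)) ^ 2) ((monic_X_sub_C _).pow _)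
  have hiso := (iso_blocks (iso_blocks (iso_two φ (1 : ZMod 3) 2 (e_Jm hc)) (iso_two φ (1 : ZMod 3) 2 (e_Jm hc))) (iso_two φ (1 : ZMod 3) 2 (e_Jm hc)))
  rw [← map_blocks, ← map_blocks] at hiso
  let Y : Matrix (Fin 6) (Fin 6) (ZMod 3) := !![2, 2, 1, 2, 0, 1; 0, 0, 0, 1, 2, 0; 2, 2, 1, 0, 0, 0; 0, 2, 0, 1, 2, 1; 1, 0, 2, 1, 0, 1; 0, 1, 2, 1, 1, 1]
  let V : Matrix (Fin 6) (Fin 6) (ZMod 3) := !![2, 1, 2, 1, 2, 1; 2, 2, 2, 0, 0, 2; 1, 0, 1, 0, 1, 1; 1, 1, 2, 2, 0, 0; 0, 1, 2, 0, 0, 0; 0, 1, 1, 1, 2, 1]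
  let Z : Matrix (Fin 6) (Fin 6) (ZMod 3) := !![0, 0, 2, 0, 1, 0; 1, 0, 2, 1, 0, 1; 2, 1, 2, 2, 0, 1; 1, 0, 1, 0, 2, 0; 0, 2, 1, 1, 1, 1; 1, 0, 2, 2, 2, 0]
  exact hiso.symm.comm (comm_of_witness φ (M := (blocks (blocks (companion ![1, 2] : Matrix (Fin 2) (Fin 2) (ZMod 3)) (companion ![1, 2] : Matrix (Fin 2) (Fin 2) (ZMod 3))) (companion ![1, 2] : Matrix (Fin 2) (Fin 2) (ZMod 3)))) (B := (Y * Y)) (X := (V * V * (Z * Z))) (by decide +kernel) (det_sq_one_of_card_three φ h2 (Y := Y) (Y' := (!![1, 2, 1, 0, 0, 2; 1, 2, 0, 1, 1, 0; 2, 1, 2, 1, 1, 2; 0, 1, 1, 2, 1, 0; 0, 0, 1, 2, 1, 0; 1, 1, 0, 2, 1, 0] : Matrix (Fin 6) (Fin 6) (ZMod 3))) (by decide +kernel)) (by rw [Matrix.map_mul, Matrix.det_mul, det_sq_one_of_card_three φ h2 (Y := V) (Y' := (!![2, 1, 2, 2, 0, 0; 0, 1, 2, 2, 1, 2; 0, 1, 2, 2, 0, 2; 2, 1, 2, 1, 1, 0; 0, 2, 0, 2, 1, 2; 1, 2, 0,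 0, 2, 2] : Matrix (Fin 6) (Fin 6) (ZMod 3))) (by decide +kernel), det_sq_one_of_card_three φ h2 (Y := Z) (Y' := (!![1, 0, 0, 1, 0, 0; 0, 1, 0, 2, 2, 0; 2, 1, 1, 2, 1, 1; 2, 1, 1, 0, 1, 0; 0, 1, 1, 2, 1, 1; 2, 1, 0, 1, 0, 1] : Matrix (Fin 6) (Fin 6) (ZMod 3))) (by decide +kernel), one_mul]))

theorem three_Jm_tail (h2 : Fintype.card F = 3) :
    Comm (((((mroot ((X - Polynomial.C (-1:F)) ^ 2))).prodMap (mroot ((X - Polynomial.C (-1:F)))))).prodMap (mroot ((X - Polynomial.C (-1:F))))) := by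
  obtain ⟨φ, hc⟩ := exists_hom (F := F) (by norm_num : Nat.Prime 3) h2
  have := finite_adjoinRoot (p := (X - Polynomial.C (-1:F)) ^ 2) ((monic_X_sub_C _).pow _)
  have := finite_adjoinRoot (p := (X - Polynomial.C (-1:F))) (monic_X_sub_C _)
  have hiso := (iso_blocks (iso_blocks (iso_two φ (1 : ZMod 3) 2 (e_Jm hc)) (iso_one φ (1 : ZMod 3) (e_m1 hc))) (iso_one φ (1 : ZMod 3) (e_m1 hc)))
  rw [← map_blocks, ← map_blocks] at hiso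
  let Y : Matrix (Fin 4) (Fin 4) (ZMod 3) := !![0, 1, 0, 2; 0, 1, 0, 1; 2, 2, 1, 0; 1, 0, 1, 2]
  let V : Matrix (Fin 4) (Fin 4) (ZMod 3) := !![1, 0, 0, 0; 0, 1, 0, 0; 0, 0, 1, 0; 0, 0, 0, 1]
  let Z : Matrix (Fin 4) (Fin 4) (ZMod 3) := !![2, 2, 2, 0; 1, 2, 1, 1; 1, 0, 2, 0; 1, 0, 0, 0]
  exact hiso.symm.comm (comm_of_witness φ (M := (blocks (blocks (companion ![1, 2] : Matrix (Fin 2) (Fin 2) (ZMod 3)) (companion ![1] : Matrix (Fin 1) (Fin 1) (ZMod 3))) (companion ![1] : Matrix (Fin 1) (Fin 1) (ZMod 3)))) (B := (Y * Y)) (X := (V * V * (Z * Z))) (by decide +kernel) (det_sq_one_of_card_three φ h2 (Y := Y) (Y' := (!![1, 0, 1, 2; 2, 2, 0, 0; 0, 2, 2, 2; 1, 2, 0, 0] : Matrix (Fin 4) (Fin 4) (ZMod 3))) (by decide +kernel)) (by rw [Matrix.map_mul, Matrix.det_mul, det_sq_one_of_card_three φ h2 (Y := V) (Y' := (!![1, 0, 0, 0; 0, 1, 0, 0; 0, 0, 1,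 0; 0, 0, 0, 1] : Matrix (Fin 4) (Fin 4) (ZMod 3))) (by decide +kernel), det_sq_one_of_card_three φ h2 (Y := Z) (Y' := (!![0, 0, 0, 1; 2, 0, 1, 1; 0, 0, 2, 1; 2, 1, 2, 2] : Matrix (Fin 4) (Fin 4) (ZMod 3))) (by decide +kernel), one_mul]))

theorem three_I (h2 : Fintype.card F = 3) :
    Comm (mroot ((X ^ 2 + 1 : F[X]))) := by
  obtain ⟨φ, hc⟩ := exists_hom (F := F) (by norm_num : Nat.Prime 3) h2
  have := finite_adjoinRoot (p := (X ^ 2 + 1 : F[X])) (by monicity!)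
  have hiso := (iso_two φ (1 : ZMod 3) 0 (e_I hc))
  let Y : Matrix (Fin 2) (Fin 2) (ZMod 3) := !![2, 1; 0, 2]
  let V : Matrix (Fin 2) (Fin 2) (ZMod 3) := !![1, 0; 0, 1]
  let Z : Matrix (Fin 2) (Fin 2) (ZMod 3) := !![0, 2; 1, 2]
  exact hiso.symm.comm (comm_of_witness φ (M := (companion ![1, 0] : Matrix (Fin 2) (Fin 2) (ZMod 3))) (B := (Y * Y)) (X := (V * V * (Z * Z))) (by decide +kernel) (det_sq_one_of_card_three φ h2 (Y := Y) (Y' := (!![2, 2; 0, 2] : Matrix (Fin 2) (Fin 2) (ZMod 3))) (by decide +kernel)) (by rw [Matrix.map_mul, Matrix.det_mul, det_sq_one_of_card_three φ h2 (Y := V) (Y' := (!![1, 0; 0, 1] : Matrix (Fin 2) (Fin 2) (ZMod 3))) (by decide +kernel), det_sq_one_of_card_three φ h2 (Y := Z) (Y' := (!![2, 1; 2, 0] : Matrix (Fin 2) (Fin 2) (ZMod 3))) (by decide +kernel), one_mul]))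

theorem three_Zp (h2 : Fintype.card F = 3) :
    CommW (((mroot ((X ^ 2 + X - 1 : F[X])))).prodMap (mroot ((X ^ 2 + X - 1 : F[X])))) (X ^ 4 - X ^ 2 + 1 : F[X]) := by
  obtain ⟨φ, hc⟩ := exists_hom (F := F) (by norm_num : Nat.Prime 3) h2
  have := finite_adjoinRoot (p := (X ^ 2 + X - 1 : F[X])) (by monicity!)
  have hiso := (iso_blocks (iso_two φ (2 : ZMod 3) 1 (e_Zp hc)) (iso_two φ (2 : ZMod 3) 1 (e_Zp hc)))
  rw [← map_blocks] at hiso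
  let Y : Matrix (Fin 4) (Fin 4) (ZMod 3) := !![1, 2, 2, 1; 2, 0, 1, 1; 1, 1, 0, 0; 1, 2, 1, 0]
  let V : Matrix (Fin 4) (Fin 4) (ZMod 3) := !![2, 0, 1, 0; 1, 1, 1, 0; 1, 0, 1, 2; 2, 0, 1, 2]
  let Z : Matrix (Fin 4) (Fin 4) (ZMod 3) := !![1, 0, 0, 0; 2, 2, 2, 0; 2, 2, 1, 2; 0, 2, 0, 2]
  have hW := map_eval4 φ (B := (Y * Y)) (c0 := 1) (c1 := 0) (c2 := 2) (by decide +kernel)
  have h : CommW (Matrix.toLin' (((blocks (companion ![2, 1] : Matrix (Fin 2) (Fin 2) (ZMod 3)) (companion ![2, 1] : Matrix (Fin 2) (Fin 2) (ZMod 3)))).map φ)) _ := commW_of_witness φ (B := (Y * Y)) (X := (V * V * (Z * Z))) (by decide +kernel) (det_sq_one_of_card_three φ h2 (Y := Y) (Y' := (!![1, 2, 0, 2; 2, 1, 1, 1; 1, 2, 1, 0; 0, 1, 2, 2] : Matrix (Fin 4) (Fin 4) (ZMod 3))) (by decide +kernel)) (by rw [Matrix.map_mul, Matrix.det_mul, det_sq_one_of_card_three φ h2 (Y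 := V) (Y' := (!![0, 0, 2, 1; 2, 1, 2, 1; 1, 0, 2, 1; 1, 0, 0, 2] : Matrix (Fin 4) (Fin 4) (ZMod 3))) (by decide +kernel), det_sq_one_of_card_three φ h2 (Y := Z) (Y' := (!![1, 0, 0, 0; 1, 2, 2, 1; 1, 0, 1, 2; 2, 1, 1, 1] : Matrix (Fin 4) (Fin 4) (ZMod 3))) (by decide +kernel), one_mul]) hW
  convert hiso.symm.commW h using 1
  have e2 : φ (2 : ZMod 3) = -1 := by rw [show (2 : ZMod 3) = -1 from rfl, map_neg, map_one]
  rw [e2]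
  norm_num
  all_goals first | rfl | ring1

theorem three_Zm (h2 : Fintype.card F = 3) :
    CommW (((mroot ((X ^ 2 - X - 1 : F[X])))).prodMap (mroot ((X ^ 2 - X - 1 : F[X])))) (X ^ 4 - X ^ 2 + 1 : F[X]) := by
  obtain ⟨φ, hc⟩ := exists_hom (F := F) (by norm_num : Nat.Prime 3) h2
  have := finite_adjoinRoot (p := (X ^ 2 - X - 1 : F[X])) (by monicity!)
  have hiso := (iso_blocks (iso_two φ (2 : ZMod 3) 2 (e_Zm hc)) (iso_two φ (2 : ZMod 3) 2 (e_Zm hc)))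
  rw [← map_blocks] at hiso
  let Y : Matrix (Fin 4) (Fin 4) (ZMod 3) := !![2, 2, 0, 2; 1, 0, 0, 0; 2, 0, 1, 0; 2, 0, 2, 1]
  let V : Matrix (Fin 4) (Fin 4) (ZMod 3) := !![1, 1, 1, 2; 1, 0, 0, 2; 0, 0, 1, 1; 1, 0, 0, 0]
  let Z : Matrix (Fin 4) (Fin 4) (ZMod 3) := !![2, 1, 0, 2; 0, 0, 2, 0; 2, 1, 0, 0; 2, 2, 0, 1]
  have hW := map_eval4 φ (B := (Y * Y)) (c0 := 1) (c1 := 0) (c2 := 2) (by decide +kernel)
  have h : CommW (Matrix.toLin' (((blocks (companion ![2, 2] : Matrix (Fin 2) (Fin 2) (ZMod 3)) (companion ![2, 2] : Matrix (Fin 2) (Fin 2) (ZMod 3)))).map φ)) _ := commW_of_witness φ (B := (Y * Y)) (X := (V * V * (Z * Z))) (by decide +kernel) (det_sq_one_of_card_three φ h2 (Y := Y) (Y' := (!![0, 1, 0, 0; 2, 0, 2, 2; 0, 1, 1, 0; 0, 2, 1, 1] : Matrix (Fin 4) (Fin 4) (ZMod 3))) (by decide +kernel)) (by rw [Matrix.map_mul, Matrix.det_mul, det_sq_one_of_card_three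 φ h2 (Y := V) (Y' := (!![0, 0, 0, 1; 1, 1, 2, 1; 0, 1, 1, 2; 0, 2, 0, 1] : Matrix (Fin 4) (Fin 4) (ZMod 3))) (by decide +kernel), det_sq_one_of_card_three φ h2 (Y := Z) (Y' := (!![1, 0, 0, 1; 1, 0, 1, 1; 0, 2, 0, 0; 2, 0, 1, 0] : Matrix (Fin 4) (Fin 4) (ZMod 3))) (by decide +kernel), one_mul]) hW
  convert hiso.symm.commW h using 1
  have e2 : φ (2 : ZMod 3) = -1 := by rw [show (2 : ZMod 3) = -1 from rfl, map_neg, map_one]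
  rw [e2]
  norm_num
  all_goals first | rfl | ring1

theorem three_Zp_Jp (h2 : Fintype.card F = 3) :
    Comm (((((mroot ((X ^ 2 + X - 1 : F[X])))).prodMap (mroot ((X ^ 2 + X - 1 : F[X]))))).prodMap (mroot ((X - Polynomial.C (1:F)) ^ 2))) := by
  obtain ⟨φ, hc⟩ := exists_hom (F := F) (by norm_num : Nat.Prime 3) h2
  have := finite_adjoinRoot (p := (X ^ 2 + X - 1 : F[X])) (by monicity!)
  have := finite_adjoinRoot (p := (X - Polynomial.C (1:F)) ^ 2) ((monic_X_sub_C _).pow _)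
  have hiso := (iso_blocks (iso_blocks (iso_two φ (2 : ZMod 3) 1 (e_Zp hc)) (iso_two φ (2 : ZMod 3) 1 (e_Zp hc))) (iso_two φ (1 : ZMod 3) 1 (e_Jp hc)))
  rw [← map_blocks, ← map_blocks] at hiso
  let Y : Matrix (Fin 6) (Fin 6) (ZMod 3) := !![1, 2, 2, 1, 1, 0; 0, 0, 1, 0, 1, 1; 0, 1, 1, 1, 1, 2; 2, 1, 2, 0, 1, 2; 2, 0, 2, 1, 2, 0; 2, 2, 2, 0, 1, 1]
  let V : Matrix (Fin 6) (Fin 6) (ZMod 3) := !![1, 0, 0, 0, 0, 0; 0, 1, 0, 0, 0, 0; 0, 0, 1, 0, 0, 0; 0, 0, 0, 1, 0, 0; 0, 0, 0, 0, 1, 0; 0, 0, 0, 0, 0, 1]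
  let Z : Matrix (Fin 6) (Fin 6) (ZMod 3) := !![0, 2, 0, 1, 1, 0; 0, 1, 2, 0, 1, 2; 2, 0, 2, 2, 1, 1; 0, 1, 2, 2, 2, 2; 1, 2, 0, 1, 2, 0; 2, 1, 1, 0, 1, 1]
  exact hiso.symm.comm (comm_of_witness φ (M := (blocks (blocks (companion ![2, 1] : Matrix (Fin 2) (Fin 2) (ZMod 3)) (companion ![2, 1] : Matrix (Fin 2) (Fin 2) (ZMod 3))) (companion ![1, 1] : Matrix (Fin 2) (Fin 2) (ZMod 3)))) (B := (Y * Y)) (X := (V * V * (Z * Z))) (by decide +kernel) (det_sq_one_of_card_three φ h2 (Y := Y) (Y' := (!![2, 2, 1, 1, 0, 0; 1, 2, 0, 2, 2, 0; 0, 0, 1, 0, 2, 1; 1, 1, 1, 1, 2, 1; 2, 2, 2, 0, 2, 0; 1, 2, 0, 0, 2, 2] : Matrix (Fin 6) (Fin 6) (ZMod 3))) (by decide +kernel)) (by rw [Matrix.map_mul, Matrix.det_mul, det_sq_one_of_card_three φ h2 (Y := V) (Y' := (!![1, 0, 0, 0, 0, 0; 0, 1, 0, 0, 0, 0; 0, 0, 1, 0, 0, 0; 0, 0, 0, 1, 0, 0; 0, 0, 0, 0, 1, 0; 0, 0, 0,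 0, 0, 1] : Matrix (Fin 6) (Fin 6) (ZMod 3))) (by decide +kernel), det_sq_one_of_card_three φ h2 (Y := Z) (Y' := (!![1, 1, 0, 1, 0, 2; 1, 2, 0, 0, 2, 2; 2, 2, 1, 1, 0, 2; 1, 0, 0, 1, 1, 1; 1, 2, 0, 2, 1, 1; 0, 1, 2, 1, 0, 1] : Matrix (Fin 6) (Fin 6) (ZMod 3))) (by decide +kernel), one_mul]))

theorem three_Zp_Jm (h2 : Fintype.card F = 3) :
    Comm (((((mroot ((X ^ 2 + X - 1 : F[X])))).prodMap (mroot ((X ^ 2 + X - 1 : F[X]))))).prodMap (mroot ((X - Polynomial.C (-1:F)) ^ 2))) := by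
  obtain ⟨φ, hc⟩ := exists_hom (F := F) (by norm_num : Nat.Prime 3) h2
  have := finite_adjoinRoot (p := (X ^ 2 + X - 1 : F[X])) (by monicity!)
  have := finite_adjoinRoot (p := (X - Polynomial.C (-1:F)) ^ 2) ((monic_X_sub_C _).pow _)
  have hiso := (iso_blocks (iso_blocks (iso_two φ (2 : ZMod 3) 1 (e_Zp hc)) (iso_two φ (2 : ZMod 3) 1 (e_Zp hc))) (iso_two φ (1 : ZMod 3) 2 (e_Jm hc)))
  rw [← map_blocks, ← map_blocks] at hiso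
  let Y : Matrix (Fin 6) (Fin 6) (ZMod 3) := !![2, 0, 1, 1, 0, 1; 0, 0, 1, 2, 2, 0; 2, 0, 0, 0, 2, 0; 0, 1, 2, 1, 0, 1; 2, 1, 2, 0, 1, 1; 2, 1, 2, 1, 1, 2]
  let V : Matrix (Fin 6) (Fin 6) (ZMod 3) := !![1, 0, 0, 0, 0, 0; 0, 1, 0, 0, 0, 0; 0, 0, 1, 0, 0, 0; 0, 0, 0, 1, 0, 0; 0, 0, 0, 0, 1, 0; 0, 0, 0, 0, 0, 1]
  let Z : Matrix (Fin 6) (Fin 6) (ZMod 3) := !![1, 1, 1, 0, 0, 0; 1, 2, 2, 1, 2, 1; 1, 0, 1, 2, 1, 0; 2, 0, 0, 1, 1, 0; 0, 1, 0, 0, 0, 0; 0, 1, 1, 2, 2, 1]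
  exact hiso.symm.comm (comm_of_witness φ (M := (blocks (blocks (companion ![2, 1] : Matrix (Fin 2) (Fin 2) (ZMod 3)) (companion ![2, 1] : Matrix (Fin 2) (Fin 2) (ZMod 3))) (companion ![1, 2] : Matrix (Fin 2) (Fin 2) (ZMod 3)))) (B := (Y * Y)) (X := (V * V * (Z * Z))) (by decide +kernel) (det_sq_one_of_card_three φ h2 (Y := Y) (Y' := (!![2, 1, 1, 1, 1, 1; 0, 1, 1, 2, 0, 2; 0, 1, 1, 1, 2, 0; 2, 1, 0, 2, 0, 1; 1, 2, 1, 2, 2, 2; 1, 2, 0, 1, 2, 0] : Matrix (Fin 6) (Fin 6) (ZMod 3))) (by decide +kernel)) (by rw [Matrix.map_mul, Matrix.det_mul, det_sq_one_of_card_three φ h2 (Y := V) (Y' := (!![1, 0, 0, 0, 0, 0; 0, 1, 0, 0, 0, 0; 0, 0, 1, 0, 0, 0; 0, 0, 0, 1, 0, 0; 0, 0, 0, 0, 1, 0; 0, 0, 0, 0, 0, 1] : Matrix (Fin 6) (Fin 6) (ZMod 3))) (by decide +kernel), det_sq_one_of_card_three φ h2 (Y := Z) (Y' := (!![1, 1, 1, 2, 1, 2; 0, 0, 0, 0, 1, 0; 0, 2,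 2, 1, 1, 1; 1, 2, 0, 0, 0, 1; 0, 2, 1, 0, 1, 1; 1, 2, 2, 2, 2, 2] : Matrix (Fin 6) (Fin 6) (ZMod 3))) (by decide +kernel), one_mul]))

theorem three_Zm_Jp (h2 : Fintype.card F = 3) :
    Comm (((((mroot ((X ^ 2 - X - 1 : F[X])))).prodMap (mroot ((X ^ 2 - X - 1 : F[X]))))).prodMap (mroot ((X - Polynomial.C (1:F)) ^ 2))) := by
  obtain ⟨φ, hc⟩ := exists_hom (F := F) (by norm_num : Nat.Prime 3) h2
  have := finite_adjoinRoot (p := (X ^ 2 - X - 1 : F[X])) (by monicity!)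
  have := finite_adjoinRoot (p := (X - Polynomial.C (1:F)) ^ 2) ((monic_X_sub_C _).pow _)
  have hiso := (iso_blocks (iso_blocks (iso_two φ (2 : ZMod 3) 2 (e_Zm hc)) (iso_two φ (2 : ZMod 3) 2 (e_Zm hc))) (iso_two φ (1 : ZMod 3) 1 (e_Jp hc)))
  rw [← map_blocks, ← map_blocks] at hiso
  let Y : Matrix (Fin 6) (Fin 6) (ZMod 3) := !![2, 0, 2, 2, 1, 0; 1, 1, 1, 1, 1, 1; 0, 0, 2, 1, 2, 0; 0, 2, 0, 0, 1, 0; 1, 2, 2, 0, 0, 1; 1, 1, 0, 1, 0, 1]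
  let V : Matrix (Fin 6) (Fin 6) (ZMod 3) := !![1, 0, 0, 1, 0, 1; 0, 0, 1, 0, 0, 0; 2, 0, 1, 1, 0, 0; 1, 0, 2, 2, 2, 1; 1, 2, 1, 2, 2, 2; 2, 2, 2, 2, 0, 2]
  let Z : Matrix (Fin 6) (Fin 6) (ZMod 3) := !![0, 0, 2, 1, 1, 2; 2, 1, 2, 2, 0, 2; 0, 1, 1, 2, 0, 1; 1, 2, 2, 1, 0, 2; 2, 0, 0, 2, 1, 1; 1, 1, 2, 0, 0, 2]
  exact hiso.symm.comm (comm_of_witness φ (M := (blocks (blocks (companion ![2, 2] : Matrix (Fin 2) (Fin 2) (ZMod 3)) (companion ![2, 2] : Matrix (Fin 2) (Fin 2) (ZMod 3))) (companion ![1, 1] : Matrix (Fin 2) (Fin 2) (ZMod 3)))) (B := (Y * Y)) (X := (V * V * (Z * Z))) (by decide +kernel) (det_sq_one_of_card_three φ h2 (Y := Y) (Y' := (!![2, 0, 0, 1, 1, 2; 0, 1, 2, 1, 2, 0; 0, 0, 1, 1, 1, 2; 0, 1, 1, 0, 0, 2; 0, 1, 2, 2, 2, 0; 1, 1, 0, 1, 0, 0] : Matrix (Fin 6) (Fin 6) (ZMod 3))) (by decide +kernel)) (by rw [Matrix.map_mul, Matrix.det_mul,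 det_sq_one_of_card_three φ h2 (Y := V) (Y' := (!![1, 2, 1, 2, 1, 2; 2, 2, 0, 0, 0, 2; 0, 1, 0, 0, 0, 0; 1, 1, 2, 2, 1, 2; 2, 0, 2, 1, 1, 2; 2, 0, 0, 2, 1, 2] : Matrix (Fin 6) (Fin 6) (ZMod 3))) (by decide +kernel), det_sq_one_of_card_three φ h2 (Y := Z) (Y' := (!![0, 0, 1, 1, 0, 0; 0, 1, 2, 0, 0, 1; 1, 1, 0, 2, 2, 1; 0, 2, 1, 1, 0, 1; 1, 2, 2, 0, 0, 2; 2, 0, 0, 2, 1, 2] : Matrix (Fin 6) (Fin 6) (ZMod 3))) (by decide +kernel), one_mul]))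

theorem three_Zm_Jm (h2 : Fintype.card F = 3) :
    Comm (((((mroot ((X ^ 2 - X - 1 : F[X])))).prodMap (mroot ((X ^ 2 - X - 1 : F[X]))))).prodMap (mroot ((X - Polynomial.C (-1:F)) ^ 2))) := by
  obtain ⟨φ, hc⟩ := exists_hom (F := F) (by norm_num : Nat.Prime 3) h2
  have := finite_adjoinRoot (p := (X ^ 2 - X - 1 : F[X])) (by monicity!)
  have := finite_adjoinRoot (p := (X - Polynomial.C (-1:F)) ^ 2) ((monic_X_sub_C _).pow _)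
  have hiso := (iso_blocks (iso_blocks (iso_two φ (2 : ZMod 3) 2 (e_Zm hc)) (iso_two φ (2 : ZMod 3) 2 (e_Zm hc))) (iso_two φ (1 : ZMod 3) 2 (e_Jm hc)))
  rw [← map_blocks, ← map_blocks] at hiso
  let Y : Matrix (Fin 6) (Fin 6) (ZMod 3) := !![2, 2, 1, 1, 2, 0; 0, 0, 0, 2, 2, 0; 2, 0, 0, 2, 2, 0; 1, 2, 0, 2, 1, 2; 0, 2, 1, 0, 0, 0; 1, 0, 0, 1, 0, 2]
  let V : Matrix (Fin 6) (Fin 6) (ZMod 3) := !![2, 1, 0, 1, 2, 0; 0, 0, 2, 0, 2, 0; 0, 1, 2, 2, 0, 2; 0, 2, 2, 1, 2, 0; 2, 1, 0, 2, 1, 1; 1, 0, 0, 1, 1, 2]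
  let Z : Matrix (Fin 6) (Fin 6) (ZMod 3) := !![1, 1, 2, 2, 1, 2; 1, 0, 1, 2, 0, 0; 0, 1, 2, 0, 1, 2; 2, 1, 2, 0, 0, 1; 0, 0, 0, 1, 2, 2; 1, 2, 0, 2, 1, 1]
  exact hiso.symm.comm (comm_of_witness φ (M := (blocks (blocks (companion ![2, 2] : Matrix (Fin 2) (Fin 2) (ZMod 3)) (companion ![2, 2] : Matrix (Fin 2) (Fin 2) (ZMod 3))) (companion ![1, 2] : Matrix (Fin 2) (Fin 2) (ZMod 3)))) (B := (Y * Y)) (X := (V * V * (Z * Z))) (by decide +kernel) (det_sq_one_of_card_three φ h2 (Y := Y) (Y' := (!![0, 1, 2, 0, 0, 0; 0, 2, 0, 2, 0, 1; 0, 2, 0, 2, 1, 1; 2, 0, 1, 0, 1, 0; 1, 2, 2, 0, 2, 0; 2, 1, 0, 0, 1, 2] : Matrix (Fin 6) (Fin 6) (ZMod 3))) (by decide +kernel)) (by rw [Matrix.map_mul, Matrix.det_mul, det_sq_one_of_card_three φ h2 (Y := V) (Y' := (!![1, 1, 1, 1, 2, 1; 2, 2, 1, 0, 1, 0; 1, 0, 2, 0, 0, 1; 2, 1, 1, 1, 1, 0; 2, 2, 1, 0, 0, 2; 2, 1, 0,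 2, 0, 2] : Matrix (Fin 6) (Fin 6) (ZMod 3))) (by decide +kernel), det_sq_one_of_card_three φ h2 (Y := Z) (Y' := (!![2, 0, 0, 1, 2, 0; 2, 0, 0, 1, 1, 2; 2, 1, 1, 0, 0, 0; 1, 0, 1, 1, 2, 0; 2, 2, 0, 0, 0, 2; 2, 1, 1, 1, 1, 1] : Matrix (Fin 6) (Fin 6) (ZMod 3))) (by decide +kernel), one_mul]))

end Cfsg.Agent.Lib.SLCommutator
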